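import Cfsg.Agent.FG.PClosed
import Cfsg.Agent.Loc.Syl
import Cfsg.Agent.Solv.Fitting
import Cfsg.Agent.Transfer.Residual

/-! Minimal covers by nilpotent subgroups. -/

set_option autoImplicit false

open Subgroup Cfsg.Agent.Loc

namespace Cfsg.Agent.FG

variable {G : Type*} [Group G] {p : ℕ}

/-- `𝓐` is a minimal cover of `G` by nilpotent subgroups. -/
def NCov (𝓐 : Finset (Subgroup G)) : Prop :=
  ((∀ A ∈ 𝓐, A ≠ ⊤) ∧ (∀ g : G, ∃ A ∈ 𝓐, g ∈ A)) ∧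
    (∀ 𝓑 : Finset (Subgroup G), (∀ A ∈ 𝓑, A ≠ ⊤) ∧ (∀ g : G, ∃ A ∈ 𝓑, g ∈ A) → 𝓐.card ≤ 𝓑.card) ∧
    (∀ A ∈ 𝓐, Group.IsNilpotent ↥A)

theorem NCov.eq_of_le {𝓐 : Finset (Subgroup G)} (h : NCov 𝓐) {A B M : Subgroup G} (hA : A ∈ 𝓐) (hB : B ∈ 𝓐)
    (h1 : A ≤ M) (h2 : B ≤ M) (hM : M ≠ ⊤) : A = B := by
  classical
  by_contra hne
  have h3 := h.2.1 (insert M ((𝓐.erase A).erase B)) ⟨fun C hC => by
    rcases Finset.mem_insert.1 hC with rfl | hC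
    · exact hM
    · exact h.1.1 C (Finset.mem_of_mem_erase (Finset.mem_of_mem_erase hC)), fun g => by
    obtain ⟨C, hC, hg⟩ := h.1.2 g
    by_cases e1 : C = A
    · exact ⟨M, Finset.mem_insert_self _ _, h1 (e1 ▸ hg)⟩
    by_cases e2 : C = B
    · exact ⟨M, Finset.mem_insert_self _ _, h2 (e2 ▸ hg)⟩
    exact ⟨C, Finset.mem_insert_of_mem (Finset.mem_erase.2 ⟨e2, Finset.mem_erase.2 ⟨e1, hC⟩⟩), hg⟩⟩
  have h4 := Finset.card_insert_le M ((𝓐.erase A).erase B)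
  have hB' : B ∈ 𝓐.erase A := Finset.mem_erase.2 ⟨Ne.symm hne, hB⟩
  have h5 := Finset.card_erase_add_one hB'
  have h6 := Finset.card_erase_add_one hA
  omega

variable [Finite G] [hp : Fact p.Prime]

theorem pe_comm_of_nilp (hab : ∀ Q : Subgroup G, IsPGroup p Q → ∀ x ∈ Q, ∀ y ∈ Q, x * y = y * x) {A : Subgroup G}
    [Group.IsNilpotent A] {x : G} (hx : x ∈ A) (h : PE p x) : A ≤ centralizer ({x} : Set G) := by
  intro g hg
  obtain ⟨a, b, ha, hb, h1, h2, rfl⟩ := Transfer.exists_pPart_mul_pPrimePart (p := p) g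
  have ha' : a ∈ A := zpowers_le.2 hg ha
  have hb' : b ∈ A := zpowers_le.2 hg hb
  refine mul_mem (mem_centralizer_singleton_iff.2 ?_) ?_
  · let S := peSub p A (isPClosed_sub_iff.1 isPClosed_of_nilpotent)
    exact hab S (fun z => PE.coe.1 z.2.2) a ⟨ha', h1⟩ x ⟨hx, h⟩
  · rw [← centralizer_zpowers]
    refine Solv.le_centralizer_of_coprime_of_isNilpotent (H := A) (zpowers_le.2 hb') (zpowers_le.2 hx) ?_ (mem_zpowers b)
    obtain ⟨k, hk⟩ := IsPGroup.iff_card.1 h.isPGroup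
    rw [hk, Nat.card_zpowers]
    exact h2.pow_right k

theorem NCov.uniq {𝓐 : Finset (Subgroup G)} (h : NCov 𝓐) (hZ : center G = ⊥)
    (hab : ∀ Q : Subgroup G, IsPGroup p Q → ∀ x ∈ Q, ∀ y ∈ Q, x * y = y * x) {A B : Subgroup G} (hA : A ∈ 𝓐)
    (hB : B ∈ 𝓐) {x : G} (hx : PE p x) (h1 : x ≠ 1) (hxA : x ∈ A) (hxB : x ∈ B) : A = B := by
  haveI := h.2.2 A hA
  haveI := h.2.2 B hB
  refine h.eq_of_le hA hB (pe_comm_of_nilp hab hxA hx) (pe_comm_of_nilp hab hxB hx) fun e => h1 ?_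
  rw [← mem_bot, ← hZ, Subgroup.mem_center_iff]
  exact fun g => mem_centralizer_singleton_iff.1 (e ▸ mem_top g)

theorem NCov.cent {𝓐 : Finset (Subgroup G)} (h : NCov 𝓐) (hZ : center G = ⊥)
    (hab : ∀ Q : Subgroup G, IsPGroup p Q → ∀ x ∈ Q, ∀ y ∈ Q, x * y = y * x) {Q : Subgroup G} (hQ : SylIn p Q ⊤)
    (h0 : Q ≠ ⊥) (hc : IsCyclic Q ∨ ∃ y ∈ Q, y ^ p ≠ 1) : ∃ A ∈ 𝓐, Q ≤ A ∧ centralizer (Q : Set G) = A := by
  have hpe : ∀ x ∈ Q, PE p x := fun x hx => PE.coe.2 (hQ.pg ⟨x, hx⟩)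
  obtain ⟨A, hA, hQA⟩ : ∃ A ∈ 𝓐, Q ≤ A := by
    rcases hc with hc | ⟨y, hy, hy1⟩
    · obtain ⟨x, rfl⟩ := (Subgroup.isCyclic_iff_exists_zpowers_eq_top Q).1 hc
      obtain ⟨A, hA, hx⟩ := h.1.2 x
      exact ⟨A, hA, zpowers_le.2 hx⟩
    · obtain ⟨A, hA, hyA⟩ := h.1.2 y
      have h1 : ∀ z ∈ Q, z ^ p = 1 → z ∈ A := by
        intro z hz hzp
        obtain ⟨B, hB, hyz⟩ := h.1.2 (y * z)
        have e : (y * z) ^ p = y ^ p := by
          rw [Commute.mul_pow (hab Q hQ.pg y hy z hz), hzp, mul_one]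
        have := h.uniq hZ hab hA hB (hpe _ (Q.pow_mem hy p)) hy1 (A.pow_mem hyA p) (e ▸ B.pow_mem hyz p)
        exact (A.mul_mem_cancel_left hyA).1 (this ▸ hyz)
      refine ⟨A, hA, fun z hz => ?_⟩
      by_cases hz1 : z = 1
      · exact hz1 ▸ A.one_mem
      obtain ⟨k, hk, hk'⟩ := (hpe z hz).exists_pow hz1
      obtain ⟨B, hB, hzB⟩ := h.1.2 z
      exact h.uniq hZ hab hA hB (PE.of_pow_eq hk') hk (h1 _ (Q.pow_mem hz _) hk') (B.pow_mem hzB _) ▸ hzB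
  refine ⟨A, hA, hQA, le_antisymm (fun g hg => ?_) fun g hg x hx => ?_⟩
  · obtain ⟨a, b, ha, hb, h1, h2, rfl⟩ := Transfer.exists_pPart_mul_pPrimePart (p := p) g
    have ha' : a ∈ centralizer (Q : Set G) := zpowers_le.2 hg ha
    have hb' : b ∈ centralizer (Q : Set G) := zpowers_le.2 hg hb
    refine mul_mem (hQA (hQ.le_of_normalizes le_top (PE.isPGroup h1)
      (zpowers_le.2 (centralizer_le_normalizer _ ha')) (mem_zpowers a))) ?_
    obtain ⟨x, hx⟩ := (ne_bot_iff_exists_ne_one).1 h0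
    have hx1 : (x : G) ≠ 1 := fun e => hx (Subtype.ext e)
    obtain ⟨B, hB, hxb⟩ := h.1.2 (x * b)
    have hcm : Commute (x : G) b := hb' x x.2
    obtain ⟨k, hk⟩ := hpe x x.2
    have h3 : (x : G) ^ orderOf b ∈ B := by
      have := B.pow_mem hxb (orderOf b)
      rwa [hcm.mul_pow, pow_orderOf_eq_one, mul_one] at this
    have h4 : (x : G) ^ orderOf b ≠ 1 := fun e =>
      hx1 ((hpe x x.2).eq_one_of_pow ((Nat.Prime.coprime_iff_not_dvd hp.out).1 h2.symm) e)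
    have := h.uniq hZ hab hA hB (hpe _ (Q.pow_mem x.2 _)) h4 (A.pow_mem (hQA x.2) _) h3
    exact (A.mul_mem_cancel_left (hQA x.2)).1 (this ▸ hxb)
  · haveI := h.2.2 A hA
    exact (mem_centralizer_singleton_iff.1 (pe_comm_of_nilp hab (hQA hx) (hpe x hx) hg)).symm

theorem comm_of_sylIn {P : Subgroup G} (hP : SylIn p P ⊤) (hab : IsMulCommutative P) (Q : Subgroup G) (hQ : IsPGroup p Q) :
    ∀ x ∈ Q, ∀ y ∈ Q, x * y = y * x := by
  obtain ⟨g, -, hg⟩ := hP.exists_le_conj le_top hQ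
  exact fun x hx y hy => congrArg Subtype.val ((isMulCommutative_cj g hab).is_comm.comm ⟨x, hg hx⟩ ⟨y, hg hy⟩)

/-- The main dichotomy: every proper subgroup over `C(P)` normalizes `P`, and `P` is TI. -/
theorem NCov.main {𝓐 : Finset (Subgroup G)} (h : NCov 𝓐) (hZ : center G = ⊥) {P : Subgroup G} (hP : SylIn p P ⊤)
    (hab : IsMulCommutative P) (h0 : P ≠ ⊥) (hc : IsCyclic P ∨ ∃ y ∈ P, y ^ p ≠ 1) :
    ∃ A ∈ 𝓐, P ≤ A ∧ centralizer (P : Set G) = A ∧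
      (∀ M : Subgroup G, M ≠ ⊤ → A ≤ M → M ≤ normalizer (P : Set G)) ∧
      ∀ g : G, ∀ x ∈ P, x ∈ cj g P → x ≠ 1 → g ∈ normalizer (P : Set G) := by
  have hab' := comm_of_sylIn hP hab
  obtain ⟨A, hA, h1, h2⟩ := h.cent hZ hab' hP h0 hc
  have hg : ∀ g : G, ∃ B ∈ 𝓐, cj g P ≤ B ∧ centralizer ((cj g P : Subgroup G) : Set G) = B := fun g =>
    h.cent hZ hab' (hP.conj_of_mem (mem_top g)) (by rwa [Ne, cj_eq_bot_iff]) (by
      rcases hc with hc | ⟨y, hy, hy1⟩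
      · exact Or.inl (isCyclic_of_surjective _ (cjEquiv g P).surjective)
      · exact Or.inr ⟨_, conj_mem_cj hy, by rw [conj_pow]; simpa using hy1⟩)
  have key : ∀ g : G, cj g P ≤ A → g ∈ normalizer (P : Set G) := fun g hle =>
    mem_normalizer_of_cj_le (hP.le_of_normalizes le_top (isPGroup_cj g hP.pg)
      (hle.trans (h2 ▸ centralizer_le_normalizer _)))
  refine ⟨A, hA, h1, h2, fun M hM hle m hm => ?_, fun g x hx hx' hx1 => ?_⟩
  · obtain ⟨B, hB, h3, h4⟩ := hg m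
    refine key m ((h.eq_of_le hA hB hle ?_ hM) ▸ h3)
    rw [← h4, ← cj_centralizer, h2]
    exact cj_le_of_mem hm hle
  · obtain ⟨B, hB, h3, -⟩ := hg g
    exact key g (h.uniq hZ hab' hA hB (PE.coe.2 (hP.pg ⟨x, hx⟩)) hx1 (h1 hx) (h3 hx') ▸ h3)

theorem coatom_of_main {P A : Subgroup G} (hnn : ¬ P.Normal) (h2 : centralizer (P : Set G) = A)
    (h : ∀ M : Subgroup G, M ≠ ⊤ → A ≤ M → M ≤ normalizer (P : Set G)) : IsCoatom (normalizer (P : Set G)) := by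
  refine ⟨fun e => hnn (normalizer_eq_top_iff.1 e), fun M hM => ?_⟩
  by_contra hne
  exact hM.not_ge (h M hne ((h2 ▸ centralizer_le_normalizer _).trans hM.le))

end Cfsg.Agent.FG
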