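import Cfsg.Agent.FG.Sims
import Cfsg.Agent.Perm.SchurField
import Cfsg.Agent.Perm.Basic
import Cfsg.Agent.Solv.MinNormal
import Cfsg.Agent.Solv.Fitting

/-! Extremely primitive groups (Manning's theorem and consequences). -/

set_option autoImplicit false

open MulAction Subgroup

namespace Cfsg.Agent.FG

/-- In a finite field generated (as additive group) by the powers of `a`: fixed by Frobenius powers. -/
theorem field_le_of_pow {K : Type*} [Field K] [Fintype K] {p d : ℕ} (hp : p.Prime) (hK : Fintype.card K = p ^ d)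
    {a : K} (hirr : ∀ U : AddSubgroup K, (∀ x ∈ U, a * x ∈ U) → U = ⊥ ∨ U = ⊤) {i : ℕ} (hi : 0 < i)
    (h : a ^ p ^ i = a) : d ≤ i := by
  haveI : Fact p.Prime := ⟨hp⟩
  obtain ⟨r, hr⟩ := CharP.exists K
  obtain ⟨n, hr', hn⟩ := FiniteField.card K r
  have hrp : r = p := by
    have : r ∣ p ^ d := by rw [← hK, hn]; exact dvd_pow_self r n.ne_zero
    exact (Nat.prime_dvd_prime_iff_eq hr' hp).1 (hr'.dvd_of_dvd_pow this)
  subst hrp
  let U : AddSubgroup K := (iterateFrobenius K r i).toAddMonoidHom.eqLocus (AddMonoidHom.id K)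
  have hU : ∀ x, x ∈ U ↔ x ^ r ^ i = x := fun x => Iff.rfl
  rcases hirr U (fun x hx => by rw [hU] at hx ⊢; rw [mul_pow, h, hx]) with h1 | h1
  · have : (1 : K) ∈ U := by rw [hU]; simp
    rw [h1] at this; exact absurd (AddSubgroup.mem_bot.1 this) one_ne_zero
  · have h2 : ∀ x : Kˣ, x ^ (r ^ i - 1) = 1 := by
      intro x
      have h3 : (x : K) ^ r ^ i = x := (hU x).1 (h1 ▸ AddSubgroup.mem_top _)
      have h4 : x ^ r ^ i = x := Units.ext (by simpa using h3)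
      have h5 : r ^ i = (r ^ i - 1) + 1 := (Nat.sub_add_cancel (Nat.one_le_pow _ _ hp.pos)).symm
      rw [h5, pow_succ] at h4
      exact mul_eq_right.1 h4
    rw [FiniteField.forall_pow_eq_one_iff, hK] at h2
    have h6 : 1 < r ^ i := Nat.one_lt_pow hi.ne' hp.one_lt
    have := Nat.le_of_dvd (by omega) h2
    have h7 : r ^ d ≤ r ^ i := by have := Nat.one_le_pow d r hp.pos; omega
    exact (Nat.pow_le_pow_iff_right hp.one_lt).1 h7

/-- A semilinear map with respect to a generator `a` sends `a` to a Frobenius conjugate. -/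
theorem field_semi {K : Type*} [Field K] [Fintype K] {p d : ℕ} (hp : p.Prime) (hK : Fintype.card K = p ^ d)
    {a : K} (hirr : ∀ U : AddSubgroup K, (∀ x ∈ U, a * x ∈ U) → U = ⊥ ∨ U = ⊤) (φ : K →+ K) (h1 : φ 1 ≠ 0)
    {b : K} (h : ∀ x, φ (a * x) = b * φ x) : ∃ i, b = a ^ p ^ i := by
  haveI : Fact p.Prime := ⟨hp⟩
  obtain ⟨r, hr⟩ := CharP.exists K
  obtain ⟨n, hr', hn⟩ := FiniteField.card K r
  have hrp : r = p := by
    have : r ∣ p ^ d := by rw [← hK, hn]; exact dvd_pow_self r n.ne_zero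
    exact (Nat.prime_dvd_prime_iff_eq hr' hp).1 (hr'.dvd_of_dvd_pow this)
  subst hrp
  let U : AddSubgroup K :=
    { carrier := {y | ∀ x, φ (y * x) * φ 1 = φ y * φ x}
      add_mem' := fun {y z} hy hz x => by rw [add_mul, map_add, map_add, add_mul, add_mul, hy x, hz x]
      zero_mem' := fun x => by simp
      neg_mem' := fun {y} hy x => by rw [neg_mul, map_neg, map_neg, neg_mul, neg_mul, hy x] }
  have hU : ∀ y x, φ (y * x) * φ 1 = φ y * φ x := by
    rcases hirr U (fun y hy x => by rw [mul_assoc a, h, h, mul_assoc, hy x, mul_assoc]) with h2 | h2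
    · have : (1 : K) ∈ U := fun x => by rw [one_mul, mul_comm]
      rw [h2] at this; exact absurd (AddSubgroup.mem_bot.1 this) one_ne_zero
    · intro y; exact (h2 ▸ AddSubgroup.mem_top y : y ∈ U)
  let σ : K →+* K :=
    { toFun := fun x => φ x / φ 1
      map_one' := div_self h1
      map_mul' := fun x y => by field_simp; rw [hU]
      map_zero' := by simp
      map_add' := fun x y => by rw [map_add, add_div] }
  letI : Algebra (ZMod r) K := ZMod.algebra K r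
  let σ' : K →ₐ[ZMod r] K :=
    { σ with commutes' := fun c => DFunLike.congr_fun (RingHom.ext_zmod (σ.comp (algebraMap (ZMod r) K)) (algebraMap _ _)) c }
  obtain ⟨i, hi⟩ := FiniteField.exists_forall_apply_eq_pow (ZMod r) r K
    (AlgEquiv.ofBijective σ' (Finite.injective_iff_bijective.1 σ.injective))
  refine ⟨i, ?_⟩
  have := hi a
  rw [Nat.card_zmod] at this
  rw [← this]
  show b = φ a / φ 1
  have h3 := h 1
  rw [mul_one] at h3
  rw [h3, mul_div_assoc, div_self h1, mul_one]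

variable {G Ω : Type*} [Group G] [MulAction G Ω]

local notation "St" => stabilizer G

theorem eq_univ_of_two_stab [FaithfulSMul G Ω] [IsPreprimitive G Ω] {a b : Ω} (hab : a ≠ b) (h0 : St a ≠ ⊥)
    {S : Set Ω} [Finite S] (ha : ∀ g ∈ St a, ∀ x ∈ S, g • x ∈ S) (hb : ∀ g ∈ St b, ∀ x ∈ S, g • x ∈ S)
    {x : Ω} (hx : x ∈ S) : S = Set.univ := by
  haveI : Nontrivial Ω := ⟨a, b, hab⟩
  let T : Subgroup G :=
    { carrier := {g | ∀ y, y ∈ S ↔ g • y ∈ S}
      mul_mem' := fun {g h} hg hh y => by rw [mul_smul, ← hg, ← hh]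
      one_mem' := fun y => by rw [one_smul]
      inv_mem' := fun {g} hg y => by rw [hg (g⁻¹ • y), smul_inv_smul] }
  have key : ∀ c : Ω, (∀ g ∈ St c, ∀ x ∈ S, g • x ∈ S) → St c ≤ T := fun c hc g hg y =>
    ⟨hc g hg y, fun h => by simpa using hc g⁻¹ (inv_mem hg) _ h⟩
  rcases (IsPreprimitive.isCoatom_stabilizer_of_isPreprimitive G b).le_iff.1 (key b hb) with h | h
  · rw [Set.eq_univ_iff_forall]
    intro y
    obtain ⟨g, rfl⟩ := exists_smul_eq G x y
    exact ((h ▸ mem_top g : g ∈ T) x).1 hx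
  · exact absurd (stabilizer_eq_bot_of_le hab (h ▸ key a ha)) h0

theorem ncard_in_eq_out [Finite Ω] [IsPretransitive G Ω] (r : Ω → Ω → Prop)
    (hr : ∀ (g : G) x y, r x y → r (g • x) (g • y)) (a b : Ω) : {y | r a y}.ncard = {x | r x b}.ncard := by
  classical
  haveI := Fintype.ofFinite Ω
  have hr' : ∀ (g : G) x y, r (g • x) (g • y) ↔ r x y := fun g x y =>
    ⟨fun h => by simpa using hr g⁻¹ _ _ h, hr g x y⟩
  have h1 : ∀ x, {y | r x y}.ncard = {y | r a y}.ncard := by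
    intro x
    obtain ⟨g, rfl⟩ := exists_smul_eq G a x
    symm
    refine Set.ncard_congr (fun y _ => g • y) (fun y hy => hr g _ _ hy) (fun y z _ _ h => MulAction.injective g h)
      (fun y hy => ⟨g⁻¹ • y, ?_, by simp⟩)
    have := hr g⁻¹ _ _ hy
    rwa [inv_smul_smul] at this
  have h2 : ∀ y, {x | r x y}.ncard = {x | r x b}.ncard := by
    intro x
    obtain ⟨g, rfl⟩ := exists_smul_eq G b x
    symm
    refine Set.ncard_congr (fun y _ => g • y) (fun y hy => hr g _ _ hy) (fun y z _ _ h => MulAction.injective g h)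
      (fun y hy => ⟨g⁻¹ • y, ?_, by simp⟩)
    have := hr g⁻¹ _ _ hy
    rwa [inv_smul_smul] at this
  have h3 := Finset.sum_card_bipartiteAbove_eq_sum_card_bipartiteBelow (s := Finset.univ) (t := Finset.univ) r
  have h4 : ∀ x, (Finset.bipartiteAbove r Finset.univ x).card = {y | r a y}.ncard := by
    intro x; rw [← h1 x, ← Set.ncard_coe_finset]; congr 1; ext; simp
  have h5 : ∀ x, (Finset.bipartiteBelow r Finset.univ x).card = {x | r x b}.ncard := by
    intro x; rw [← h2 x, ← Set.ncard_coe_finset]; congr 1; ext; simp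
  simp only [h4, h5, Finset.sum_const, smul_eq_mul] at h3
  haveI : Nonempty Ω := ⟨a⟩
  exact Nat.eq_of_mul_eq_mul_left (Finset.card_pos.2 Finset.univ_nonempty) h3

theorem orbit_eq_of_moved {α : Ω} {K : Subgroup G} (hK : K ≤ St α) (hn : St α ≤ normalizer (K : Set G)) {ω : Ω}
    (hep : IsPreprimitive (St α) (orbit (St α) ω)) (hm : ∃ k ∈ K, k • ω ≠ ω) :
    orbit K ω = orbit (St α) ω := by
  haveI : (K.subgroupOf (St α)).Normal := (normal_subgroupOf_iff_le_normalizer hK).2 hn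
  have ht : IsPretransitive (K.subgroupOf (St α)) (orbit (St α) ω) := by
    apply IsQuasiPreprimitive.isPretransitive_of_normal
    intro h
    obtain ⟨k, hk, hne⟩ := hm
    have : (⟨ω, mem_orbit_self ω⟩ : orbit (St α) ω) ∈ fixedPoints (K.subgroupOf (St α)) (orbit (St α) ω) :=
      h ▸ Set.mem_univ _
    exact hne (congrArg Subtype.val (this ⟨⟨k, hK hk⟩, hk⟩))
  ext y
  constructor
  · rintro ⟨k, rfl⟩; exact ⟨⟨k, hK k.2⟩, rfl⟩
  · intro hy
    obtain ⟨k, hk⟩ := ht.exists_smul_eq ⟨ω, mem_orbit_self ω⟩ ⟨y, hy⟩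
    exact ⟨⟨k.1.1, k.2⟩, congrArg Subtype.val hk⟩

variable [Finite G] [Finite Ω] [FaithfulSMul G Ω] [IsPreprimitive G Ω]

/-- Manning's theorem. -/
theorem manning {α : Ω} (hep : ∀ ω : Ω, IsPreprimitive (St α) (orbit (St α) ω)) {K : Subgroup G} (h0 : K ≠ ⊥)
    (hK : K ≤ St α) (hn : St α ≤ normalizer (K : Set G)) {ω : Ω} (hω : ω ≠ α) : ∃ k ∈ K, k • ω ≠ ω := by
  by_contra hfix
  push Not at hfix
  have hS : St α ≠ ⊥ := fun h => h0 (eq_bot_iff.2 (h ▸ hK))
  let F : Set Ω := {y | ∀ k ∈ K, k • y = y}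
  have hF : ∀ g ∈ St α, ∀ y ∈ F, g • y ∈ F := by
    intro g hg y hy k hk
    have := hy (g⁻¹ * k * g) (by simpa using (mem_normalizer_iff.1 (hn (inv_mem hg)) k).1 hk)
    rw [mul_smul, mul_smul, inv_smul_eq_iff] at this
    exact this
  let A : Ω → Ω → Prop := fun x y => y ≠ x ∧ ∃ g : G, g • α = x ∧ g⁻¹ • y ∈ F
  have hA : ∀ (g : G) x y, A x y → A (g • x) (g • y) := by
    rintro g x y ⟨h1, h, rfl, h2⟩
    exact ⟨fun e => h1 (MulAction.injective g e), g * h, mul_smul _ _ _, by simpa [mul_smul] using h2⟩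
  have hAα : ∀ y, A α y → y ∈ F := by
    rintro y ⟨_, g, hg, h2⟩
    simpa using hF g hg _ h2
  obtain ⟨γ₀, hγ₀⟩ : ∃ γ, γ ∉ F := by
    by_contra h
    push Not at h
    apply h0
    rw [eq_bot_iff]
    intro k hk
    exact mem_bot.2 (FaithfulSMul.eq_of_smul_eq_smul (α := Ω) fun y => by rw [h y k hk, one_smul])
  obtain ⟨γ, hγ, hmax⟩ := Set.exists_max_image Fᶜ (fun y => (orbit (St α) y).ncard) (Set.toFinite _) ⟨γ₀, hγ₀⟩
  have hγα : γ ≠ α := by rintro rfl; exact hγ fun k hk => hK hk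
  have hmv : ∃ k ∈ K, k • γ ≠ γ := by
    by_contra h; push Not at h; exact hγ h
  have hsub : {y | A α y} ⊆ {x | A x γ} := by
    intro β hβ
    have hβF := hAα β hβ
    obtain ⟨g, hg⟩ := exists_smul_eq G α β
    refine ⟨fun e => hγ (e ▸ hβF), g, hg, ?_⟩
    by_contra hnot
    have h1 := hmax _ hnot
    have h2 : (orbit (St β) γ).ncard = (orbit (St α) (g⁻¹ • γ)).ncard := by
      refine Set.ncard_congr (fun y _ => g⁻¹ • y) ?_ (fun y z _ _ h => MulAction.injective _ h) ?_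
      · rintro _ ⟨h, rfl⟩
        refine ⟨⟨g⁻¹ * h * g, ?_⟩, ?_⟩
        · rw [mem_stabilizer_iff, mul_smul, mul_smul, hg, h.2, ← hg, inv_smul_smul]
        · simp [mul_smul, Subgroup.smul_def]
      · rintro _ ⟨h, rfl⟩
        refine ⟨(g * h * g⁻¹) • γ, ⟨⟨g * h * g⁻¹, ?_⟩, rfl⟩, ?_⟩
        · rw [mem_stabilizer_iff, mul_smul, mul_smul, ← hg, inv_smul_smul, h.2]
        · simp [mul_smul, Subgroup.smul_def]
    have h3 : orbit (St α) γ ⊆ orbit (St β) γ := by
      rw [← orbit_eq_of_moved hK hn (hep γ) hmv]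
      rintro _ ⟨k, rfl⟩
      exact ⟨⟨k, hβF k k.2⟩, rfl⟩
    have h4 : orbit (St α) γ = orbit (St β) γ := Set.eq_of_subset_of_ncard_le h3 (h2 ▸ h1)
    have h5 := eq_univ_of_two_stab hβ.1.symm hS (S := orbit (St α) γ)
      (by rintro g hg _ ⟨h, rfl⟩; exact ⟨⟨g, hg⟩ * h, mul_smul _ _ _⟩)
      (by rw [h4]; rintro g hg _ ⟨h, rfl⟩; exact ⟨⟨g, hg⟩ * h, mul_smul _ _ _⟩) (mem_orbit_self γ)
    obtain ⟨h, hh⟩ : α ∈ orbit (St α) γ := h5 ▸ Set.mem_univ α
    apply hγα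
    have h6 : (h : G) • γ = (h : G) • α := by rw [h.2]; exact hh
    exact MulAction.injective _ h6
  have heq := Set.eq_of_subset_of_ncard_le hsub (ncard_in_eq_out A hA α γ).ge
  have h7 := eq_univ_of_two_stab hγα.symm hS (S := {y | A α y})
    (fun g hg y hy => by have := hA g _ _ hy; rwa [mem_stabilizer_iff.1 hg] at this)
    (by rw [heq]; exact fun g hg y hy => by have := hA g _ _ hy; rwa [mem_stabilizer_iff.1 hg] at this)
    (x := ω) ⟨hω, 1, one_smul _ _, by rw [inv_one, one_smul]; exact hfix⟩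
  exact (h7 ▸ Set.mem_univ α : α ∈ {y | A α y}).1 rfl

section
variable {α : Ω} (hep : ∀ ω : Ω, IsPreprimitive ↥(stabilizer G α) ↥(orbit ↥(stabilizer G α) ω))
include hep

theorem ep_orbit_eq {K : Subgroup G} (h0 : K ≠ ⊥) (hK : K ≤ St α) (hn : St α ≤ normalizer (K : Set G)) (ω : Ω) :
    orbit K ω = orbit (St α) ω := by
  by_cases hω : ω = α
  · subst hω
    ext y
    constructor
    · rintro ⟨k, rfl⟩; exact ⟨⟨k, hK k.2⟩, rfl⟩
    · rintro ⟨k, rfl⟩; exact ⟨1, (one_smul _ _).trans k.2.symm⟩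
  · exact orbit_eq_of_moved hK hn (hep ω) (manning hep h0 hK hn hω)

theorem ep_faithful {ω : Ω} (hω : ω ≠ α) {h : G} (hh : h ∈ St α) (hfix : ∀ x ∈ orbit (St α) ω, h • x = x) :
    h = 1 := by
  let K : Subgroup G := St α ⊓ fixingSubgroup G (orbit (St α) ω)
  have hK : ∀ g, g ∈ K ↔ g ∈ St α ∧ ∀ x ∈ orbit (St α) ω, g • x = x := fun g => by
    simp only [K, mem_inf, mem_fixingSubgroup_iff]
  by_contra hne
  have h0 : K ≠ ⊥ := fun e => hne (mem_bot.1 (e ▸ (hK h).2 ⟨hh, hfix⟩))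
  have hc : ∀ g ∈ St α, ∀ k ∈ K, g * k * g⁻¹ ∈ K := by
    intro g hg k hk
    rw [hK] at hk ⊢
    refine ⟨mul_mem (mul_mem hg hk.1) (inv_mem hg), ?_⟩
    rintro _ ⟨u, rfl⟩
    have h5 : g⁻¹ • u • ω ∈ orbit (St α) ω := ⟨(⟨g, hg⟩ : St α)⁻¹ * u, mul_smul _ _ _⟩
    show (g * k * g⁻¹) • u • ω = u • ω
    rw [mul_smul, mul_smul, hk.2 _ h5, smul_inv_smul]
  obtain ⟨k, hk, hm⟩ := manning hep h0 inf_le_left (fun g hg => mem_normalizer_iff.2 fun k =>
    ⟨hc g hg k, fun h => by simpa [mul_assoc] using hc g⁻¹ (inv_mem hg) _ h⟩) hω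
  exact hm (((hK k).1 hk).2 ω (mem_orbit_self ω))

/-- an element of `G_α` centralizing a nontrivial normal subgroup and fixing a second point is trivial -/
theorem ep_eq_one {K : Subgroup G} (h0 : K ≠ ⊥) (hK : K ≤ St α) (hn : St α ≤ normalizer (K : Set G)) {ω : Ω}
    (hω : ω ≠ α) {c : G} (hc : c ∈ St α) (hcK : ∀ k ∈ K, k * c = c * k) (hcω : c • ω = ω) : c = 1 := by
  refine ep_faithful hep hω hc ?_
  rw [← ep_orbit_eq hep h0 hK hn]
  rintro _ ⟨k, rfl⟩
  show c • (k : G) • ω = (k : G) • ω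
  rw [← mul_smul, ← hcK k k.2, mul_smul, hcω]

theorem ep_mem_of_centralizes {K : Subgroup G} (h0 : K ≠ ⊥) (hK : K ≤ St α) (hn : St α ≤ normalizer (K : Set G))
    (hab : ∀ x ∈ K, ∀ y ∈ K, x * y = y * x) {c : G} (hc : c ∈ St α) (hcK : ∀ k ∈ K, k * c = c * k) : c ∈ K := by
  obtain ⟨ω, hω⟩ : ∃ ω, ω ≠ α := by
    by_contra h
    push Not at h
    apply h0
    rw [eq_bot_iff]
    intro k hk
    exact mem_bot.2 (FaithfulSMul.eq_of_smul_eq_smul (α := Ω) fun y => by rw [h (k • y), h ((1 : G) • y)])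
  obtain ⟨k, hk⟩ : c • ω ∈ orbit K ω := by rw [ep_orbit_eq hep h0 hK hn]; exact ⟨⟨c, hc⟩, rfl⟩
  have := ep_eq_one hep h0 hK hn hω (c := (k : G)⁻¹ * c) (mul_mem (inv_mem (hK k.2)) hc)
    (fun u hu => by rw [← mul_assoc, hab u hu _ (inv_mem k.2), mul_assoc, hcK u hu, mul_assoc])
    (by rw [mul_smul, inv_smul_eq_iff]; exact hk.symm)
  rw [inv_mul_eq_one] at this
  exact this ▸ k.2

theorem ep_card_orbit {K : Subgroup G} (h0 : K ≠ ⊥) (hK : K ≤ St α) (hn : St α ≤ normalizer (K : Set G))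
    (hab : ∀ x ∈ K, ∀ y ∈ K, x * y = y * x) {ω : Ω} (hω : ω ≠ α) : Nat.card (orbit (St α) ω) = Nat.card K := by
  rw [← ep_orbit_eq hep h0 hK hn, ← Cfsg.Agent.Perm.card_orbit_mul_card_stabilizer (G := K) ω,
    (Cfsg.Agent.Perm.stabilizer_eq_bot_iff K ω).2 fun k hk h => ep_eq_one hep h0 hK hn hω (hK hk)
      (fun u hu => hab u hu k hk) h, card_bot, mul_one]

theorem ep_card_dvd {K : Subgroup G} (h0 : K ≠ ⊥) (hK : K ≤ St α) (hn : St α ≤ normalizer (K : Set G))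
    (hab : ∀ x ∈ K, ∀ y ∈ K, x * y = y * x) : Nat.card K ∣ Nat.card Ω - 1 := by
  let S : SubMulAction K Ω := ⟨{ω | ω ≠ α}, fun k ω hω h => hω (by
    have h2 : (k : G) • α = α := hK k.2
    exact MulAction.injective (k : G) (h.trans h2.symm))⟩
  have h1 : Nat.card S = Nat.card Ω - 1 := by
    classical
    haveI := Fintype.ofFinite Ω
    rw [show Nat.card S = Nat.card {ω // ω ≠ α} from rfl]
    simp
  rw [← h1]
  have := MulAction.selfEquivOrbitsQuotientProd (G := K) (X := S) (fun x => by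
    rw [eq_bot_iff]
    intro k hk
    exact mem_bot.2 (Subtype.ext (ep_eq_one hep h0 hK hn x.2 (hK k.2) (fun u hu => hab u hu k k.2)
      (congrArg Subtype.val hk))))
  rw [Nat.card_congr this, Nat.card_prod]
  exact dvd_mul_left _ _

theorem ep_irred {N : Subgroup G} [hN : N.Normal] (hNc : ∀ x ∈ N, ∀ y ∈ N, x * y = y * x)
    (ht : IsPretransitive N Ω) (hr : ∀ u ∈ N, u • α = α → u = 1) {K : Subgroup G} (h0 : K ≠ ⊥) (hK : K ≤ St α)
    (hn : St α ≤ normalizer (K : Set G)) (L : Subgroup G) (hL : L ≤ N) (hKL : ∀ k ∈ K, ∀ l ∈ L, k * l * k⁻¹ ∈ L) :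
    L = ⊥ ∨ L = N := by
  have h1 : ∀ h ∈ St α, ∀ l ∈ L, h * l * h⁻¹ ∈ L := by
    intro h hh l hl
    obtain ⟨k, hk⟩ : h • l • α ∈ orbit K (l • α) := by rw [ep_orbit_eq hep h0 hK hn]; exact ⟨⟨h, hh⟩, rfl⟩
    have : h * l * h⁻¹ = k * l * (k : G)⁻¹ := by
      refine Cfsg.Agent.Perm.eq_of_smul_eq_of_semiregular hr (hN.conj_mem l (hL hl) h) (hN.conj_mem l (hL hl) k) ?_
      rw [mul_smul, mul_smul, mul_smul, mul_smul, mem_stabilizer_iff.1 (inv_mem hh),
        mem_stabilizer_iff.1 (inv_mem (hK k.2))]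
      exact hk.symm
    rw [this]; exact hKL k k.2 l hl
  haveI : L.Normal := ⟨fun l hl g => by
    obtain ⟨n, hn⟩ := ht.exists_smul_eq α (g • α)
    have h2 : (n : G)⁻¹ * g ∈ St α := by rw [mem_stabilizer_iff, mul_smul, inv_smul_eq_iff]; exact hn.symm
    have h3 := h1 _ h2 l hl
    have h4 : g * l * g⁻¹ = n * ((n : G)⁻¹ * g * l * ((n : G)⁻¹ * g)⁻¹) * (n : G)⁻¹ := by group
    rw [h4, hNc _ n.2 _ (hL h3), mul_inv_cancel_right]; exact h3⟩
  by_cases hb : L = ⊥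
  · exact Or.inl hb
  · right
    refine le_antisymm hL fun n hn => ?_
    obtain ⟨l, hl⟩ := (Cfsg.Agent.Perm.isPretransitive_of_normal (α := Ω) L hb).exists_smul_eq α (n • α)
    rw [← Cfsg.Agent.Perm.eq_of_smul_eq_of_semiregular hr (hL l.2) hn hl]; exact l.2

end

end Cfsg.Agent.FG
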