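import Cfsg.Agent.Comp.Class
import Cfsg.Agent.PGrp.ES

/-! A listed subgroup is extraspecial: `ES_of_lists`. -/

set_option autoImplicit false

namespace Cfsg.Agent.FG

open Cfsg.Agent.Comp Subgroup

/-- test for an extraspecial 2-group with centre `{one, z}` -/
def esOK (mul : ℕ → ℕ → ℕ) (one z : ℕ) (l : List ℕ) : Bool := forceL l fun l =>
  band (band (!Nat.beq z one) (Nat.beq (mul z z) one)) (allL l fun a => band (commC mul z a)
    (band (bor (Nat.beq (mul a a) one) (Nat.beq (mul a a) z))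
      (band (bor (bor (Nat.beq a one) (Nat.beq a z)) (anyL l fun b => !commC mul a b))
        (allL l fun b => force (mul a b) fun x => force (mul b a) fun y => bor (Nat.beq x y) (Nat.beq x (mul z y))))))

theorem ES_of_lists {G : Type*} [Group G] [Finite G] {R : ℕ → G → Prop} {mul : ℕ → ℕ → ℕ} {inv : ℕ → ℕ} {one : ℕ}
    (hG : IsGrp R mul inv one) (hC : IsCanon R) {l : List ℕ} {Q : Subgroup G} (hl : Lists R l Q) (hQ : CodesIn R l Q)
    {c : ℕ} {z : G} (hz : R c z) (hzQ : z ∈ Q) (h2 : Nat.card Q ≠ 2) (h : esOK mul one c l = true) :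
    IsExtraspecial 2 Q := by
  simp only [esOK, forceL_eq, band_eq, bor_eq, Bool.and_eq_true, Bool.or_eq_true, allL_iff, anyL_iff, force_eq, nbeq,
    Bool.not_eq_true', nbeq_false] at h
  obtain ⟨⟨h0, h1⟩, h⟩ := h
  have k : PGrp.IsES 2 (⟨z, hzQ⟩ : Q) := by
    refine ⟨orderOf_eq_prime (Subtype.ext ((sq z).trans ((hC.eq_iff (hG.mul hz hz) hG.one).2 h1)))
      fun e => h0 ((hC.eq_iff hz hG.one).1 (congrArg Subtype.val e)), mem_center_iff.2 fun x => ?_, fun x y => ?_, fun x => ?_⟩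
    · obtain ⟨a, ha, r⟩ := hl x x.2
      exact Subtype.ext ((commC_iff hG hC hz r).2 (h a ha).1).symm
    · obtain ⟨a, ha, r⟩ := hl x x.2
      obtain ⟨b, hb, s⟩ := hl y y.2
      rcases (h a ha).2.2.2 b hb with e | e
      · rw [commutatorElement_eq_one_iff_mul_comm.2 (Subtype.ext ((hC.eq_iff (hG.mul r s) (hG.mul s r)).2 e))]
        exact one_mem _
      · rw [commutatorElement_def, show x * y = ⟨z, hzQ⟩ * (y * x) from
          Subtype.ext ((hC.eq_iff (hG.mul r s) (hG.mul hz (hG.mul s r))).2 e)]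
        simp [mul_assoc]
    obtain ⟨a, ha, r⟩ := hl x x.2
    rcases (h a ha).2.1 with e | e
    · rw [sq, show x * x = 1 from Subtype.ext ((hC.eq_iff (hG.mul r r) hG.one).2 e)]; exact one_mem _
    · rw [sq, show x * x = ⟨z, hzQ⟩ from Subtype.ext ((hC.eq_iff (hG.mul r r) hz).2 e)]; exact mem_zpowers _
  have hZ : center Q = zpowers ⟨z, hzQ⟩ := le_antisymm (fun x hx => by
    obtain ⟨a, ha, r⟩ := hl x x.2
    rcases (h a ha).2.2.1 with (e | e) | ⟨b, hb, e⟩
    · rw [show x = 1 from Subtype.ext ((hC.eq_iff r hG.one).2 e)]; exact one_mem _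
    · rw [show x = ⟨z, hzQ⟩ from Subtype.ext ((hC.eq_iff r hz).2 e)]; exact mem_zpowers _
    obtain ⟨y, hy, s⟩ := hQ b hb
    rw [(commC_iff hG hC r s).1 (congrArg Subtype.val (mem_center_iff.1 hx ⟨y, hy⟩)).symm] at e
    exact absurd e (by decide)) k.le_center
  exact k.isExtraspecial hZ fun hc => h2 (by rw [← card_top, ← center_eq_top, hZ, k.card_zpowers])

end Cfsg.Agent.FG
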