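import Cfsg.Agent.FG.PClosed

/-! Minimal non-`p`-exponent-closed groups. -/

set_option autoImplicit false

open Subgroup

namespace Cfsg.Agent.FG

variable {G : Type*} [Group G] {p : ℕ}

theorem expCl_iff : (∃ H : Subgroup G, (H : Set G) = {g : G | g ^ p = 1}) ↔
    ∀ x y : G, x ^ p = 1 → y ^ p = 1 → (x * y) ^ p = 1 := by
  constructor
  · rintro ⟨H, hH⟩ x y hx hy
    have h : ∀ z, z ∈ H ↔ z ^ p = 1 := fun z => by rw [← SetLike.mem_coe, hH]; rfl
    exact (h _).1 (H.mul_mem ((h x).2 hx) ((h y).2 hy))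
  · intro h
    exact ⟨{ carrier := {g | g ^ p = 1}
             mul_mem' := fun ha hb => h _ _ ha hb
             one_mem' := one_pow p
             inv_mem' := fun {a} (ha : a ^ p = 1) => (by rw [inv_pow, ha, inv_one] : a⁻¹ ^ p = 1) }, rfl⟩

theorem expCl_sub {K : Subgroup G} (h : ∃ H : Subgroup K, (H : Set K) = {g : K | g ^ p = 1}) {x y : G} (hx : x ∈ K)
    (hy : y ∈ K) (h1 : x ^ p = 1) (h2 : y ^ p = 1) : (x * y) ^ p = 1 :=
  congrArg Subtype.val (expCl_iff.1 h ⟨x, hx⟩ ⟨y, hy⟩ (Subtype.ext h1) (Subtype.ext h2))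

theorem expCl_gen (hnc : ¬ (∃ H : Subgroup G, (H : Set G) = {g : G | g ^ p = 1}))
    (hsub : ∀ K : Subgroup G, K ≠ ⊤ → (∃ H : Subgroup ↥K, (H : Set ↥K) = {g : ↥K | g ^ p = 1})) :
    ∃ x y : G, x ^ p = 1 ∧ y ^ p = 1 ∧ (x * y) ^ p ≠ 1 ∧ Subgroup.closure ({x, y} : Set G) = ⊤ := by
  rw [expCl_iff] at hnc
  push Not at hnc
  obtain ⟨x, y, hx, hy, h⟩ := hnc
  refine ⟨x, y, hx, hy, h, ?_⟩
  by_contra hne
  exact h (expCl_sub (hsub _ hne) (Subgroup.subset_closure (by simp)) (Subgroup.subset_closure (by simp)) hx hy)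

theorem expCl_pow_mem {x y : G} (hx : x ^ p = 1) (hy : y ^ p = 1) (h : Subgroup.closure ({x, y} : Set G) = ⊤)
    (N : Subgroup G) [N.Normal] (hq : ∃ H : Subgroup (G ⧸ N), (H : Set (G ⧸ N)) = {g : (G ⧸ N) | g ^ p = 1}) (g : G) :
    g ^ p ∈ N := by
  obtain ⟨H, hH⟩ := hq
  have h1 : ∀ z, z ∈ H ↔ z ^ p = 1 := fun z => by rw [← SetLike.mem_coe, hH]; rfl
  have h2 : (⊤ : Subgroup G) ≤ H.comap (QuotientGroup.mk' N) := by
    rw [← h, Subgroup.closure_le]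
    rintro z (rfl | rfl)
    · exact (h1 _).2 (by rw [← map_pow, hx, map_one])
    · exact (h1 _).2 (by rw [← map_pow, hy, map_one])
  have := (h1 _).1 (h2 (mem_top g))
  rwa [← map_pow, QuotientGroup.mk'_apply, QuotientGroup.eq_one_iff] at this

end Cfsg.Agent.FG
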