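import Cfsg.Agent.Loc.Syl
import Cfsg.Agent.Gen.Metacyc
import Mathlib.GroupTheory.SpecificGroups.Alternating
import Mathlib.Data.Nat.Factorization.Basic
import Mathlib.Data.ZMod.Basic

/-! Hall subgroups of symmetric groups, I: arithmetic and packing of cycles. -/

set_option autoImplicit false

open Subgroup Equiv Equiv.Perm Finset Cfsg.Agent.Loc

namespace Cfsg.Agent.FG.HS

theorem dvd_of_pp {N X d : ℕ} (hN : ∀ s, s.Prime → s ∣ N → s ≤ d)
    (h : ∀ s k, s.Prime → s ≤ d → 0 < k → s ^ k ∣ N → s ^ k ∣ X) : N ∣ X := by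
  refine (Nat.dvd_iff_prime_pow_dvd_dvd X N).2 fun s k hs hk => ?_
  rcases Nat.eq_zero_or_pos k with rfl | h0
  · simp
  · exact h s k hs (hN s hs ((dvd_pow_self s h0.ne').trans hk)) h0 hk

theorem le_half {N s : ℕ} (hN : Even N) (h4 : 4 ≤ N) (hs : s.Prime) (h : s ∣ N) : 2 * s ≤ N := by
  obtain ⟨t, rfl⟩ := h
  rcases Nat.lt_or_ge t 2 with ht | ht
  · interval_cases t
    · omega
    · rw [mul_one] at hN h4
      rcases hs.eq_two_or_odd' with rfl | h
      · omega
      · exact absurd hN (Nat.not_even_iff_odd.2 h)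
  · nlinarith

theorem mod_add_eq {a c q : ℕ} (hq : c ≤ q) (h0 : 0 < c) (h : q ∣ a + c) : a % q = q - c := by
  obtain ⟨t, ht⟩ := h
  rcases t with _ | t
  · omega
  · have : a = q - c + q * t := by rw [mul_add, mul_one] at ht; omega
    rw [this, Nat.add_mul_mod_self_left, Nat.mod_eq_of_lt (by omega)]

theorem dvd_mul_pred {e q : ℕ} (h : e % q ≤ 1) : q ∣ e * (e - 1) := by
  rcases Nat.le_one_iff_eq_zero_or_eq_one.1 h with h | h
  · exact (Nat.dvd_of_mod_eq_zero h).mul_right _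
  · have := Nat.mod_add_div e q
    exact Dvd.dvd.mul_left ⟨e / q, by omega⟩ _

theorem z1 {a q : ℕ} (h : a + (q - 1) < q) : a = 0 := by omega
theorem z2 {a q : ℕ} (h : (q - 1) + a < q) : a = 0 := by omega
theorem z3 {a b : ℕ} (h : a + b = 0) : a = 0 := by omega
theorem z4 {a b : ℕ} (h : a + b = 1) : b ≤ 1 := by omega
theorem z5 {a q : ℕ} (h : (q - 2) + a < q) : a ≤ 1 := by omega

theorem num {d e : ℕ} (hed : e < d) (h2 : 2 ≤ e)
    (h : ∀ s k, s.Prime → s ≤ d → 0 < k → d % s ^ k + e % s ^ k < s ^ k) : d = 4 ∧ e = 3 := by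
  have hq : ∀ s k : ℕ, s.Prime → 0 < k → 2 ≤ s ^ k := fun s k hs hk => hs.two_le.trans (Nat.le_self_pow hk.ne' s)
  have h1 : e + 1 ∣ d := dvd_of_pp (d := d) (fun s _ hs => (Nat.le_of_dvd (by omega) hs).trans hed) fun s k hs hsd hk hd => by
    have h3 := h s k hs hsd hk
    rw [mod_add_eq (by have := hq s k hs hk; omega) one_pos hd] at h3
    exact Nat.dvd_of_mod_eq_zero (z1 h3)
  have hd : Even d := by
    by_contra hc
    have h4 : Even (d + 1) := (Nat.not_even_iff_odd.1 hc).add_one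
    have : d + 1 ∣ e := dvd_of_pp (d := d) (fun s hs h' => by have := le_half h4 (by omega) hs h'; omega)
      fun s k hs hsd hk hd => by
        have h3 := h s k hs hsd hk
        rw [mod_add_eq (by have := hq s k hs hk; omega) one_pos hd] at h3
        exact Nat.dvd_of_mod_eq_zero (z2 h3)
    have := Nat.le_of_dvd (by omega) this
    omega
  have he : Odd e := by
    by_contra hc
    have h4 : Even (d + e) := hd.add (Nat.not_odd_iff_even.1 hc)
    have : d + e ∣ d := dvd_of_pp (d := d) (fun s hs h' => by have := le_half h4 (by omega) hs h'; omega)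
      fun s k hs hsd hk hd => by
        have h3 := h s k hs hsd hk
        have h5 := Nat.mod_eq_zero_of_dvd hd
        rw [Nat.add_mod, Nat.mod_eq_of_lt h3] at h5
        exact Nat.dvd_of_mod_eq_zero (z3 h5)
    have := Nat.le_of_dvd (by omega) this
    omega
  obtain ⟨v, rfl⟩ := he
  have h5 : d + 2 * v ∣ (2 * v + 1) * (2 * v + 1 - 1) := dvd_of_pp (d := d) (fun s hs h' => by
      have := le_half (hd.add (even_two_mul v)) (by omega) hs h'; omega) fun s k hs hsd hk hd => by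
    have h3 := h s k hs hsd hk
    have h6 : (d + (2 * v + 1)) % s ^ k = 1 := by
      rw [← add_assoc, Nat.add_mod, Nat.mod_eq_zero_of_dvd hd, zero_add, Nat.mod_mod, Nat.mod_eq_of_lt (hq s k hs hk)]
    rw [Nat.add_mod, Nat.mod_eq_of_lt h3] at h6
    exact dvd_mul_pred (z4 h6)
  obtain ⟨t, rfl⟩ := h1
  obtain ⟨w, hw⟩ := h5
  have ht : t = 1 := by
    by_contra hc
    have ht2 : 2 ≤ t := by
      rcases t with _ | _ | t
      · omega
      · exact absurd rfl hc
      · omega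
    simp only [Nat.add_sub_cancel] at hw
    have h7 : v + 1 ∣ w + 1 := by
      have h8 : ((v + 1 : ℕ) : ℤ) ∣ ((w + 1 : ℕ) : ℤ) := by
        have hw' : ((2 * v + 1) * (2 * v) : ℤ) = ((2 * v + 1 + 1) * t + 2 * v) * w := by exact_mod_cast hw
        exact ⟨(t + 1) * w - 2 * v + 1, by push_cast; linarith⟩
      exact_mod_cast h8
    have h9 := Nat.le_of_dvd (by omega) h7
    have h10 : ((2 * v + 1 + 1) * 2 + 2 * v) * v ≤ ((2 * v + 1 + 1) * t + 2 * v) * w :=
      Nat.mul_le_mul (by nlinarith) (by omega)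
    nlinarith
  subst ht
  have h11 : 2 * v + 4 ∣ (2 * v + 1) * (2 * v + 1 - 1) := dvd_of_pp (d := (2 * v + 1 + 1) * 1) (fun s hs h' => by
      have := le_half (show Even (2 * v + 4) from ⟨v + 2, by ring⟩) (by omega) hs h'; omega) fun s k hs hsd hk hd => by
    have h3 := h s k hs hsd hk
    rw [mod_add_eq (hq s k hs hk) two_pos (by convert hd using 1; ring)] at h3
    exact dvd_mul_pred (z5 h3)
  have h12 : 2 * v + 4 ∣ 12 := by
    simp only [Nat.add_sub_cancel] at h11
    have h13 : ((2 * v + 4 : ℕ) : ℤ) ∣ ((12 : ℕ) : ℤ) := by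
      obtain ⟨c, hc⟩ := h11
      have hc' : ((2 * v + 1) * (2 * v) : ℤ) = (2 * v + 4) * c := by exact_mod_cast hc
      exact ⟨c - 2 * v + 3, by push_cast; linarith⟩
    exact_mod_cast h13
  have h14 := Nat.le_of_dvd (by norm_num) h12
  have h15 := h 2 4 Nat.prime_two (by omega) (by norm_num)
  have : v ≤ 4 := by omega
  interval_cases v <;> simp_all

variable {α : Type*} [Fintype α] [DecidableEq α]

/-- Translation action on the blocks. -/
def tr {Q : Type*} [Group Q] (m r : ℕ) : (Fin m → Q) →* Perm ((Fin m × Q) ⊕ Fin r) :=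
  MonoidHom.mk' (fun f => Equiv.sumCongr (Equiv.prodCongrRight fun i => Equiv.mulLeft (f i)) (Equiv.refl _))
    fun f g => by ext (⟨i, x⟩ | j) <;> simp [mul_assoc]

theorem pack (Q : Type) [Group Q] [Fintype Q] {s : ℕ} [Fact s.Prime] (hQ : IsPGroup s Q) {M K : Subgroup (Perm α)}
    [K.Normal] (hM : ¬ s ∣ M.relIndex K) :
    ∃ e : (Fin (Fintype.card α / Fintype.card Q) × Q) ⊕ Fin (Fintype.card α % Fintype.card Q) ≃ α,
      ∀ f, e.permCongr (tr _ _ f) ∈ K → e.permCongr (tr _ _ f) ∈ M := by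
  classical
  obtain ⟨e⟩ : Nonempty ((Fin (Fintype.card α / Fintype.card Q) × Q) ⊕ Fin (Fintype.card α % Fintype.card Q) ≃ α) :=
    ⟨Fintype.equivOfCardEq (by simp [Nat.div_add_mod'])⟩
  let φ := e.permCongrHom.toMonoidHom.comp (tr (Q := Q) _ _)
  have hφ : IsPGroup s φ.range := by
    have : IsPGroup s (Fin (Fintype.card α / Fintype.card Q) → Q) := by
      obtain ⟨k, hk⟩ := IsPGroup.iff_card.1 hQ
      exact IsPGroup.of_card (n := k * (Fintype.card α / Fintype.card Q)) (by rw [Nat.card_pi, hk, pow_mul]; simp)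
    exact this.of_surjective _ φ.rangeRestrict_surjective
  obtain ⟨T, hT⟩ := exists_sylIn s (M ⊓ K)
  have hT' : SylIn s T K := sylIn_of_not_dvd_relIndex (hT.le.trans inf_le_right) hT.pg (by
    rw [← relIndex_mul_relIndex T (M ⊓ K) K hT.le inf_le_right, inf_relIndex_right]
    exact fun h => ((Nat.Prime.dvd_mul Fact.out).1 h).elim hT.not_dvd_relIndex hM)
  obtain ⟨g, -, hg⟩ := hT'.exists_conj_le (inf_le_right : φ.range ⊓ K ≤ K) (hφ.to_le inf_le_left)
  refine ⟨e.trans g, fun f hf => ?_⟩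
  have h1 : (e.trans g).permCongr (tr _ _ f) = g * φ f * g⁻¹ := by ext a; rfl
  rw [h1] at hf ⊢
  refine (hT.le (hg (conj_mem_cj ⟨⟨f, rfl⟩, ?_⟩))).1
  simpa [mul_assoc] using ‹K.Normal›.conj_mem _ hf g⁻¹

/-- `c` is a cycle of length `q` with support `W`. -/
structure Cyc (q : ℕ) (c : Perm α) (W : Finset α) : Prop where
  card : W.card = q
  pow : c ^ q = 1
  fix : ∀ a ∉ W, c a = a
  tr : ∀ a ∈ W, ∀ b ∈ W, ∃ k : ℕ, (c ^ k) a = b

theorem Cyc.mem {q : ℕ} {c : Perm α} {W : Finset α} (h : Cyc q c W) {a : α} (ha : a ∈ W) : c a ∈ W := by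
  by_contra hc
  exact hc ((c.injective (h.fix _ hc)).symm ▸ ha)

theorem Cyc.pow_mem {q : ℕ} {c : Perm α} {W : Finset α} (h : Cyc q c W) {a : α} (ha : a ∈ W) (k : ℕ) : (c ^ k) a ∈ W := by
  induction k with
  | zero => exact ha
  | succ k ih => rw [pow_succ']; exact h.mem ih

theorem Cyc.pow_fix {q : ℕ} {c : Perm α} {W : Finset α} (h : Cyc q c W) {a : α} (ha : a ∉ W) (k : ℕ) : (c ^ k) a = a :=
  pow_apply_eq_self_of_apply_eq_self (h.fix a ha) k

theorem Cyc.conj {q : ℕ} {c : Perm α} {W : Finset α} (h : Cyc q c W) (g : Perm α) : Cyc q (g * c * g⁻¹) (W.image g) where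
  card := by rw [card_image_of_injective _ g.injective, h.card]
  pow := by rw [conj_pow, h.pow]; simp
  fix a ha := by
    have : g⁻¹ a ∉ W := fun h' => ha (mem_image.2 ⟨_, h', by simp⟩)
    rw [Perm.mul_apply, Perm.mul_apply, h.fix _ this]; simp
  tr := by
    simp only [mem_image]
    rintro _ ⟨a, ha, rfl⟩ _ ⟨b, hb, rfl⟩
    obtain ⟨k, hk⟩ := h.tr a ha b hb
    exact ⟨k, by rw [conj_pow]; simp [hk]⟩

/-- A set closed under a cycle and meeting its support contains the support. -/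
theorem Cyc.subset {q : ℕ} {c : Perm α} {W : Finset α} (h : Cyc q c W) {S : α → Prop} (hS : ∀ a, S a → S (c a)) {a : α}
    (ha : a ∈ W) (h1 : S a) {b : α} (hb : b ∈ W) : S b := by
  obtain ⟨k, rfl⟩ := h.tr a ha b hb
  clear hb
  induction k with
  | zero => exact h1
  | succ k ih => rw [pow_succ']; exact hS _ ih

theorem Cyc.sign {q : ℕ} {c : Perm α} {W : Finset α} (h : Cyc q c W) (hq : Odd q) : c ∈ alternatingGroup α := by
  have := congrArg Perm.sign h.pow
  rw [map_pow, map_one] at this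
  rcases Int.units_eq_one_or (Perm.sign c) with h1 | h1
  · exact h1
  · rw [h1, hq.neg_one_pow] at this; exact absurd this (by decide)

theorem cyc_of_isCycle {c : Perm α} (h : c.IsCycle) : Cyc (orderOf c) c c.support where
  card := h.orderOf.symm
  pow := pow_orderOf_eq_one c
  fix _ ha := notMem_support.1 ha
  tr _ ha _ hb := h.exists_pow_eq (mem_support.1 ha) (mem_support.1 hb)

theorem pack_cyc {s k : ℕ} [hs : Fact s.Prime] {M K : Subgroup (Perm α)} [K.Normal] (hM : ¬ s ∣ M.relIndex K)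
    (hK : ∀ c W, Cyc (s ^ k) c W → c ∈ K) : ∃ R : Finset α, R.card < s ^ k ∧ (s ^ k ≤ Fintype.card α → ∃ a, a ∉ R) ∧
      (∀ a ∉ R, ∃ c ∈ M, ∃ W, Cyc (s ^ k) c W ∧ a ∈ W) ∧
      ∀ Δ : Finset α, (∀ c ∈ M, ∀ W, Cyc (s ^ k) c W → ∀ a ∈ W, a ∈ Δ → W ⊆ Δ) → Δ.card % s ^ k ≤ (Δ ∩ R).card := by
  haveI : NeZero (s ^ k) := ⟨pow_ne_zero _ hs.out.ne_zero⟩
  have hc : Fintype.card (Multiplicative (ZMod (s ^ k))) = s ^ k := by simp
  obtain ⟨e, he⟩ := pack (Multiplicative (ZMod (s ^ k))) (IsPGroup.of_card (n := k) (by simp)) hM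
  let R : Finset α := univ.image fun j => e (Sum.inr j)
  let W : _ → Finset α := fun i => univ.image fun x => e (Sum.inl (i, x))
  let c : _ → Perm α := fun i => e.permCongr (tr _ _ (Pi.mulSingle i (Multiplicative.ofAdd 1)))
  have hW : ∀ i a, a ∈ W i ↔ ∃ x, e (Sum.inl (i, x)) = a := by simp [W]
  have hcyc : ∀ i, Cyc (s ^ k) (c i) (W i) := fun i => by
    have h1 : ∀ n : ℕ, c i ^ n = e.permCongr (tr _ _ (Pi.mulSingle i (Multiplicative.ofAdd (n : ZMod (s ^ k))))) := by
      intro n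
      have := map_pow (e.permCongrHom.toMonoidHom.comp (tr _ _)) (Pi.mulSingle i (Multiplicative.ofAdd 1)) n
      rw [← Pi.mulSingle_pow, ← ofAdd_nsmul, nsmul_one] at this
      exact this.symm
    refine ⟨by rw [card_image_of_injective _ fun x y h => by simpa using h]; simp, ?_, fun a ha => ?_, ?_⟩
    · rw [h1, ZMod.natCast_self, ofAdd_zero, Pi.mulSingle_one, map_one]; ext; simp
    · obtain ⟨⟨j, x⟩ | j, rfl⟩ := e.surjective a
      · have : j ≠ i := by rintro rfl; exact ha ((hW _ _).2 ⟨x, rfl⟩)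
        simp [c, tr, Pi.mulSingle_eq_of_ne this]
      · simp [c, tr]
    · simp only [hW]
      rintro _ ⟨x, rfl⟩ _ ⟨y, rfl⟩
      refine ⟨(y.toAdd - x.toAdd).val, ?_⟩
      rw [h1, ZMod.natCast_zmod_val]
      simp [tr]
  have hR : ∀ a ∉ R, ∃ i, a ∈ W i := fun a ha => by
    obtain ⟨⟨j, x⟩ | j, rfl⟩ := e.surjective a
    · exact ⟨j, (hW _ _).2 ⟨x, rfl⟩⟩
    · exact absurd (mem_image_of_mem _ (mem_univ j)) ha
  have hRc : R.card < s ^ k := card_image_le.trans_lt (by simpa using Nat.mod_lt _ (NeZero.pos _))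
  have hcM : ∀ i, c i ∈ M := fun i => he _ (hK _ _ (hcyc i))
  refine ⟨R, hRc, fun h => ?_, fun a ha => ?_, fun Δ hΔ => ?_⟩
  · by_contra h'
    push Not at h'
    rw [eq_univ_iff_forall.2 h', card_univ] at hRc
    omega
  · obtain ⟨i, hi⟩ := hR a ha
    exact ⟨c i, hcM i, W i, hcyc i, hi⟩
  · have h1 : Δ \ R = (univ.filter fun i => W i ⊆ Δ).biUnion W := by
      ext a
      simp only [mem_sdiff, mem_biUnion, mem_filter, mem_univ, true_and]
      refine ⟨fun h => ?_, fun ⟨i, h, ha⟩ => ⟨h ha, fun h' => ?_⟩⟩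
      · obtain ⟨i, hi⟩ := hR a h.2
        exact ⟨i, hΔ _ (hcM i) _ (hcyc i) a hi h.1, hi⟩
      · obtain ⟨x, rfl⟩ := (hW _ _).1 ha
        simp [R] at h'
    have h2 : s ^ k ∣ (Δ \ R).card := by
      rw [h1, card_biUnion]
      · exact dvd_sum fun i _ => (hcyc i).card.symm.dvd
      · intro i _ j _ hij
        refine disjoint_left.2 fun a h3 h4 => hij ?_
        obtain ⟨x, rfl⟩ := (hW _ _).1 h3
        obtain ⟨y, hy⟩ := (hW _ _).1 h4
        simp at hy
        exact hy.1.symm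
    rw [← card_sdiff_add_card_inter Δ R, Nat.add_mod, Nat.mod_eq_zero_of_dvd h2, zero_add, Nat.mod_mod]
    exact Nat.mod_le _ _

theorem pack_klein {M : Subgroup (Perm α)} (hM : ¬ 2 ∣ M.relIndex (alternatingGroup α)) : ∃ R : Finset α, R.card < 4 ∧
    ∀ a ∉ R, ∃ b c d : α, [a, b, c, d].Nodup ∧ swap a b * swap c d ∈ M ∧ swap a c * swap b d ∈ M := by
  obtain ⟨e, he⟩ := pack (Multiplicative (ZMod 2 × ZMod 2)) (IsPGroup.of_card (p := 2) (n := 2) (by simp)) hM
  refine ⟨univ.image fun j => e (Sum.inr j), card_image_le.trans_lt (by simpa using Nat.mod_lt _ (by norm_num)),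
    fun a ha => ?_⟩
  obtain ⟨⟨i, x⟩ | j, rfl⟩ := e.surjective a
  swap
  · exact absurd (mem_image_of_mem _ (mem_univ j)) ha
  have key : ∀ u v : Multiplicative (ZMod 2 × ZMod 2), u ≠ 1 → v ≠ 1 → u ≠ v → e.permCongr (tr _ _ (Pi.mulSingle i u)) =
      swap (e (.inl (i, x))) (e (.inl (i, u * x))) * swap (e (.inl (i, v * x))) (e (.inl (i, u * v * x))) := by
    intro u v hu hv huv
    ext a
    obtain ⟨⟨j, y⟩ | j, rfl⟩ := e.surjective a
    · by_cases hj : j = i
      · subst hj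
        have : ∀ x y u v : Multiplicative (ZMod 2 × ZMod 2), u ≠ 1 → v ≠ 1 → u ≠ v →
          u * y = swap x (u * x) (swap (v * x) (u * v * x) y) := by decide
        have h2 : Function.Injective fun z : Multiplicative (ZMod 2 × ZMod 2) => e (.inl (j, z)) := fun _ _ h => by simpa using h
        have h3 := this x y u v hu hv huv
        rw [Perm.mul_apply, h2.swap_apply, h2.swap_apply, ← h3]
        simp [tr]
      · rw [Perm.mul_apply, swap_apply_of_ne_of_ne (x := e (.inl (j, y))) (by simp [hj]) (by simp [hj]),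
          swap_apply_of_ne_of_ne (by simp [hj]) (by simp [hj])]
        simp [tr, Pi.mulSingle_eq_of_ne hj]
    · rw [Perm.mul_apply, swap_apply_of_ne_of_ne (x := e (.inr j)) (by simp) (by simp),
        swap_apply_of_ne_of_ne (by simp) (by simp)]
      simp [tr]
  let u : Multiplicative (ZMod 2 × ZMod 2) := Multiplicative.ofAdd (1, 0)
  let v : Multiplicative (ZMod 2 × ZMod 2) := Multiplicative.ofAdd (0, 1)
  have h1 : u ≠ 1 := by decide
  have h2 : v ≠ 1 := by decide
  have h3 : u ≠ v := by decide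
  have h4 : u * v ≠ 1 := by decide
  refine ⟨e (.inl (i, u * x)), e (.inl (i, v * x)), e (.inl (i, u * v * x)), by simp [h1, h2, h3, h4, h1.symm, h2.symm, h4.symm], ?_, ?_⟩
  · rw [← key u v h1 h2 h3]
    refine he _ ?_
    rw [key u v h1 h2 h3, mem_alternatingGroup]
    simp [h1]
  · rw [mul_comm u v, ← key v u h2 h1 h3.symm]
    refine he _ ?_
    rw [key v u h2 h1 h3.symm, mem_alternatingGroup]
    simp [h2]

end Cfsg.Agent.FG.HS
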