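import Cfsg.Agent.FG.HallSym1

/-! Hall subgroups of symmetric groups, II: partitions whose stabilizer has small index. -/

set_option autoImplicit false

open Subgroup Equiv Equiv.Perm Finset Cfsg.Agent.Loc

namespace Cfsg.Agent.FG.HS

variable {α : Type*} [Fintype α] [DecidableEq α]

/-- Automorphisms of a relation. -/
def Aut (r : α → α → Prop) : Subgroup (Perm α) where
  carrier := {g | ∀ a b, r (g a) (g b) ↔ r a b}
  mul_mem' := fun ha hb a b => (ha _ _).trans (hb _ _)
  one_mem' := fun _ _ => Iff.rfl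
  inv_mem' := fun {g} h a b => by simpa using (h (g⁻¹ a) (g⁻¹ b)).symm

open Classical in
/-- The class of a point. -/
noncomputable def cls (r : α → α → Prop) (a : α) : Finset α := univ.filter (r a)

variable {r : α → α → Prop}

theorem mem_cls {a b : α} : b ∈ cls r a ↔ r a b := by simp [cls]

theorem cls_apply {g : Perm α} (hg : g ∈ Aut r) (a : α) : cls r (g a) = (cls r a).image g := by
  ext b
  obtain ⟨b, rfl⟩ := g.surjective b
  rw [mem_cls, hg, g.injective.mem_finset_image, mem_cls]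

theorem card_cls_apply {g : Perm α} (hg : g ∈ Aut r) (a : α) : (cls r (g a)).card = (cls r a).card := by
  rw [cls_apply hg, card_image_of_injective _ g.injective]

theorem cls_eq (hr : Equivalence r) {a b : α} (h : r a b) : cls r a = cls r b := by
  ext c; rw [mem_cls, mem_cls]; exact ⟨hr.trans (hr.symm h), hr.trans h⟩

theorem disjoint_cls (hr : Equivalence r) {a b : α} (h : ¬ r a b) : Disjoint (cls r a) (cls r b) :=
  disjoint_left.2 fun _ h1 h2 => h (hr.trans (mem_cls.1 h1) (hr.symm (mem_cls.1 h2)))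

theorem cyc_cls (hr : Equivalence r) {q : ℕ} {c : Perm α} {W : Finset α} (hc : c ∈ Aut r) (h : Cyc q c W) {a : α}
    (ha : a ∈ W) : W ⊆ cls r a ∨ (¬ r a (c a) ∧ (cls r a).card ∣ q) := by
  have h1 : ∀ a ∈ W, r a (c a) → W ⊆ cls r a := fun a ha h1 b hb =>
    mem_cls.2 (h.subset (S := r a) (fun x hx => hr.trans h1 ((hc _ _).2 hx)) ha (hr.refl a) hb)
  by_cases h2 : r a (c a)
  · exact Or.inl (h1 a ha h2)
  refine Or.inr ⟨h2, ?_⟩
  have h3 : ∀ b ∈ W, cls r b ⊆ W := fun b hb x hx => by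
    by_contra hxW
    have h4 : r (c b) x := h.fix x hxW ▸ (hc _ _).2 (mem_cls.1 hx)
    have h5 := h1 b hb (hr.trans (mem_cls.1 hx) (hr.symm h4))
    exact h2 (hr.trans (hr.symm (mem_cls.1 (h5 ha))) (mem_cls.1 (h5 (h.mem ha))))
  rw [← h.card, card_eq_sum_card_image (cls r) W]
  refine dvd_sum fun S hS => ?_
  obtain ⟨b, hb, rfl⟩ := mem_image.1 hS
  have h6 : W.filter (fun x => cls r x = cls r b) = cls r b := by
    ext x
    rw [mem_filter]
    exact ⟨fun hx => hx.2 ▸ mem_cls.2 (hr.refl x), fun hx => ⟨h3 b hb hx, (cls_eq hr (mem_cls.1 hx)).symm⟩⟩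
  obtain ⟨k, rfl⟩ := h.tr a ha b hb
  rw [h6, card_cls_apply (pow_mem hc k)]

theorem cyc_prime (hr : Equivalence r) (hs : ∀ a b, (cls r a).card = 1 → (cls r b).card = 1 → r a b) {q : ℕ} (hq : q.Prime)
    {c : Perm α} {W : Finset α} (hc : c ∈ Aut r) (h : Cyc q c W) {a : α} (ha : a ∈ W) : W ⊆ cls r a := by
  refine (cyc_cls hr hc h ha).elim id fun ⟨h1, h2⟩ => ?_
  rcases (Nat.dvd_prime hq).1 h2 with h3 | h3
  · exact absurd (hs _ _ h3 ((card_cls_apply hc a).trans h3)) h1
  · exfalso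
    have h4 : cls r a ⊆ W := fun x hx => by
      by_contra hxW
      have h4 : r (c a) x := h.fix x hxW ▸ (hc _ _).2 (mem_cls.1 hx)
      exact h1 (hr.trans (mem_cls.1 hx) (hr.symm h4))
    have h5 := eq_of_subset_of_card_le h4 (by rw [h3, h.card])
    exact h1 (mem_cls.1 (h5 ▸ h.mem ha))

theorem two_mod {s k : ℕ} [Fact s.Prime] {M : Subgroup (Perm α)} (hM : ¬ s ∣ M.index) {Δ Δ' : Finset α} (hd : Disjoint Δ Δ')
    (h1 : ∀ c ∈ M, ∀ W, Cyc (s ^ k) c W → ∀ a ∈ W, a ∈ Δ → W ⊆ Δ)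
    (h2 : ∀ c ∈ M, ∀ W, Cyc (s ^ k) c W → ∀ a ∈ W, a ∈ Δ' → W ⊆ Δ') : Δ.card % s ^ k + Δ'.card % s ^ k < s ^ k := by
  obtain ⟨R, h3, -, -, h4⟩ := pack_cyc (k := k) (K := ⊤) (by rwa [relIndex_top_right]) fun _ _ _ => mem_top _
  refine lt_of_le_of_lt ((Nat.add_le_add (h4 Δ h1) (h4 Δ' h2)).trans ?_) h3
  rw [← card_union_of_disjoint (hd.mono inter_subset_left inter_subset_left)]
  exact card_le_card (union_subset inter_subset_right inter_subset_right)

theorem exists_cyc {s k : ℕ} [Fact s.Prime] {M : Subgroup (Perm α)} (hM : ¬ s ∣ M.index) (h : s ^ k ≤ Fintype.card α) :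
    ∃ c ∈ M, ∃ W, Cyc (s ^ k) c W ∧ ∃ a, a ∈ W := by
  obtain ⟨R, -, h3, h4, -⟩ := pack_cyc (k := k) (K := ⊤) (by rwa [relIndex_top_right]) fun _ _ _ => mem_top _
  obtain ⟨a, ha⟩ := h3 h
  obtain ⟨c, hc, W, hW, ha⟩ := h4 a ha
  exact ⟨c, hc, W, hW, a, ha⟩

/-- The stabilizer of the partition `{Δ, Δᶜ}`. -/
def Bi (Δ : Finset α) : Subgroup (Perm α) := Aut fun a b => a ∈ Δ ↔ b ∈ Δ

theorem mem_Bi_of_stab {Δ : Finset α} {g : Perm α} (h : ∀ a, g a ∈ Δ ↔ a ∈ Δ) : g ∈ Bi Δ := fun a b => by simp only [h]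

theorem rel_struct (hr : Equivalence r) (hs : ∀ a b, (cls r a).card = 1 → (cls r b).card = 1 → r a b) {a₀ : α}
    (hmax : ∀ a, (cls r a).card ≤ (cls r a₀).card) (h3 : 3 ≤ (cls r a₀).card)
    (hi : ∀ s, s.Prime → s ≤ (cls r a₀).card → ¬ s ∣ (Aut r).index) :
    Aut r ≤ Bi (cls r a₀) ∧ ((cls r a₀).card = Fintype.card α ∨
      ((Fintype.card α).Prime ∧ (cls r a₀).card + 1 = Fintype.card α) ∨
      ((Fintype.card α = 7 ∨ Fintype.card α = 8) ∧ (cls r a₀).card = 4)) := by
  set d := (cls r a₀).card with hd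
  have F1 : ∀ s, s.Prime → s ≤ d → ∀ a b, ¬ r a b → (cls r a).card % s + (cls r b).card % s < s := by
    intro s hp hsd a b hab
    haveI := Fact.mk hp
    have key : ∀ a, ∀ c ∈ Aut r, ∀ W, Cyc (s ^ 1) c W → ∀ x ∈ W, x ∈ cls r a → W ⊆ cls r a := fun a c hc W hW x hx hxa =>
      cls_eq hr (mem_cls.1 hxa) ▸ cyc_prime hr hs (by rwa [pow_one]) hc hW hx
    simpa using two_mod (k := 1) (hi s hp hsd) (disjoint_cls hr hab) (key a) (key b)
  have hA : ∀ a b, ¬ r a b → (cls r a).card = (cls r b).card → (cls r a).card = d := by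
    intro a b hab e
    by_contra hne
    have h1 := lt_of_le_of_ne (hmax a) hne
    have h0 : 0 < (cls r a).card := card_pos.2 ⟨a, mem_cls.2 (hr.refl a)⟩
    have hp := Nat.minFac_prime (n := (cls r a).card + 1) (by omega)
    have h2 := F1 _ hp ((Nat.minFac_le (by omega)).trans h1) a b hab
    rw [← e, mod_add_eq hp.one_le one_pos (Nat.minFac_dvd _)] at h2
    have := hp.two_le
    omega
  have F2 : ∀ s k, s.Prime → s ≤ d → d < s ^ k → s ^ k ≤ Fintype.card α →
      d ∣ s ^ k ∧ ∃ a b, ¬ r a b ∧ (cls r a).card = (cls r b).card := by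
    intro s k hp hsd h1 h2
    haveI := Fact.mk hp
    obtain ⟨c, hc, W, hW, a, ha⟩ := exists_cyc (hi s hp hsd) h2
    rcases cyc_cls hr hc hW ha with h | h
    · have := card_le_card h
      have := hmax a
      rw [hW.card] at *
      omega
    · exact ⟨hA _ _ h.1 (card_cls_apply hc a).symm ▸ h.2, a, _, h.1, (card_cls_apply hc a).symm⟩
  have hpow : d < 2 ^ (Nat.log 2 d + 1) ∧ 2 ^ (Nat.log 2 d + 1) ≤ 2 * d :=
    ⟨Nat.lt_pow_succ_log_self one_lt_two d, by
      rw [pow_succ']; exact Nat.mul_le_mul_left 2 (Nat.pow_log_le_self 2 (by omega))⟩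
  by_cases hB : ∃ b, ¬ r a₀ b ∧ (cls r b).card = d
  · obtain ⟨b, hb, hbd⟩ := hB
    have hu := card_union_of_disjoint (disjoint_cls hr hb)
    have hn : 2 * d ≤ Fintype.card α := by have := card_le_univ (cls r a₀ ∪ cls r b); omega
    obtain ⟨i, -, hdi⟩ := (Nat.dvd_prime_pow Nat.prime_two).1 (F2 2 _ Nat.prime_two (by omega) hpow.1 (hpow.2.trans hn)).1
    have h3' : ∀ j, d < 3 ^ j → Fintype.card α < 3 ^ j := fun j hj => by
      by_contra hc
      have h4 := (F2 3 j Nat.prime_three h3 hj (not_lt.1 hc)).1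
      have h5 : 2 ∣ d := hdi ▸ dvd_pow_self 2 (by rintro rfl; omega)
      exact absurd (Nat.prime_two.dvd_of_dvd_pow (h5.trans h4)) (by norm_num)
    have hd4 : d = 4 := by
      by_contra hne
      obtain ⟨j, rfl⟩ : ∃ j, i = j + 3 := by
        rcases i with _ | _ | _ | j
        · omega
        · omega
        · omega
        · exact ⟨j, rfl⟩
      have h8 : d = 8 * 2 ^ j := by rw [hdi]; ring
      have h9 : 0 < 2 ^ j := by positivity
      have h6 := Nat.eq_prime_pow_of_unique_prime_dvd (n := 4 * 2 ^ j + 1) (p := 3) (by omega) fun {s} hp hs' => by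
        have h7 := F1 s hp ((Nat.le_of_dvd (by omega) hs').trans (by omega)) a₀ b hb
        rw [hbd, ← hd, mod_add_eq hp.two_le two_pos (by rw [h8]; exact Dvd.dvd.trans hs' ⟨2, by ring⟩)] at h7
        have h10 : s ≠ 2 := by rintro rfl; omega
        have := hp.two_le
        omega
      have := h3' ((4 * 2 ^ j + 1).primeFactorsList.length + 1) (by rw [pow_succ, ← h6]; omega)
      rw [pow_succ, ← h6] at this
      omega
    have h9 := h3' 2 (by omega)
    have hun : cls r a₀ ∪ cls r b = univ := eq_univ_of_card _ (by omega)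
    refine ⟨fun g hg x y => ?_, Or.inr (Or.inr ⟨Or.inr (by omega), hd4⟩)⟩
    have key : ∀ x y, (x ∈ cls r a₀ ↔ y ∈ cls r a₀) ↔ r x y := fun x y => by
      simp only [mem_cls]
      refine ⟨fun h => ?_, fun h => ⟨fun h' => hr.trans h' h, fun h' => hr.trans h' (hr.symm h)⟩⟩
      by_cases hx : r a₀ x
      · exact hr.trans (hr.symm hx) (h.1 hx)
      · have h1 : ∀ z, ¬ r a₀ z → r b z := fun z hz => by
          simpa [mem_cls, hz] using (hun ▸ mem_univ z : z ∈ cls r a₀ ∪ cls r b)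
        exact hr.trans (hr.symm (h1 x hx)) (h1 y fun h' => hx (h.2 h'))
    beta_reduce
    rw [key, key, hg]
  · have hC : ∀ a b, (cls r a).card = (cls r b).card → r a b := fun a b e => by
      by_contra hab
      have h1 := hA a b hab e
      by_cases h2 : r a₀ a
      · exact hB ⟨b, fun h => hab (hr.trans (hr.symm h2) h), e ▸ h1⟩
      · exact hB ⟨a, h2, h1⟩
    have hst : ∀ g ∈ Aut r, ∀ x, g x ∈ cls r a₀ ↔ x ∈ cls r a₀ := fun g hg x => by
      rw [cls_eq hr (hC _ _ (card_cls_apply hg a₀).symm), mem_cls, hg, cls_eq hr (hC _ _ (card_cls_apply hg a₀)), mem_cls]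
    refine ⟨fun g hg => mem_Bi_of_stab (hst g hg), ?_⟩
    have hn : Fintype.card α < 2 * d := by
      by_contra hc
      obtain ⟨-, a, b, h1, h2⟩ := F2 2 _ Nat.prime_two (by omega) hpow.1 (hpow.2.trans (not_lt.1 hc))
      exact h1 (hC a b h2)
    have he : d + (cls r a₀)ᶜ.card = Fintype.card α := card_add_card_compl _
    have F3 : ∀ s k, s.Prime → s ≤ d → 0 < k → d % s ^ k + (cls r a₀)ᶜ.card % s ^ k < s ^ k := fun s k hp hsd _ => by
      haveI := Fact.mk hp
      exact two_mod (hi s hp hsd) disjoint_compl_right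
        (fun c hc W hW a ha h x hx => hW.subset (S := (· ∈ cls r a₀)) (fun y hy => (hst c hc y).2 hy) ha h hx)
        (fun c hc W hW a ha h x hx => hW.subset (S := (· ∈ (cls r a₀)ᶜ))
          (fun y hy => by simpa [hst c hc y] using hy) ha h hx)
    generalize (cls r a₀)ᶜ.card = e at *
    rcases e with _ | _ | e
    · exact Or.inl (by omega)
    · refine Or.inr (Or.inl ⟨?_, by omega⟩)
      by_contra hnp
      have hp := Nat.minFac_prime (n := Fintype.card α) (by omega)
      have h1 := (Nat.not_prime_iff_minFac_lt (by omega)).1 hnp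
      have h2 := F3 _ 1 hp (by omega) one_pos
      rw [pow_one, mod_add_eq hp.one_le one_pos (by rw [show d + 1 = Fintype.card α by omega]; exact Nat.minFac_dvd _),
        Nat.mod_eq_of_lt (by simpa using hp.one_lt)] at h2
      omega
    · have := num (by omega) (by omega) F3
      exact Or.inr (Or.inr ⟨Or.inl (by omega), this.1⟩)

end Cfsg.Agent.FG.HS
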