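import Cfsg.Prelude.Def_LocalStructure
import Cfsg.Agent.FG.ExtPrim
import Cfsg.Agent.Solv.CoprimeSylow
import Cfsg.Agent.Solv.MinNormal
import Cfsg.Agent.Perm.SchurField
import Mathlib.GroupTheory.Nilpotent
import Mathlib.FieldTheory.Finite.Basic

/-! Minimal non-`p`-closed groups. -/

set_option autoImplicit false

open Subgroup

namespace Cfsg.Agent.FG

variable {G : Type*} [Group G] {p : ℕ}

/-- `x` is a `p`-element. -/
def PE (p : ℕ) (x : G) : Prop := ∃ k : ℕ, x ^ p ^ k = 1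

theorem PE.one : PE p (1 : G) := ⟨0, by simp⟩

theorem PE.inv {x : G} (h : PE p x) : PE p x⁻¹ := let ⟨k, hk⟩ := h; ⟨k, by rw [inv_pow, hk, inv_one]⟩

theorem PE.map {H : Type*} [Group H] (f : G →* H) {x : G} (h : PE p x) : PE p (f x) :=
  let ⟨k, hk⟩ := h; ⟨k, by rw [← map_pow, hk, map_one]⟩

theorem PE.conj {x : G} (h : PE p x) (g : G) : PE p (g * x * g⁻¹) :=
  let ⟨k, hk⟩ := h; ⟨k, by rw [conj_pow, hk]; simp⟩

theorem PE.of_pow_eq {x : G} (h : x ^ p = 1) : PE p x := ⟨1, by simpa using h⟩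

theorem PE.of_pow {x : G} {k : ℕ} (h : PE p (x ^ p ^ k)) : PE p x :=
  let ⟨j, hj⟩ := h; ⟨k + j, by rw [pow_add, pow_mul, hj]⟩

theorem PE.coe {H : Subgroup G} {x : H} : PE p (x : G) ↔ PE p x :=
  ⟨fun ⟨k, hk⟩ => ⟨k, Subtype.ext (by simpa using hk)⟩, fun h => h.map H.subtype⟩

theorem PE.isPGroup {x : G} (h : PE p x) : IsPGroup p (zpowers x) := by
  obtain ⟨k, hk⟩ := h
  rintro ⟨_, n, rfl⟩
  refine ⟨k, Subtype.ext ?_⟩
  simp only [SubmonoidClass.coe_pow, OneMemClass.coe_one]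
  rw [← zpow_natCast, ← zpow_mul, mul_comm, zpow_mul, zpow_natCast, hk, one_zpow]

theorem PE.eq_one_of_pow [hp : Fact p.Prime] {x : G} (h : PE p x) {n : ℕ} (hn : ¬ p ∣ n) (hx : x ^ n = 1) : x = 1 := by
  obtain ⟨k, hk⟩ := h
  have h1 := Nat.dvd_gcd (orderOf_dvd_of_pow_eq_one hk) (orderOf_dvd_of_pow_eq_one hx)
  rw [Nat.Coprime.pow_left k ((Nat.Prime.coprime_iff_not_dvd hp.out).2 hn)] at h1
  exact orderOf_eq_one_iff.1 (Nat.dvd_one.1 h1)

theorem PE.exists_pow [Fact p.Prime] {x : G} (h : PE p x) (h1 : x ≠ 1) : ∃ k : ℕ, x ^ p ^ k ≠ 1 ∧ (x ^ p ^ k) ^ p = 1 := by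
  obtain ⟨k, hk⟩ := h
  induction k with
  | zero => exact absurd (by simpa using hk) h1
  | succ k ih =>
    by_cases h : x ^ p ^ k = 1
    · exact ih h
    · exact ⟨k, h, by rw [← pow_mul, ← pow_succ, hk]⟩

/-- The `p`-elements of a subgroup closed under products. -/
def peSub (p : ℕ) (K : Subgroup G) (h : ∀ x ∈ K, ∀ y ∈ K, PE p x → PE p y → PE p (x * y)) : Subgroup G where
  carrier := {x | x ∈ K ∧ PE p x}
  mul_mem' := fun ha hb => ⟨K.mul_mem ha.1 hb.1, h _ ha.1 _ hb.1 ha.2 hb.2⟩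
  one_mem' := ⟨K.one_mem, PE.one⟩
  inv_mem' := fun ha => ⟨K.inv_mem ha.1, ha.2.inv⟩

theorem isPClosed_iff_pe [Finite G] [Fact p.Prime] : IsPClosed p G ↔ ∀ x y : G, PE p x → PE p y → PE p (x * y) := by
  constructor
  · intro h x y hx hy
    obtain ⟨P⟩ : Nonempty (Sylow p G) := inferInstance
    haveI := h P
    haveI := Sylow.unique_of_normal P (h P)
    have hm : ∀ z, PE p z → z ∈ (P : Subgroup G) := fun z hz => by
      obtain ⟨Q, hQ⟩ := hz.isPGroup.exists_le_sylow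
      rw [Subsingleton.elim Q P] at hQ
      exact hQ (mem_zpowers z)
    exact PE.coe.2 (P.isPGroup' ⟨x * y, mul_mem (hm x hx) (hm y hy)⟩)
  · intro h P
    let S := peSub p (⊤ : Subgroup G) fun x _ y _ => h x y
    have hS : IsPGroup p S := fun x => PE.coe.1 x.2.2
    have : S = P := P.is_maximal' hS fun x hx => ⟨mem_top x, PE.coe.2 (P.isPGroup' ⟨x, hx⟩)⟩
    rw [← this]
    exact ⟨fun x hx g => ⟨mem_top _, hx.2.conj g⟩⟩

theorem isPClosed_sub_iff [Finite G] [Fact p.Prime] {K : Subgroup G} :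
    IsPClosed p K ↔ ∀ x ∈ K, ∀ y ∈ K, PE p x → PE p y → PE p (x * y) := by
  rw [isPClosed_iff_pe]
  exact ⟨fun h x hx y hy h1 h2 => PE.coe.2 (h ⟨x, hx⟩ ⟨y, hy⟩ (PE.coe.1 h1) (PE.coe.1 h2)),
    fun h x y h1 h2 => PE.coe.1 (h x x.2 y y.2 (PE.coe.2 h1) (PE.coe.2 h2))⟩

theorem isPClosed_of_isPGroup [Finite G] [Fact p.Prime] (h : IsPGroup p G) : IsPClosed p G :=
  isPClosed_iff_pe.2 fun _ _ _ _ => h _

theorem isPClosed_of_quot [Finite G] [Fact p.Prime] (N : Subgroup G) [N.Normal] (hN : IsPGroup p N)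
    (h : IsPClosed p (G ⧸ N)) : IsPClosed p G := by
  rw [isPClosed_iff_pe] at h ⊢
  intro x y hx hy
  obtain ⟨k, hk⟩ := h _ _ (hx.map (QuotientGroup.mk' N)) (hy.map (QuotientGroup.mk' N))
  rw [← map_mul, ← map_pow, QuotientGroup.mk'_apply, QuotientGroup.eq_one_iff] at hk
  exact PE.of_pow (PE.coe.2 (hN ⟨_, hk⟩))

theorem isPClosed_of_nilpotent [Finite G] [Fact p.Prime] [Group.IsNilpotent G] : IsPClosed p G := fun P =>
  Sylow.normal_of_normalizerCondition normalizerCondition_of_isNilpotent P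

theorem sup_eq_top_of_index_prime {A K : Subgroup G} (hp : p.Prime) (hA : A.index = p) (h : ¬ K ≤ A) : A ⊔ K = ⊤ := by
  have h1 : (A ⊔ K).index ∣ p := hA ▸ index_dvd_of_le le_sup_left
  rcases (Nat.dvd_prime hp).1 h1 with h2 | h2
  · exact index_eq_one.1 h2
  · exfalso
    have h3 := relIndex_mul_index (le_sup_left : A ≤ A ⊔ K)
    rw [h2, hA] at h3
    have h4 : A.relIndex (A ⊔ K) = 1 := Nat.eq_of_mul_eq_mul_right hp.pos (by rw [h3, one_mul])
    exact h (le_sup_right.trans (relIndex_eq_one.1 h4))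

theorem affine_min [Finite G] [hp : Fact p.Prime] {q : ℕ} (hq : q.Prime) (hpq : q ≠ p)
    (hna : ¬ IsMulCommutative G) (A : Subgroup G) [hAn : A.Normal] (hA : Cfsg.IsElementaryAbelian q A) (hidx : A.index = p)
    (hmin : ∀ B : Subgroup G, B.Normal → B ≤ A → B = ⊥ ∨ B = A) :
    Nat.card ↥A = q ^ orderOf (q : ZMod p) ∧ ¬ Cfsg.IsPClosed p G ∧ (∀ H : Subgroup G, H ≠ ⊤ → Cfsg.IsPClosed p ↥H) ∧
      ∀ (N : Subgroup G) [N.Normal], N ≠ ⊥ → Cfsg.IsPClosed p (G ⧸ N) := by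
  haveI : Fact q.Prime := ⟨hq⟩
  have hnd : ¬ p ∣ q := fun h => hpq ((Nat.prime_dvd_prime_iff_eq hp.out hq).1 h).symm
  have hAc : ∀ x ∈ A, ∀ y ∈ A, x * y = y * x := fun x hx y hy =>
    congrArg Subtype.val (hA.1.is_comm.comm ⟨x, hx⟩ ⟨y, hy⟩)
  have hpe : ∀ a ∈ A, PE p a → a = 1 := fun a ha h => h.eq_one_of_pow hnd (hA.2 a ha)
  obtain ⟨x, hx⟩ := exists_prime_orderOf_dvd_card' (G := G) p (hidx ▸ A.index_dvd_card)
  have hxp : x ^ p = 1 := hx ▸ pow_orderOf_eq_one x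
  have hx1 : x ≠ 1 := by rintro rfl; exact hp.out.ne_one (by simpa using hx.symm)
  have hxA : x ∉ A := fun h => hx1 (hpe x h (PE.of_pow_eq hxp))
  have hsup : ∀ K : Subgroup G, ¬ K ≤ A → A ⊔ K = ⊤ := fun K => sup_eq_top_of_index_prime hp.out hidx
  have htop := hsup (zpowers x) (by rwa [zpowers_le])
  -- nothing outside `A` centralizes `A`
  have hcent : ∀ g : G, (∀ a ∈ A, a * g = g * a) → g ∈ A := by
    intro g hg
    by_contra hgA
    have h1 := hsup (zpowers g) (by rwa [zpowers_le])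
    have h2 : ∀ u ∈ A ⊔ zpowers g, u ∈ center G := by
      intro u hu
      have h3 : (⊤ : Subgroup G) ≤ centralizer (A : Set G) := by
        rw [← h1]
        exact sup_le (fun a ha b hb => hAc b hb a ha) (zpowers_le.2 fun a ha => hg a ha)
      have h4 : g ∈ center G := by
        rw [Subgroup.mem_center_iff]
        intro y
        have : (⊤ : Subgroup G) ≤ centralizer ({g} : Set G) := by
          rw [← h1]
          exact sup_le (fun a ha => mem_centralizer_singleton_iff.2 (hg a ha))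
            (zpowers_le.2 (mem_centralizer_singleton_iff.2 rfl))
        exact mem_centralizer_singleton_iff.1 (this (mem_top y))
      exact (sup_le (fun a ha => Subgroup.mem_center_iff.2 fun y => (h3 (mem_top y) a ha).symm) (zpowers_le.2 h4) : _ ≤ center G) hu
    exact hna ⟨⟨fun a b => (Subgroup.mem_center_iff.1 (h2 b (h1 ▸ mem_top b)) a)⟩⟩
  have hA0 : A ≠ ⊥ := by
    rintro rfl
    exact hxA (hcent x fun a ha => by rw [mem_bot.1 ha]; simp)
  have hnorm : ∀ U K : Subgroup G, U ≤ A → ¬ K ≤ A → (∀ h ∈ K, ∀ u ∈ U, h * u * h⁻¹ ∈ U) → U = ⊥ ∨ U = A := by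
    intro U K hU hK h
    refine hmin U (Solv.normal_of_le_normalizer_of_sup_eq_top (H := A) (K := K) ?_ ?_ (hsup K hK)) hU
    · exact fun a ha => mem_normalizer_fintype fun u hu => by rw [hAc a ha u (hU hu)]; simpa using hu
    · exact fun a ha => mem_normalizer_fintype (h a ha)
  refine ⟨?_, ?_, ?_, ?_⟩
  · obtain ⟨v, hv⟩ := (ne_bot_iff_exists_ne_one).1 hA0
    have hzc : ∀ a ∈ zpowers x, ∀ b ∈ zpowers x, a * b = b * a := by
      rintro _ ⟨i, rfl⟩ _ ⟨j, rfl⟩; exact ((Commute.refl x).zpow_zpow i j).eq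
    obtain ⟨K, _, _, τ, -, hτadd, hτinj, hτN, hτ⟩ := Perm.exists_field_of_conj A (zpowers x) hAc hzc
      (fun h _ y hy => hAn.conj_mem y hy h) (fun U hU h => hnorm U _ hU (by rwa [zpowers_le]) h) v.2 (fun h => hv (Subtype.ext h))
    have hτ0 : τ 0 = 1 := by have := hτadd 0 0; rw [add_zero] at this; exact left_eq_mul.1 this
    have hτneg : ∀ x, τ (-x) = (τ x)⁻¹ := fun x => eq_inv_of_mul_eq_one_left (by rw [← hτadd, neg_add_cancel, hτ0])
    obtain ⟨d, hd⟩ := (IsPGroup.iff_card (p := q) (G := A)).1 (Solv.isPGroup_of_pow_eq_one hA.2)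
    have hK : Fintype.card K = q ^ d := by
      rw [← hd, ← Nat.card_eq_fintype_card]
      exact Nat.card_congr (Equiv.ofBijective (fun x => (⟨τ x, (hτN _).2 ⟨x, rfl⟩⟩ : A))
        ⟨fun x y h => hτinj (congrArg Subtype.val h), fun u => by
          obtain ⟨x, hx⟩ := (hτN u).1 u.2; exact ⟨x, Subtype.ext hx⟩⟩)
    obtain ⟨a, ha⟩ := hτ x (fun y hy => hAn.conj_mem y hy x) (fun h hh => hzc h hh x (mem_zpowers x))
    have hpow : ∀ (n : ℕ) (y : K), x ^ n * τ y * (x ^ n)⁻¹ = τ (a ^ n * y) := by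
      intro n
      induction n with
      | zero => intro y; simp
      | succ n ih => intro y; rw [pow_succ', pow_succ' a, mul_assoc a, ← ha, ← ih]; group
    have hap : a ^ p = 1 := by
      apply hτinj
      have := hpow p 1
      rw [hxp, mul_one] at this
      rw [← this]; simp
    have ha1 : a ≠ 1 := by
      rintro rfl
      refine hxA (hcent x fun b hb => ?_)
      obtain ⟨y, rfl⟩ := (hτN b).1 hb
      have := ha y
      rw [one_mul, mul_inv_eq_iff_eq_mul] at this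
      exact this.symm
    have hoa : orderOf a = p := orderOf_eq_prime hap ha1
    have ha0 : a ≠ 0 := by rintro rfl; rw [zero_pow hp.out.ne_zero] at hap; exact zero_ne_one hap
    have hirr : ∀ U : AddSubgroup K, (∀ y ∈ U, a * y ∈ U) → U = ⊥ ∨ U = ⊤ := by
      intro U hU
      let L : Subgroup G :=
        { carrier := τ '' U
          mul_mem' := by rintro _ _ ⟨x, hx, rfl⟩ ⟨y, hy, rfl⟩; exact ⟨x + y, U.add_mem hx hy, hτadd x y⟩
          one_mem' := ⟨0, U.zero_mem, hτ0⟩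
          inv_mem' := by rintro _ ⟨x, hx, rfl⟩; exact ⟨-x, U.neg_mem hx, hτneg x⟩ }
      have hpw : ∀ (n : ℕ), ∀ y ∈ U, a ^ n * y ∈ U := by
        intro n
        induction n with
        | zero => intro x hx; simpa using hx
        | succ n ih => intro x hx; rw [pow_succ', mul_assoc]; exact hU _ (ih x hx)
      rcases hnorm L (zpowers x) (by rintro _ ⟨x, _, rfl⟩; exact (hτN _).2 ⟨x, rfl⟩) (by rwa [zpowers_le]) (by
        rintro k hk _ ⟨y, hy, rfl⟩
        obtain ⟨n, rfl⟩ := (mem_powers_iff_mem_zpowers).2 hk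
        exact ⟨a ^ n * y, hpw n y hy, (hpow n y).symm⟩) with h | h
      · left
        rw [eq_bot_iff]
        intro y hy
        have : τ y ∈ L := ⟨y, hy, rfl⟩
        rw [h, mem_bot, ← hτ0] at this
        exact hτinj this
      · right
        rw [eq_top_iff]
        intro y _
        obtain ⟨z, hz, e⟩ : τ y ∈ L := h ▸ (hτN _).2 ⟨y, rfl⟩
        exact hτinj e ▸ hz
    have hq0 : (q : ZMod p) ≠ 0 := fun h => hnd ((ZMod.natCast_eq_zero_iff q p).1 h)
    have hi : 0 < orderOf (q : ZMod p) := (isOfFinOrder_iff_pow_eq_one.2 ⟨p - 1, Nat.sub_pos_of_lt hp.out.one_lt,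
      ZMod.pow_card_sub_one_eq_one hq0⟩).orderOf_pos
    have hmod : ∀ i : ℕ, (q : ZMod p) ^ i = 1 ↔ a ^ q ^ i = a := by
      intro i
      rw [← Nat.cast_pow, ← Nat.cast_one (R := ZMod p), ZMod.natCast_eq_natCast_iff, ← hoa]
      conv_rhs => rw [eq_comm]; lhs; rw [← pow_one a]
      rw [eq_comm, ← Units.val_mk0 ha0, ← Units.val_pow_eq_pow_val, ← Units.val_pow_eq_pow_val, Units.val_inj,
        pow_eq_pow_iff_modEq, orderOf_units]
    have h1 : d ≤ orderOf (q : ZMod p) := field_le_of_pow hq hK hirr hi ((hmod _).1 (pow_orderOf_eq_one _))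
    have hd0 : 0 < d := by
      rcases Nat.eq_zero_or_pos d with rfl | h
      · exact absurd (card_eq_one.1 (by simpa using hd)) hA0
      · exact h
    have h2 : orderOf (q : ZMod p) ≤ d := orderOf_le_of_pow_eq_one hd0 ((hmod d).2 (hK ▸ FiniteField.pow_card a))
    rw [hd, le_antisymm h1 h2]
  · intro h
    rw [isPClosed_iff_pe] at h
    refine hxA (hcent x fun a ha => ?_)
    have h1 := hpe (a * x * a⁻¹ * x⁻¹) (by simpa [mul_assoc] using A.mul_mem ha (hAn.conj_mem _ (A.inv_mem ha) x))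
      (h _ _ ((PE.of_pow_eq hxp).conj a) (PE.of_pow_eq hxp).inv)
    rw [mul_inv_eq_one, mul_inv_eq_iff_eq_mul] at h1
    exact h1
  · intro H hH
    by_cases hHA : H ≤ A
    · refine isPClosed_sub_iff.2 fun u hu v hv h1 h2 => ?_
      rw [hpe u (hHA hu) h1, hpe v (hHA hv) h2, one_mul]; exact PE.one
    · rcases hnorm (H ⊓ A) H inf_le_right hHA (fun h hh u hu =>
        ⟨H.mul_mem (H.mul_mem hh hu.1) (H.inv_mem hh), hAn.conj_mem u hu.2 h⟩) with h | h
      · refine isPClosed_of_isPGroup fun g => ⟨1, Subtype.ext ?_⟩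
        have : (g : G) ^ p ∈ H ⊓ A := ⟨H.pow_mem g.2 p, hidx ▸ A.pow_index_mem g⟩
        rw [h] at this
        simpa using this
      · exact absurd (by rw [← hsup H hHA]; exact (sup_eq_right.2 (h ▸ inf_le_left)).symm) hH
  · intro N hN hN0
    rcases hmin (N ⊓ A) inferInstance inf_le_right with h | h
    · exfalso
      obtain ⟨n, hn⟩ := (ne_bot_iff_exists_ne_one).1 hN0
      have h1 : (n : G) ∈ A := hcent n fun a ha =>
        ((commute_of_normal_of_disjoint N A hN hAn (disjoint_iff.2 h) n a n.2 ha).eq).symm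
      have : (n : G) ∈ N ⊓ A := ⟨n.2, h1⟩
      rw [h] at this
      exact hn (Subtype.ext this)
    · refine isPClosed_of_isPGroup fun g => ⟨1, ?_⟩
      obtain ⟨g, rfl⟩ := QuotientGroup.mk_surjective g
      rw [pow_one, ← QuotientGroup.mk_pow, QuotientGroup.eq_one_iff]
      exact (h ▸ inf_le_left : A ≤ N) (hidx ▸ A.pow_index_mem g)

theorem min_core [Finite G] [hp : Fact p.Prime] (hO : ∀ N : Subgroup G, N.Normal → IsPGroup p N → N = ⊥)
    (hM : ∀ M : Subgroup G, M.Normal → M ≠ ⊤ → ∀ g ∈ M, g ^ p = 1 → g = 1)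
    (hloc : ∀ K : Subgroup G, K ≠ ⊤ → ∀ u ∈ K, ∀ v ∈ K, u ^ p = 1 → v ^ p = 1 → PE p (u * v))
    (A : Subgroup G) [hAn : A.Normal] (hA0 : A ≠ ⊥) (hA1 : A ≠ ⊤)
    (hmin : ∀ B : Subgroup G, B.Normal → B ≤ A → B = ⊥ ∨ B = A) (hQ : IsPGroup p (G ⧸ A)) :
    ∃ q : ℕ, q.Prime ∧ q ≠ p ∧ Nat.card G = p * q ^ orderOf (q : ZMod p) ∧
      ∃ A : Subgroup G, A.Normal ∧ Nat.card ↥A = q ^ orderOf (q : ZMod p) ∧ Cfsg.IsElementaryAbelian q A ∧
        ∀ B : Subgroup G, B.Normal → B ≤ A → B = ⊥ ∨ B = A := by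
  have hpe : ∀ a ∈ A, PE p a → a = 1 := fun a ha h => by
    by_contra h1
    obtain ⟨k, hk, hk'⟩ := h.exists_pow h1
    exact hk (hM A hAn hA1 _ (A.pow_mem ha _) hk')
  have hpi : p ∣ A.index := by
    obtain ⟨k, hk⟩ := IsPGroup.iff_card.1 hQ
    rw [← index_eq_card] at hk
    rcases k with _ | k
    · exact absurd (index_eq_one.1 (by simpa using hk)) hA1
    · exact hk ▸ dvd_pow_self p k.succ_ne_zero
  obtain ⟨x, hx⟩ := exists_prime_orderOf_dvd_card' (G := G) p (hpi.trans A.index_dvd_card)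
  have hxp : x ^ p = 1 := hx ▸ pow_orderOf_eq_one x
  have hx1 : x ≠ 1 := by rintro rfl; exact hp.out.ne_one (by simpa using hx.symm)
  have hnn : ¬ Group.IsNilpotent G := by
    intro h
    obtain ⟨P, hP⟩ := (PE.of_pow_eq hxp).isPGroup.exists_le_sylow
    have := hO P (isPClosed_of_nilpotent P) P.isPGroup'
    rw [this] at hP
    exact hx1 (hP (mem_zpowers x))
  have hcen : ∀ Q : Subgroup G, Q ≤ A → x ∈ normalizer (Q : Set G) → Q ⊔ zpowers x ≠ ⊤ → Q ≤ centralizer ({x} : Set G) := by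
    intro Q hQA hxQ hne a ha
    have hx' : x ∈ Q ⊔ zpowers x := mem_sup_right (mem_zpowers x)
    have ha' : a ∈ Q ⊔ zpowers x := mem_sup_left ha
    have h1 := hpe (a * x * a⁻¹ * x⁻¹) (by simpa [mul_assoc] using A.mul_mem (hQA ha) (hAn.conj_mem _ (A.inv_mem (hQA ha)) x))
      (hloc _ hne _ (mul_mem (mul_mem ha' hx') (inv_mem ha')) _ (inv_mem hx') (by rw [conj_pow, hxp]; simp)
        (by rw [inv_pow, hxp, inv_one]))
    rw [mul_inv_eq_one, mul_inv_eq_iff_eq_mul] at h1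
    exact mem_centralizer_singleton_iff.2 h1
  have hnc : ¬ A ≤ centralizer ({x} : Set G) := by
    intro h
    have h1 : centralizer (A : Set G) = ⊤ := by
      by_contra h2
      exact hx1 (hM _ inferInstance h2 x (fun a ha => mem_centralizer_singleton_iff.1 (h ha)) hxp)
    haveI := hQ.isNilpotent
    refine hnn (Subgroup.isNilpotent_of_ker_le_center (QuotientGroup.mk' A) ?_)
    rw [QuotientGroup.ker_mk']
    exact fun a ha => Subgroup.mem_center_iff.2 fun y => ((h1 ▸ mem_top y : y ∈ centralizer (A : Set G)) a ha).symm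
  have htop : A ⊔ zpowers x = ⊤ := by
    by_contra h
    exact hnc (hcen A le_rfl (by rw [normalizer_eq_top]; trivial) h)
  have hdis : A ⊓ zpowers x = ⊥ := eq_bot_iff.2 fun a ha =>
    hpe a ha.1 (PE.coe.2 ((PE.of_pow_eq hxp).isPGroup ⟨a, ha.2⟩))
  have hcx : Nat.card (zpowers x) = p := by rw [Nat.card_zpowers, hx]
  have hcG : Nat.card G = Nat.card A * p := by
    rw [← hcx, ← Solv.card_sup_of_disjoint (by rw [normalizer_eq_top]; exact le_top) hdis, htop, card_top]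
  have hidx : A.index = p := by
    have := A.card_mul_index
    rw [hcG] at this
    exact Nat.eq_of_mul_eq_mul_left Nat.card_pos this
  have hcop : (Nat.card (zpowers x)).Coprime (Nat.card A) := by
    rw [hcx, Nat.Prime.coprime_iff_not_dvd hp.out]
    intro h
    obtain ⟨a, ha⟩ := exists_prime_orderOf_dvd_card' (G := A) p h
    have h1 : a = 1 := Subtype.ext (hpe a a.2 (PE.coe.2 (PE.of_pow_eq (ha ▸ pow_orderOf_eq_one a))))
    exact hp.out.ne_one (by rw [← ha, h1, orderOf_one])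
  have hsol : Group.IsSolvable A := by
    by_contra hs
    refine hnc (Solv.le_of_forall_invariant_sylIn (A := zpowers x) (by rw [normalizer_eq_top]; exact le_top) hcop
      (Or.inl (isSolvable_of_comm fun a b => mul_comm' a b)) fun q _ Q hQ hn => hcen Q hQ.le (hn (mem_zpowers x)) fun h => hs ?_)
    have h1 : A = Q := by
      have := Solv.sup_inf_of_le_left hn hQ.le
      rw [h, top_inf_eq, inf_comm, hdis, sup_bot_eq] at this
      exact this
    have := hQ.pg
    rw [← h1] at this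
    haveI := this.isNilpotent
    infer_instance
  obtain ⟨hc, q, hq, hAq⟩ := Solv.elementary_of_minimal_normal hA0 hmin
  have hqp : q ≠ p := by
    rintro rfl
    exact hA0 (eq_bot_iff.2 fun a ha => hpe a ha (PE.of_pow_eq (hAq a ha)))
  have hna : ¬ IsMulCommutative G := fun h => hnc fun a _ => mem_centralizer_singleton_iff.2 (h.is_comm.comm a x)
  have := (affine_min hq hqp hna A ⟨hc, hAq⟩ hidx hmin).1
  exact ⟨q, hq, hqp, by rw [hcG, this, mul_comm], A, hAn, this, ⟨hc, hAq⟩, hmin⟩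

theorem exists_min_proper [Finite G] [Nontrivial G] (h : ¬ IsSimpleGroup G) : ∃ A : Subgroup G, A.Normal ∧ A ≠ ⊥ ∧ A ≠ ⊤ ∧
    ∀ B : Subgroup G, B.Normal → B ≤ A → B = ⊥ ∨ B = A := by
  by_contra hc
  refine h ⟨fun N hN => ?_⟩
  by_contra h2
  rw [not_or] at h2
  obtain ⟨M, h3, h4, h5, h6⟩ := Solv.exists_minimal_normal_le N h2.1
  exact hc ⟨M, h3, h4, fun e => h2.2 (top_le_iff.1 (e ▸ h5)), h6⟩

end Cfsg.Agent.FG
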