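import Cfsg.Agent.FG.HallSym2
import Cfsg.Agent.FG.PClosed
import Cfsg.Prelude.Def_HallClasses

/-! Hall subgroups of symmetric and alternating groups, III: the structure theorem (P. Hall, Thompson). -/

set_option autoImplicit false

open Subgroup Equiv Equiv.Perm Finset Cfsg.Agent.Loc

namespace Cfsg.Agent.FG.HS

variable {α : Type*} [Fintype α] [DecidableEq α] {M : Subgroup (Perm α)}

theorem dvd_card_of_period {g : Perm α} (hg : g ∈ M) {n : ℕ} (hn : n.Prime) {a : α} (h1 : (g ^ n) a = a) (h2 : g a ≠ a) :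
    n ∣ Nat.card M := by
  refine Dvd.dvd.trans ?_ (Subgroup.orderOf_dvd_natCard M hg)
  by_contra h
  obtain ⟨m, hm⟩ := exists_pow_eq_self_of_coprime ((Nat.Prime.coprime_iff_not_dvd hn).2 h)
  exact h2 (hm ▸ pow_apply_eq_self_of_apply_eq_self h1 m)

theorem block_lemma (𝓦 : Finset α → Prop) (h1 : ∀ W, 𝓦 W → ∀ g ∈ M, 𝓦 (W.image g))
    (h2 : ∀ W W', 𝓦 W → 𝓦 W' → ∀ a ∈ W, a ∈ W' → W = W') {q : ℕ} {σ : Perm α} {V W : Finset α} (hσ : σ ∈ M)
    (hV : Cyc q σ V) (hW : 𝓦 W) {a : α} (ha : a ∈ V) (haW : a ∈ W) : q ≤ W.card ∨ W.card ∣ q := by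
  let r : α → α → Prop := fun a b => a = b ∨ ∃ W, 𝓦 W ∧ a ∈ W ∧ b ∈ W
  have hr : Equivalence r := ⟨fun _ => Or.inl rfl, fun h => h.imp Eq.symm fun ⟨W, h, ha, hb⟩ => ⟨W, h, hb, ha⟩, by
    rintro x y z (rfl | ⟨W, h, hx, hy⟩) h'
    · exact h'
    · rcases h' with rfl | ⟨W', h', hy', hz⟩
      · exact Or.inr ⟨W, h, hx, hy⟩
      · exact Or.inr ⟨W, h, hx, h2 W' W h' h y hy' hy ▸ hz⟩⟩
  have key : ∀ g ∈ M, ∀ a b, r a b → r (g a) (g b) := fun g hg a b h =>
    h.imp (congrArg g) fun ⟨W, h, ha, hb⟩ => ⟨_, h1 W h g hg, mem_image_of_mem g ha, mem_image_of_mem g hb⟩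
  have hA : σ ∈ Aut r := fun a b => ⟨fun h => by simpa using key _ (inv_mem hσ) _ _ h, key σ hσ a b⟩
  have hc : cls r a = W := by
    ext b
    rw [mem_cls]
    refine ⟨?_, fun hb => Or.inr ⟨W, hW, haW, hb⟩⟩
    rintro (rfl | ⟨W', h, h3, h4⟩)
    · exact haW
    · exact h2 W' W h hW a h3 haW ▸ h4
  exact (cyc_cls hr hA hV ha).imp (fun h => hV.card ▸ hc ▸ card_le_card h) fun h => hc ▸ h.2

theorem exists_sdiff {W W' : Finset α} (h : W.card = W'.card) (hne : W ≠ W') : ∃ b ∈ W, b ∉ W' := by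
  by_contra hc
  push Not at hc
  exact hne (eq_of_subset_of_card_le hc h.ge)

theorem two_dvd_of_overlap {p : ℕ} {c c' : Perm α} {W W' : Finset α} (hc : c ∈ M) (hc' : c' ∈ M) (h : Cyc p c W)
    (h' : Cyc p c' W') {a : α} (ha : a ∈ W) (ha' : a ∈ W') (hne : W ≠ W') : 2 ∣ Nat.card M := by
  obtain ⟨u, hu, hu'⟩ := exists_sdiff (h.card.trans h'.card.symm) hne
  obtain ⟨b, hb', hb⟩ := exists_sdiff (h'.card.trans h.card.symm) hne.symm
  obtain ⟨x, hx, hx', hcx⟩ : ∃ x ∈ W, x ∉ W' ∧ c x ∈ W' := by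
    by_contra hn
    push Not at hn
    exact (h.subset (S := fun z => z ∈ W ∧ z ∉ W') (fun z hz => ⟨h.mem hz.1, hn z hz.1 hz.2⟩) hu ⟨hu, hu'⟩ ha).2 ha'
  obtain ⟨y, hy, hy', hcy⟩ : ∃ y ∈ W, y ∈ W' ∧ c y ∉ W' := by
    by_contra hn
    push Not at hn
    exact hu' (h.subset (S := fun z => z ∈ W ∧ z ∈ W') (fun z hz => ⟨h.mem hz.1, hn z hz.1 hz.2⟩) ha ⟨ha, ha'⟩ hu).2
  obtain ⟨k1, h1⟩ := h.tr y hy x hx
  obtain ⟨k2, h2⟩ := h'.tr _ hcx b hb'
  obtain ⟨k3, h3⟩ := h.tr x hx _ (h.mem hy)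
  obtain ⟨k4, h4⟩ := h'.tr b hb' y hy'
  have h5 : (c ^ k1) (c y) = c x := by rw [← h1, ← Perm.mul_apply, ← pow_succ, pow_succ', Perm.mul_apply]
  have e1 : (c' ^ k4 * c ^ k3 * c' ^ k2 * c ^ k1) y = c y := by
    simp only [Perm.mul_apply, h1, h'.pow_fix hx', h3, h'.pow_fix hcy]
  have e2 : (c' ^ k4 * c ^ k3 * c' ^ k2 * c ^ k1) (c y) = y := by
    simp only [Perm.mul_apply, h5, h2, h.pow_fix hb, h4]
  refine dvd_card_of_period (mul_mem (mul_mem (mul_mem (pow_mem hc' k4) (pow_mem hc k3)) (pow_mem hc' k2)) (pow_mem hc k1))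
    Nat.prime_two (a := y) (by rw [pow_two, Perm.mul_apply, e1, e2]) (by rw [e1]; exact fun e => hcy (e.symm ▸ hy'))

theorem pack_odd {s : ℕ} (hs : s.Prime) (h2 : s ≠ 2) (hM : ¬ s ∣ M.relIndex (alternatingGroup α)) :
    ∃ R : Finset α, R.card < s ∧ ∀ a ∉ R, ∃ c ∈ M, ∃ W, Cyc s c W ∧ a ∈ W := by
  haveI := Fact.mk hs
  obtain ⟨R, h3, -, h4, -⟩ := pack_cyc (k := 1) hM fun c W h => h.sign (by rw [pow_one]; exact hs.odd_of_ne_two h2)
  rw [pow_one] at h3 h4
  exact ⟨R, h3, h4⟩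

theorem exists_not_mem_of_card_lt {R V : Finset α} (h : R.card < V.card) : ∃ a ∈ V, a ∉ R := by
  by_contra hc
  push Not at hc
  exact h.not_ge (card_le_card hc)

theorem cyc_odd {s : ℕ} (hs : s.Prime) (h2 : s ≠ 2) (hM : ¬ s ∣ M.relIndex (alternatingGroup α)) (hn : s ≤ Fintype.card α) :
    ∃ c ∈ M, ∃ W, Cyc s c W := by
  obtain ⟨R, h3, h4⟩ := pack_odd hs h2 hM
  obtain ⟨a, -, ha⟩ := exists_not_mem_of_card_lt (V := univ) (h3.trans_le hn)
  obtain ⟨c, hc, W, hW, -⟩ := h4 a ha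
  exact ⟨c, hc, W, hW⟩

theorem two_dvd {p s : ℕ} (hp : p.Prime) (hs : s.Prime) (h2 : p ≠ 2) (hps : p < s) (hn : s ≤ Fintype.card α)
    (h1 : ¬ p ∣ M.relIndex (alternatingGroup α)) (h3 : ¬ s ∣ M.relIndex (alternatingGroup α)) : 2 ∣ Nat.card M := by
  by_contra hc
  obtain ⟨σ, hσ, V, hV⟩ := cyc_odd hs (by have := hp.two_le; omega) h3 hn
  obtain ⟨R, h4, h5⟩ := pack_odd hp h2 h1
  obtain ⟨a, ha, haR⟩ := exists_not_mem_of_card_lt (R := R) (V := V) (by rw [hV.card]; exact h4.trans hps)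
  obtain ⟨c, hcM, W, hW, haW⟩ := h5 a haR
  have := block_lemma (fun W => ∃ c ∈ M, Cyc p c W) (fun W ⟨c, hc, h⟩ g hg =>
    ⟨_, mul_mem (mul_mem hg hc) (inv_mem hg), h.conj g⟩) (fun W W' ⟨c, h6, h⟩ ⟨c', h7, h'⟩ a ha ha' => by
      by_contra hne
      exact hc (two_dvd_of_overlap h6 h7 h h' ha ha' hne)) hσ hV ⟨c, hcM, hW⟩ ha haW
  rw [hW.card, Nat.prime_dvd_prime_iff_eq hp hs] at this
  omega

theorem three_dvd {s : ℕ} (hs : s.Prime) (h5 : 5 ≤ s) (hn : s ≤ Fintype.card α)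
    (h1 : ¬ 2 ∣ M.relIndex (alternatingGroup α)) (h3 : ¬ s ∣ M.relIndex (alternatingGroup α)) : 3 ∣ Nat.card M := by
  by_contra hc
  obtain ⟨σ, hσ, V, hV⟩ := cyc_odd hs (by omega) h3 hn
  obtain ⟨R, h4, h6⟩ := pack_klein h1
  obtain ⟨a, ha, haR⟩ := exists_not_mem_of_card_lt (R := R) (V := V) (by rw [hV.card]; omega)
  obtain ⟨b, c, d, hnd, h7, h8⟩ := h6 a haR
  have hcard : ({a, b, c, d} : Finset α).card = 4 := by simpa using List.toFinset_card_of_nodup hnd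
  have := block_lemma (fun W => W.card = 4 ∧ ∀ x ∈ W, ∀ y ∈ W, ∃ g ∈ M, g x = y ∧ g y = x ∧ ∀ z ∉ W, g z = z)
    (fun W ⟨h, h'⟩ g hg => ⟨by rw [card_image_of_injective _ g.injective, h], by
      simp only [mem_image]
      rintro _ ⟨x, hx, rfl⟩ _ ⟨y, hy, rfl⟩
      obtain ⟨k, hk, e1, e2, e3⟩ := h' x hx y hy
      refine ⟨_, mul_mem (mul_mem hg hk) (inv_mem hg), by simp [e1], by simp [e2], fun z hz => ?_⟩
      rw [Perm.mul_apply, Perm.mul_apply, e3 _ fun h => hz ⟨_, h, by simp⟩]; simp⟩)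
    (fun W W' ⟨h, h'⟩ ⟨k, k'⟩ a ha ha' => by
      by_contra hne
      obtain ⟨u, hu, hu'⟩ := exists_sdiff (h.trans k.symm) hne
      obtain ⟨v, hv', hv⟩ := exists_sdiff (k.trans h.symm) (Ne.symm hne)
      obtain ⟨g, hg, e1, e2, e3⟩ := h' a ha u hu
      obtain ⟨g', hg', f1, f2, f3⟩ := k' a ha' v hv'
      refine hc (dvd_card_of_period (mul_mem hg hg') Nat.prime_three (a := u) ?_ ?_)
      · simp [pow_succ, f3 u hu', e2, f1, e3 v hv, f2, e1]
      · rw [Perm.mul_apply, f3 u hu', e2]; exact fun e => hu' (e ▸ ha'))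
    hσ hV (W := {a, b, c, d}) ⟨hcard, ?_⟩ ha (by simp)
  · rw [hcard] at this
    rcases this with h | h
    · omega
    · have := (Nat.prime_dvd_prime_iff_eq Nat.prime_two hs).1 (Dvd.dvd.trans (by norm_num) h)
      omega
  · simp only [List.nodup_cons, List.mem_cons, not_or, List.not_mem_nil, not_false_eq_true, and_true, List.nodup_nil] at hnd
    obtain ⟨⟨ab, ac, ad⟩, ⟨bc, bd⟩, cd⟩ := hnd
    have f1 : ∀ z ∉ ({a, b, c, d} : Finset α), (swap a b * swap c d) z = z := fun z hz => by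
      simp only [mem_insert, mem_singleton, not_or] at hz
      simp [swap_apply_def, hz]
    have f2 : ∀ z ∉ ({a, b, c, d} : Finset α), (swap a c * swap b d) z = z := fun z hz => by
      simp only [mem_insert, mem_singleton, not_or] at hz
      simp [swap_apply_def, hz]
    have f3 : ∀ z ∉ ({a, b, c, d} : Finset α), (swap a b * swap c d * (swap a c * swap b d)) z = z := fun z hz => by
      rw [Perm.mul_apply, f2 z hz, f1 z hz]
    have ba := Ne.symm ab
    have ca := Ne.symm ac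
    have da := Ne.symm ad
    have cb := Ne.symm bc
    have db := Ne.symm bd
    have dc := Ne.symm cd
    simp only [mem_insert, mem_singleton] at f1 f2 f3 ⊢
    rintro x (rfl | rfl | rfl | rfl) y (rfl | rfl | rfl | rfl) <;>
    first
    | exact ⟨1, one_mem _, rfl, rfl, fun _ _ => rfl⟩
    | (refine ⟨_, h7, ?_, ?_, f1⟩ <;> simp [swap_apply_def, *] <;> done)
    | (refine ⟨_, h8, ?_, ?_, f2⟩ <;> simp [swap_apply_def, *] <;> done)
    | (refine ⟨_, mul_mem h7 h8, ?_, ?_, f3⟩ <;> simp [swap_apply_def, *] <;> done)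

/-- The 3-cycle `(a b c)` lies in `M`. -/
def T (M : Subgroup (Perm α)) (a b c : α) : Prop := a ≠ b ∧ a ≠ c ∧ b ≠ c ∧ swap a b * swap b c ∈ M

theorem T.conj {a b c : α} (h : T M a b c) {g : Perm α} (hg : g ∈ M) : T M (g a) (g b) (g c) :=
  ⟨g.injective.ne h.1, g.injective.ne h.2.1, g.injective.ne h.2.2.1, by
    have := mul_mem (mul_mem hg h.2.2.2) (inv_mem hg)
    rw [swap_apply_apply, swap_apply_apply]
    convert this using 1
    group⟩

theorem T.rev {a b c : α} (h : T M a b c) : T M c b a :=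
  ⟨h.2.2.1.symm, h.2.1.symm, h.1.symm, by simpa [swap_comm] using inv_mem h.2.2.2⟩

theorem T.rot {a b c : α} (h : T M a b c) : T M b c a := by
  have := h.conj h.2.2.2
  obtain ⟨h1, h2, h3, -⟩ := h
  simpa [swap_apply_def, h1, h2, h3, h1.symm, h2.symm, h3.symm] using this

theorem T.l1 {a b c d : α} (h : T M a b c) (h' : T M a b d) (hcd : c ≠ d) : T M a c d := by
  have := h.conj h'.rev.2.2.2
  obtain ⟨h1, h2, h3, -⟩ := h
  obtain ⟨-, h4, h5, -⟩ := h'
  have h6 : T M d a c := by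
    simpa [swap_apply_def, h1, h2, h3, h4, h5, hcd, h1.symm, h2.symm, h3.symm, h4.symm, h5.symm, hcd.symm] using this
  exact h6.rot

theorem T.l2 {a b c d e : α} (h : T M a b c) (h' : T M a d e) (hbd : b ≠ d) : T M a b d := by
  by_cases h1 : d = c
  · exact h1 ▸ h
  by_cases h2 : e = b
  · exact (h2 ▸ h').rev.rot.rot
  by_cases h3 : e = c
  · exact h.rev.rot.rot.l1 (h3 ▸ h').rev.rot.rot hbd
  have := h.conj h'.2.2.2
  have h4 : T M d b c := by
    obtain ⟨k1, k2, k3, -⟩ := h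
    obtain ⟨k4, k5, k6, -⟩ := h'
    simpa [swap_apply_def, k1, k2, k3, k4, k5, k6, k1.symm, k2.symm, Ne.symm h1, Ne.symm h2, Ne.symm h3, hbd] using this
  exact (h.rot.l1 h4.rot h'.1).rev.rot

theorem alt_le {Δ : Finset α} (h : ∀ a ∈ Δ, ∀ b ∈ Δ, ∀ c ∈ Δ, a ≠ b → a ≠ c → b ≠ c → T M a b c) {x : Perm α}
    (hx : x ∈ alternatingGroup α) (hs : ∀ a, x a ≠ a → a ∈ Δ) : x ∈ M := by
  have h1 : ∀ a, x a ∈ Δ ↔ a ∈ Δ := fun a => by
    by_cases e : x a = a
    · rw [e]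
    · exact iff_of_true (hs _ (x.injective.ne e)) (hs a e)
  have h2 : alternatingGroup Δ ≤ M.comap ofSubtype := by
    rw [← closure_three_cycles_eq_alternating, Subgroup.closure_le]
    intro y hy
    obtain ⟨a, ha⟩ : y.support.Nonempty := card_pos.1 (by rw [IsThreeCycle.card_support hy]; norm_num)
    have h3 := (IsThreeCycle.nodup_iff_mem_support hy).2 ha
    simp only [List.nodup_cons, List.mem_cons, not_or, List.not_mem_nil, not_false_eq_true, and_true, List.nodup_nil] at h3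
    rw [SetLike.mem_coe, mem_comap, (IsThreeCycle.eq_swap_mul_swap_iff_mem_support hy).2 ha, map_mul, ofSubtype_swap_eq,
      ofSubtype_swap_eq]
    exact (h _ a.2 _ (y a).2 _ (y (y a)).2 (Subtype.coe_ne_coe.2 h3.1.1) (Subtype.coe_ne_coe.2 h3.1.2)
      (Subtype.coe_ne_coe.2 h3.2)).2.2.2
  rw [← ofSubtype_subtypePerm h1 hs]
  exact h2 (by rw [mem_alternatingGroup]; convert (sign_subtypePerm x h1 hs).trans hx)

theorem T_of_cyc {c : Perm α} {W : Finset α} (hc : c ∈ M) (h : Cyc 3 c W) {a : α} (ha : a ∈ W) : ∃ b d, T M a b d := by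
  have hs : c.support = W := by
    refine Subset.antisymm (fun x hx => by_contra fun h' => mem_support.1 hx (h.fix x h')) fun x hx => mem_support.2 fun e => ?_
    have : W ⊆ {x} := fun y hy => mem_singleton.2 (h.subset (S := (· = x)) (fun z hz => by rw [hz, e]) hx rfl hy)
    have := card_le_card this
    rw [h.card] at this
    simp at this
  have h3 : c.IsThreeCycle := card_support_eq_three_iff.1 (hs ▸ h.card)
  have h4 := h3.nodup_iff_mem_support.2 (hs ▸ ha)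
  simp only [List.nodup_cons, List.mem_cons, not_or, List.not_mem_nil, not_false_eq_true, and_true, List.nodup_nil] at h4
  exact ⟨_, _, h4.1.1, h4.1.2, h4.2, h3.eq_swap_mul_swap_iff_mem_support.2 (hs ▸ ha) ▸ hc⟩

theorem index_eq_relIndex {H : Subgroup (Perm α)} {a b : α} (hab : a ≠ b) (h : swap a b ∈ H) :
    H.index = H.relIndex (alternatingGroup α) := by
  haveI : Nontrivial α := ⟨a, b, hab⟩
  rw [← Gen.relIndex_sup_right_helper, ← relIndex_top_right]
  congr 1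
  symm
  rw [sup_comm]
  refine sup_eq_top_of_index_prime Nat.prime_two alternatingGroup.index_eq_two fun e => ?_
  have := e h
  rw [mem_alternatingGroup, sign_swap hab] at this
  exact absurd this (by decide)

/-- Admissible pairs `(n, d)`. -/
def Typ (n d : ℕ) : Prop := (n.Prime ∧ d + 1 = n ∧ 3 ≤ d) ∨ ((n = 7 ∨ n = 8) ∧ d = 4)

theorem hall_struct {π : Set ℕ} (h1 : ∀ s, s.Prime → s ∣ Nat.card M → s ∈ π)
    (h2 : ∀ s, s.Prime → s ∈ π → ¬ s ∣ M.relIndex (alternatingGroup α)) {p s t : ℕ} (hp : p.Prime) (hs : s.Prime)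
    (ht : t.Prime) (hps : p < s) (hpπ : p ∈ π) (hsπ : s ∈ π) (htπ : t ∉ π) (hsn : s ≤ Fintype.card α)
    (htn : t ≤ Fintype.card α) : ∃ Δ : Finset α, M ≤ Bi Δ ∧ (∀ u, u.Prime → u ≤ Fintype.card α → (u ∈ π ↔ u ≤ Δ.card)) ∧
      Typ (Fintype.card α) Δ.card := by
  have π2 : 2 ∈ π := by
    by_cases e : p = 2
    · exact e ▸ hpπ
    · exact h1 2 Nat.prime_two (two_dvd hp hs e hps hsn (h2 p hp hpπ) (h2 s hs hsπ))
  have hs3 : 3 ≤ s := by have := hp.two_le; omega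
  have π3 : 3 ∈ π := by
    by_cases e : s = 3
    · exact e ▸ hsπ
    · exact h1 3 Nat.prime_three (three_dvd hs (hs.five_le_of_ne_two_of_ne_three (by omega) e) hsn (h2 2 Nat.prime_two π2)
        (h2 s hs hsπ))
  let F : α → Prop := fun a => ¬ ∃ b c, T M a b c
  let r : α → α → Prop := fun a b => a = b ∨ (∃ c, T M a b c) ∨ (F a ∧ F b)
  have hr : Equivalence r := ⟨fun _ => Or.inl rfl,
    fun h => h.imp Eq.symm (Or.imp (fun ⟨c, h⟩ => ⟨c, h.rev.rot⟩) And.symm), by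
    rintro x y z (rfl | ⟨u, h⟩ | h) h'
    · exact h'
    · rcases h' with rfl | ⟨v, h'⟩ | h'
      · exact Or.inr (Or.inl ⟨u, h⟩)
      · by_cases e : x = z
        · exact Or.inl e
        · exact Or.inr (Or.inl ⟨y, (h.rev.rot.l2 h' e).rot⟩)
      · exact absurd ⟨_, _, h.rot⟩ h'.1
    · rcases h' with rfl | ⟨v, h'⟩ | h'
      · exact Or.inr (Or.inr h)
      · exact absurd ⟨_, _, h'⟩ h.2
      · exact Or.inr (Or.inr ⟨h.1, h'.2⟩)⟩
  have key : ∀ g ∈ M, ∀ a b, r a b → r (g a) (g b) := fun g hg a b h => by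
    have hF : ∀ a, F a → F (g a) := fun a ha ⟨b, c, h⟩ => ha ⟨_, _, by simpa using h.conj (inv_mem hg)⟩
    exact h.imp (congrArg g) (Or.imp (fun ⟨c, h⟩ => ⟨_, h.conj hg⟩) (And.imp (hF a) (hF b)))
  have hMA : M ≤ Aut r := fun g hg a b => ⟨fun h => by simpa using key _ (inv_mem hg) _ _ h, key g hg a b⟩
  have hbig : ∀ a, ¬ F a → 3 ≤ (cls r a).card := fun a ha => by
    obtain ⟨b, c, h⟩ := not_not.1 ha
    rw [← card_eq_three.2 ⟨a, b, c, h.1, h.2.1, h.2.2.1, rfl⟩]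
    refine card_le_card fun x hx => mem_cls.2 ?_
    simp only [mem_insert, mem_singleton] at hx
    rcases hx with rfl | rfl | rfl
    exacts [Or.inl rfl, Or.inr (Or.inl ⟨_, h⟩), Or.inr (Or.inl ⟨_, h.rev.rot.rot⟩)]
  obtain ⟨R, hR, hR'⟩ := pack_odd Nat.prime_three (by norm_num) (h2 3 Nat.prime_three π3)
  have hFR : ∀ a, F a → a ∈ R := fun a ha => by
    by_contra h
    obtain ⟨c, hc, W, hW, haW⟩ := hR' a h
    exact ha (T_of_cyc hc hW haW)
  obtain ⟨a₁, -, ha₁⟩ := exists_not_mem_of_card_lt (V := univ) (hR.trans_le (hs3.trans hsn))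
  obtain ⟨a₀, -, hmax⟩ := exists_max_image univ (fun a => (cls r a).card) ⟨a₁, mem_univ _⟩
  replace hmax := fun a => hmax a (mem_univ a)
  have h3 : 3 ≤ (cls r a₀).card := (hbig a₁ fun h => ha₁ (hFR _ h)).trans (hmax a₁)
  have hsing : ∀ a b, (cls r a).card = 1 → (cls r b).card = 1 → r a b := fun a b ha hb =>
    Or.inr (Or.inr ⟨by_contra fun h => by have := hbig a h; omega, by_contra fun h => by have := hbig b h; omega⟩)
  have hF0 : ¬ F a₀ := fun h => by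
    have : cls r a₀ ⊆ R := fun x hx => by
      rcases mem_cls.1 hx with rfl | ⟨c, h'⟩ | h'
      exacts [hFR _ h, absurd ⟨_, _, h'⟩ h, hFR _ h'.2]
    have := card_le_card this
    omega
  have hT : ∀ a ∈ cls r a₀, ∀ b ∈ cls r a₀, a ≠ b → ∃ c, T M a b c := fun a ha b hb hab => by
    rcases hr.trans (hr.symm (mem_cls.1 ha)) (mem_cls.1 hb) with h | h | h
    · exact absurd h hab
    · exact h
    · rcases mem_cls.1 ha with rfl | ⟨c, h'⟩ | h'
      exacts [absurd h.1 hF0, absurd ⟨_, _, h'.rot⟩ h.1, absurd h'.1 hF0]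
  have hle : ∀ u, u.Prime → u ≤ (cls r a₀).card → u ∈ π := fun u hu hud => by
    by_cases e : u = 2
    · exact e ▸ π2
    haveI := Fact.mk hu
    obtain ⟨c, -, W, hW, a, ha⟩ := exists_cyc (α := cls r a₀) (s := u) (k := 1) (M := ⊤) (by simpa using hu.one_lt.ne')
      (by simpa using hud)
    rw [pow_one] at hW
    have hne : c a ≠ a := fun e => by
      have : W ⊆ {a} := fun y hy => mem_singleton.2 (hW.subset (S := (· = a)) (fun z hz => by rw [hz, e]) ha rfl hy)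
      have := card_le_card this
      rw [hW.card, card_singleton] at this
      exact hu.one_lt.not_ge this
    refine h1 u hu (dvd_card_of_period (g := ofSubtype c) (alt_le (Δ := cls r a₀) (fun a ha b hb c hc hab hac hbc => ?_) ?_ ?_) hu
      (a := a) (by rw [← map_pow, hW.pow, map_one]; rfl) ?_)
    · obtain ⟨x, hx⟩ := hT a ha b hb hab
      obtain ⟨y, hy⟩ := hT a ha c hc hac
      exact hx.l2 hy hbc
    · rw [mem_alternatingGroup, sign_ofSubtype]; exact hW.sign (hu.odd_of_ne_two e)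
    · exact fun x hx => by_contra fun h => hx (ofSubtype_apply_of_not_mem c h)
    · rw [ofSubtype_apply_coe]; exact Subtype.coe_ne_coe.2 hne
  have hidx : ∀ u, u.Prime → u ∈ π → ¬ u ∣ (Aut r).index := fun u hu huπ h => by
    obtain ⟨a, ha, b, hb, hab⟩ := one_lt_card.1 (show 1 < (cls r a₀).card by omega)
    have hab' := hr.trans (hr.symm (mem_cls.1 ha)) (mem_cls.1 hb)
    have hsw : ∀ x, r (swap a b x) x := fun x => by
      rw [swap_apply_def]
      split_ifs with e1 e2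
      exacts [e1 ▸ hr.symm hab', e2 ▸ hab', hr.refl x]
    rw [index_eq_relIndex hab (show swap a b ∈ Aut r from fun x y =>
      ⟨fun h => hr.trans (hr.symm (hsw x)) (hr.trans h (hsw y)), fun h => hr.trans (hsw x) (hr.trans h (hr.symm (hsw y)))⟩)] at h
    exact h2 u hu huπ (h.trans (relIndex_dvd_of_le_left _ hMA))
  obtain ⟨h4, h5⟩ := rel_struct hr hsing hmax h3 fun u hu hud => hidx u hu (hle u hu hud)
  refine ⟨_, hMA.trans h4, fun u hu hun => ⟨fun huπ => ?_, hle u hu⟩, ?_⟩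
  · haveI := Fact.mk hu
    obtain ⟨c, hc, W, hW, a, ha⟩ := exists_cyc (k := 1) (hidx u hu huπ) (by rwa [pow_one])
    rw [pow_one] at hW
    exact hW.card ▸ (card_le_card (cyc_prime hr hsing hu hc hW ha)).trans (hmax a)
  · rcases h5 with h | h | h
    · exact absurd (hle t ht (h ▸ htn)) htπ
    · exact Or.inl ⟨h.1, h.2, h3⟩
    · exact Or.inr h

end Cfsg.Agent.FG.HS
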