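import Cfsg.Agent.FG.HallSym3

/-! Hall subgroups of symmetric and alternating groups, IV: consequences. -/

set_option autoImplicit false

open Subgroup Equiv Equiv.Perm Finset Cfsg.Agent.Loc
open scoped Pointwise

namespace Cfsg.Agent.FG.HS

section general

variable {G : Type*} [Group G] [Finite G] {π : Set ℕ}

theorem hall_max {H K : Subgroup G} (hH : IsPiHall π H) (hK : IsPiSubgroup π K) (h : H ≤ K) : K = H := by
  refine le_antisymm (relIndex_eq_one.1 (Nat.eq_one_iff_not_exists_prime_dvd.2 fun p hp hd => ?_)) h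
  exact hH.2 p hp (hK p hp (hd.trans (relIndex_dvd_card H K))) (hd.trans (relIndex_dvd_index_of_le h))

theorem maximal_of_hall {H : Subgroup G} (hH : IsPiHall π H) : Maximal (IsPiSubgroup π) H :=
  ⟨hH.1, fun _ hK h => (hall_max hH hK h).le⟩

theorem pi_of_pgroup {p : ℕ} (hp : p.Prime) (h : p ∈ π) {K : Subgroup G} (hK : IsPGroup p K) : IsPiSubgroup π K := by
  haveI := Fact.mk hp
  obtain ⟨k, hk⟩ := IsPGroup.iff_card.1 hK
  intro q hq hd
  rw [hk] at hd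
  exact (Nat.prime_dvd_prime_iff_eq hq hp).1 (hq.dvd_of_dvd_pow hd) ▸ h

theorem hall_of_D (hD : IsDPiGroup π G) {H : Subgroup G} (hH : Maximal (IsPiSubgroup π) H) : IsPiHall π H := by
  refine ⟨hH.1, fun p hp hπ hd => ?_⟩
  haveI := Fact.mk hp
  obtain ⟨P⟩ : Nonempty (Sylow p G) := inferInstance
  obtain ⟨K, h1, h2⟩ := Finite.exists_le_maximal (pi_of_pgroup hp hπ P.isPGroup')
  obtain ⟨g, rfl⟩ := hD H K hH h2
  exact P.not_dvd_index ((index_cj g H ▸ hd :).trans (index_dvd_of_le h1))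

theorem exists_hall_ge (hD : IsDPiGroup π G) {K : Subgroup G} (hK : IsPiSubgroup π K) : ∃ H, K ≤ H ∧ IsPiHall π H :=
  let ⟨H, h1, h2⟩ := Finite.exists_le_maximal hK; ⟨H, h1, hall_of_D hD h2⟩

theorem E_of_D (hD : IsDPiGroup π G) : IsEPiGroup π G :=
  let ⟨H, _, h⟩ := exists_hall_ge hD (K := ⊥) (fun p hp h => absurd (by simpa using h) hp.one_lt.ne'); ⟨H, h⟩

theorem C_of_D (hD : IsDPiGroup π G) : IsCPiGroup π G :=
  ⟨E_of_D hD, fun H K hH hK => hD H K (maximal_of_hall hH) (maximal_of_hall hK)⟩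

theorem D_of_triv (h : (∀ r s : ℕ, r.Prime → s.Prime → r ∈ π → s ∈ π → r ∣ Nat.card G → s ∣ Nat.card G → r = s) ∨
    ∀ r : ℕ, r.Prime → r ∣ Nat.card G → r ∈ π) : IsDPiGroup π G := by
  intro H K hH hK
  rcases h with h | h
  · by_cases hp : ∃ p, p.Prime ∧ p ∈ π ∧ p ∣ Nat.card G
    · obtain ⟨p, hp, hπ, hd⟩ := hp
      haveI := Fact.mk hp
      have key : ∀ L : Subgroup G, Maximal (IsPiSubgroup π) L → SylIn p L ⊤ := fun L hL =>
        ⟨le_top, IsPGroup.of_card (Nat.eq_prime_pow_of_unique_prime_dvd Nat.card_pos.ne' fun {q} hq h' =>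
          h q p hq hp (hL.1 q hq h') hπ (h'.trans L.card_subgroup_dvd_card) hd),
          fun Q _ hQ hle => le_antisymm (hL.2 (pi_of_pgroup hp hπ hQ) hle) hle⟩
      obtain ⟨g, -, hg⟩ := (key H hH).exists_conj (key K hK)
      exact ⟨g, hg.symm⟩
    · have key : ∀ L : Subgroup G, IsPiSubgroup π L → L = ⊥ := fun L hL =>
        card_eq_one.1 (Nat.eq_one_iff_not_exists_prime_dvd.2 fun q hq h' =>
          hp ⟨q, hq, hL q hq h', h'.trans L.card_subgroup_dvd_card⟩)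
      exact ⟨1, by rw [key H hH.1, key K hK.1, cj_bot]⟩
  · have key : ∀ L : Subgroup G, Maximal (IsPiSubgroup π) L → L = ⊤ := fun L hL =>
      top_le_iff.1 (hL.2 (fun q hq h' => h q hq (by simpa using h')) le_top)
    exact ⟨1, by rw [key H hH, key K hK, cj_top]⟩

theorem relIndex_dvd_index' (H A : Subgroup G) [A.Normal] : H.relIndex A ∣ H.index :=
  Gen.relIndex_sup_right_helper H A ▸ relIndex_dvd_index_of_le le_sup_left

theorem hall_subgroupOf {H : Subgroup G} (hH : IsPiHall π H) (A : Subgroup G) [A.Normal] : IsPiHall π (H.subgroupOf A) :=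
  ⟨fun p hp h => hH.1 p hp (h.trans (by
      rw [Solv.card_subgroupOf']; exact card_dvd_of_le inf_le_left)),
    fun p hp hπ h => hH.2 p hp hπ (h.trans (relIndex_dvd_index' H A))⟩

end general

variable {α : Type*} [Fintype α] [DecidableEq α] {π : Set ℕ}

theorem le_of_dvd_card {H : Subgroup (Perm α)} {u : ℕ} (hu : u.Prime) (h : u ∣ Nat.card H) : u ≤ Fintype.card α := by
  have := h.trans H.card_subgroup_dvd_card
  rwa [Nat.card_eq_fintype_card, Fintype.card_perm, hu.dvd_factorial] at this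

theorem le_of_dvd_Aut {r : α → α → Prop} (hr : Equivalence r) (hs : ∀ a b, (cls r a).card = 1 → (cls r b).card = 1 → r a b)
    {d : ℕ} (hd : ∀ a, (cls r a).card ≤ d) {u : ℕ} (hu : u.Prime) (h : u ∣ Nat.card (Aut r))
    (h2 : Fintype.card α < 2 * u) : u ≤ d := by
  haveI := Fact.mk hu
  obtain ⟨g, hg⟩ := exists_prime_orderOf_dvd_card' u h
  rw [← orderOf_coe] at hg
  have hc := isCycle_of_prime_order' (σ := (g : Perm α)) (hg ▸ hu) (hg ▸ h2)
  have h3 := cyc_of_isCycle hc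
  obtain ⟨a, ha, -⟩ := hc
  rw [hg] at h3
  exact h3.card ▸ (card_le_card (cyc_prime hr hs hu g.2 h3 (mem_support.2 ha))).trans (hd a)

theorem cls_eq_filter (r : α → α → Prop) (a : α) [DecidablePred (r a)] : cls r a = univ.filter (r a) := by
  ext; simp [mem_cls]

theorem le_of_dvd_Bi {Δ : Finset α} {d : ℕ} (h1 : Δ.card ≤ d) (h2 : Δᶜ.card ≤ d) (h3 : Δ.card ≠ 1) {u : ℕ} (hu : u.Prime)
    (h : u ∣ Nat.card (Bi Δ)) (h4 : Fintype.card α < 2 * u) : u ≤ d := by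
  have key : ∀ a, cls (fun a b => a ∈ Δ ↔ b ∈ Δ) a = if a ∈ Δ then Δ else Δᶜ := fun a => by
    ext b; rw [mem_cls]; split_ifs with h <;> simp [h]
  refine le_of_dvd_Aut (r := fun a b => a ∈ Δ ↔ b ∈ Δ) ⟨fun _ => Iff.rfl, Iff.symm, Iff.trans⟩ (fun a b ha hb => ?_) (fun a => ?_) hu h h4
  · rw [key] at ha hb
    split_ifs at ha hb <;> simp_all
  · rw [key]; split_ifs <;> assumption

theorem mem_stab_iff {Δ : Finset α} {g : Perm α} : g ∈ MulAction.stabilizer (Perm α) Δ ↔ ∀ a, g a ∈ Δ ↔ a ∈ Δ := by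
  rw [MulAction.mem_stabilizer_iff]
  refine ⟨fun h a => ?_, fun h => ?_⟩
  · have := smul_mem_smul_finset_iff (s := Δ) (b := a) g
    rwa [h] at this
  ext b
  obtain ⟨a, rfl⟩ := g.surjective b
  exact (smul_mem_smul_finset_iff g).trans (h a).symm

theorem exists_perm {Δ Δ' : Finset α} (h : Δ.card = Δ'.card) : ∃ g : Perm α, ∀ a, g a ∈ Δ' ↔ a ∈ Δ := by
  obtain ⟨g, rfl⟩ := exists_map_finset_eq Δ Δ' h
  exact ⟨g, fun a => mem_map' g.toEmbedding⟩

theorem index_stab (Δ : Finset α) : (MulAction.stabilizer (Perm α) Δ).index = (Fintype.card α).choose Δ.card := by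
  rw [MulAction.index_stabilizer, ← card_univ, ← card_powersetCard, ← Set.ncard_coe_finset]
  congr 1
  ext S
  rw [mem_coe, mem_powersetCard_univ]
  refine ⟨fun ⟨g, hg⟩ => by rw [← hg]; simp, fun h => ?_⟩
  obtain ⟨g, hg⟩ := exists_perm h.symm
  refine ⟨g, ?_⟩
  ext b
  obtain ⟨a, rfl⟩ := g.surjective b
  exact (smul_mem_smul_finset_iff g).trans (hg a).symm

theorem hall_Bi {Δ : Finset α} (hT : Typ (Fintype.card α) Δ.card)
    (hπ : ∀ u, u.Prime → u ≤ Fintype.card α → (u ∈ π ↔ u ≤ Δ.card)) : IsPiHall π (Bi Δ) := by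
  have hc := card_add_card_compl Δ
  have hle : MulAction.stabilizer (Perm α) Δ ≤ Bi Δ := fun g hg => mem_Bi_of_stab (mem_stab_iff.1 hg)
  have hi := relIndex_mul_index hle
  rw [index_stab] at hi
  refine ⟨fun u hu h => ?_, fun u hu huπ h => ?_⟩
  · have h1 := le_of_dvd_card hu h
    rw [hπ u hu h1]
    by_contra h2
    refine h2 (le_of_dvd_Bi le_rfl ?_ ?_ hu h ?_) <;> rcases hT with h | h <;> omega
  · have h0 : u ≤ Fintype.card α := by
      have := h.trans (Bi Δ).index_dvd_card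
      rwa [Nat.card_eq_fintype_card, Fintype.card_perm, hu.dvd_factorial] at this
    have h1 := (hπ u hu h0).1 huπ
    have h35 : ¬ u ∣ 35 ∨ 4 < u := by
      by_contra hc
      push Not at hc
      have := hu.two_le
      obtain ⟨h3, h4⟩ := hc
      interval_cases u <;> omega
    rcases hT with ⟨h2, h3, -⟩ | ⟨h2 | h2, h3⟩
    · have h4 := h.trans (Dvd.intro_left _ hi)
      rw [← h3, Nat.choose_succ_self_right, h3, Nat.prime_dvd_prime_iff_eq hu h2] at h4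
      omega
    · have h4 := h.trans (Dvd.intro_left _ hi)
      rw [h2, h3] at h4
      exact h35.elim (fun h => h h4) (by omega)
    · obtain ⟨g, hg⟩ := exists_perm (Δ := Δᶜ) (Δ' := Δ) (by omega)
      simp only [mem_compl] at hg
      obtain ⟨x, hx⟩ : Δ.Nonempty := card_pos.1 (by omega)
      have h4 : (MulAction.stabilizer (Perm α) Δ).relIndex (Bi Δ) = 2 := by
        refine relIndex_eq_two_iff.2 ⟨g, fun a b => by simp only [hg]; tauto, fun b hb => ?_⟩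
        simp only [mem_stab_iff, Perm.mul_apply]
        have h5 : ∀ y, (b y ∈ Δ ↔ b x ∈ Δ) ↔ (y ∈ Δ ↔ x ∈ Δ) := fun y => hb y x
        by_cases e : b x ∈ Δ
        · refine Or.inr ⟨fun a => by have := h5 a; tauto, fun h => ?_⟩
          have := h5 (g x); have := h x; have := hg x; tauto
        · refine Or.inl ⟨fun a => by have := h5 (g a); have := hg a; tauto, fun h => e ((h x).2 hx)⟩
      rw [h2, h3, h4] at hi
      have h5 : (Bi Δ).index = 35 := by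
        have : Nat.choose 8 4 = 70 := by decide
        omega
      exact h35.elim (fun h' => h' (h5 ▸ h)) (by omega)

theorem typ_unique {n d d' : ℕ} (h : Typ n d) (h' : Typ n d') (hπ : ∀ u, u.Prime → u ≤ n → (u ∈ π ↔ u ≤ d))
    (hπ' : ∀ u, u.Prime → u ≤ n → (u ∈ π ↔ u ≤ d')) : d = d' := by
  have h8 : n.Prime → n ≠ 8 := by rintro h rfl; exact absurd h (by decide)
  have h5 : 5 ≤ n → (5 ≤ d ↔ 5 ≤ d') := fun h => (hπ 5 Nat.prime_five h).symm.trans (hπ' 5 Nat.prime_five h)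
  rcases h with h | h <;> rcases h' with h' | h'
  · omega
  · have := h8 h.1; omega
  · have := h8 h'.1; omega
  · omega

theorem conj_Bi {Δ Δ' : Finset α} (h : Δ.card = Δ'.card) (h2 : 2 ≤ Δ.card) :
    ∃ g ∈ alternatingGroup α, cj g (Bi Δ) = Bi Δ' := by
  obtain ⟨g, hg, hs⟩ : ∃ g : Perm α, (∀ a, g a ∈ Δ' ↔ a ∈ Δ) ∧ g ∈ alternatingGroup α := by
    obtain ⟨g, hg⟩ := exists_perm h
    rcases Int.units_eq_one_or (sign g) with e | e
    · exact ⟨g, hg, e⟩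
    · obtain ⟨a, ha, b, hb, hab⟩ := one_lt_card.1 h2
      refine ⟨g * swap a b, fun x => ?_, by simp [e, hab]⟩
      rw [Perm.mul_apply, hg, swap_apply_def]
      split_ifs <;> simp [*]
  refine ⟨g, hs, ?_⟩
  ext x
  rw [mem_cj]
  refine ⟨fun h a b => ?_, fun h a b => ?_⟩
  · obtain ⟨a, rfl⟩ := g.surjective a
    obtain ⟨b, rfl⟩ := g.surjective b
    simpa [← hg] using h a b
  · simpa [← hg] using h (g a) (g b)

theorem nontriv {G : Type*} [Group G] (h : ¬ ((∀ r s : ℕ, r.Prime → s.Prime → r ∈ π → s ∈ π → r ∣ Nat.card G → s ∣ Nat.card G → r = s) ∨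
    ∀ r : ℕ, r.Prime → r ∣ Nat.card G → r ∈ π)) {n : ℕ} (hn : ∀ u, u.Prime → u ∣ Nat.card G → u ≤ n) :
    ∃ p s t : ℕ, p.Prime ∧ s.Prime ∧ t.Prime ∧ p < s ∧ p ∈ π ∧ s ∈ π ∧ t ∉ π ∧ s ≤ n ∧ t ≤ n := by
  push Not at h
  obtain ⟨⟨r, s, h1, h2, h3, h4, h5, h6, h7⟩, t, h8, h9, h10⟩ := h
  rcases lt_or_gt_of_ne h7 with h | h
  · exact ⟨r, s, t, h1, h2, h8, h, h3, h4, h10, hn s h2 h6, hn t h8 h9⟩
  · exact ⟨s, r, t, h2, h1, h8, h, h4, h3, h10, hn r h1 h5, hn t h8 h9⟩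

theorem sym_struct {H : Subgroup (Perm α)} (hH : IsPiHall π H)
    (h : ∃ p s t : ℕ, p.Prime ∧ s.Prime ∧ t.Prime ∧ p < s ∧ p ∈ π ∧ s ∈ π ∧ t ∉ π ∧ s ≤ Fintype.card α ∧ t ≤ Fintype.card α) :
    ∃ Δ : Finset α, H = Bi Δ ∧ (∀ u, u.Prime → u ≤ Fintype.card α → (u ∈ π ↔ u ≤ Δ.card)) ∧ Typ (Fintype.card α) Δ.card := by
  obtain ⟨p, s, t, h1, h2, h3, h4, h5, h6, h7, h8, h9⟩ := h
  obtain ⟨Δ, k1, k2, k3⟩ := hall_struct hH.1 (fun s hs hπ h => hH.2 s hs hπ (h.trans (relIndex_dvd_index' _ _)))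
    h1 h2 h3 h4 h5 h6 h7 h8 h9
  exact ⟨Δ, (hall_max hH (hall_Bi k3 k2).1 k1).symm, k2, k3⟩

theorem alt_struct {M : Subgroup (alternatingGroup α)} (hM : IsPiHall π M)
    (h : ∃ p s t : ℕ, p.Prime ∧ s.Prime ∧ t.Prime ∧ p < s ∧ p ∈ π ∧ s ∈ π ∧ t ∉ π ∧ s ≤ Fintype.card α ∧ t ≤ Fintype.card α) :
    ∃ Δ : Finset α, M = (Bi Δ).subgroupOf _ ∧ (∀ u, u.Prime → u ≤ Fintype.card α → (u ∈ π ↔ u ≤ Δ.card)) ∧
      Typ (Fintype.card α) Δ.card := by
  obtain ⟨p, s, t, h1, h2, h3, h4, h5, h6, h7, h8, h9⟩ := h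
  obtain ⟨Δ, k1, k2, k3⟩ := hall_struct (M := M.map (alternatingGroup α).subtype) (by rw [card_map_subtype]; exact hM.1)
    (by rw [relIndex, subgroupOf_map_subtype']; exact hM.2) h1 h2 h3 h4 h5 h6 h7 h8 h9
  exact ⟨Δ, (hall_max hM (hall_subgroupOf (hall_Bi k3 k2) _).1 (map_le_iff_le_comap.1 k1)).symm, k2, k3⟩

theorem le_of_dvd_perm {u : ℕ} (hu : u.Prime) (h : u ∣ Nat.card (Perm α)) : u ≤ Fintype.card α := by
  rwa [Nat.card_eq_fintype_card, Fintype.card_perm, hu.dvd_factorial] at h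

theorem alt_hall {M : Subgroup (alternatingGroup α)} (hM : IsPiHall π M) :
    ∃ M₀ : Subgroup (Perm α), IsPiHall π M₀ ∧ M = M₀.subgroupOf (alternatingGroup α) := by
  by_cases h : (∀ r s : ℕ, r.Prime → s.Prime → r ∈ π → s ∈ π → r ∣ Nat.card (Perm α) → s ∣ Nat.card (Perm α) → r = s) ∨
    ∀ r : ℕ, r.Prime → r ∣ Nat.card (Perm α) → r ∈ π
  · obtain ⟨H, h1, h2⟩ := exists_hall_ge (D_of_triv h) (K := M.map (alternatingGroup α).subtype)
      (by rw [IsPiSubgroup, card_map_subtype]; exact hM.1)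
    exact ⟨H, h2, (hall_max hM (hall_subgroupOf h2 _).1 (map_le_iff_le_comap.1 h1)).symm⟩
  · obtain ⟨Δ, h1, h2, h3⟩ := alt_struct hM (nontriv h fun u => le_of_dvd_perm)
    exact ⟨_, hall_Bi h3 h2, h1⟩

theorem Typ.three_le {n d : ℕ} (h : Typ n d) : 3 ≤ d := by rcases h with h | h <;> omega

end Cfsg.Agent.FG.HS
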