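import Cfsg.Agent.CharDeep.Clifford
import Cfsg.Agent.Char.Burnside
import Cfsg.Agent.Gen2.Nilp

/-! Exact factorizations `G = A B` with `B` abelian and the centralizer of each of its non-identity elements: the
nontrivial constituents of `1_A^G` have degree dividing `|B| - 1` (`Ito.deg_dvd`). (helper3) -/

set_option autoImplicit false

namespace Cfsg.Agent.FG.Ito

open Subgroup Cfsg.Agent.Char Cfsg.Agent.CharDeep
open scoped _root_.Classical ComplexConjugate

variable {G : Type*} [Group G] [Fintype G] {A B : Subgroup G}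

/-- `B` is the centralizer of each of its non-identity elements -/
def SC (B : Subgroup G) : Prop := ∀ u ∈ B, u ≠ 1 → centralizer ({u} : Set G) = B

omit [Fintype G] in
theorem SC.comm (h : SC B) (a b : B) : a * b = b * a := by
  by_cases e : (b : G) = 1
  · rw [show b = 1 from Subtype.ext e, mul_one, one_mul]
  · exact Subtype.ext (Gen2.mem_cent.1 ((h b b.2 e).symm ▸ a.2))

omit [Fintype G] in
theorem SC.ti (h : SC B) {g u : G} (hu : u ∈ B) (u1 : u ≠ 1) (hg : g * u * g⁻¹ ∈ B) {w : G} (hw : w ∈ B) :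
    g * w * g⁻¹ ∈ B := by
  rw [← h _ hg (by simpa using u1), Gen2.mem_cent]
  have := Gen2.mem_cent.1 ((h u hu u1).symm ▸ hw)
  simp [mul_assoc, this]
  rw [← mul_assoc, ← mul_assoc, this]

theorem SC.surj (h : SC B) {g : G} (e : ∀ w ∈ B, g * w * g⁻¹ ∈ B) (hg : g ∉ B) (v : B) :
    ∃ u : B, (u : G)⁻¹ * (g * u * g⁻¹) = v := by
  let f : B →* B := ((MulAut.conj g).toMonoidHom.comp B.subtype).codRestrict B fun w => e w w.2
  have : Function.Injective fun u : B => u⁻¹ * f u := fun a b e3 => by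
    by_contra n
    refine hg (h _ (a * b⁻¹).2 (fun e => n (mul_inv_eq_one.1 (Subtype.ext e))) ▸ Gen2.mem_cent.2 ?_)
    have : f (a * b⁻¹) = a * b⁻¹ := by
      simp only at e3
      rw [map_mul, map_inv, show f a = a * (b⁻¹ * f b) by rw [← e3]; group]; group
    exact mul_inv_eq_iff_eq_mul.1 (congrArg Subtype.val this)
  obtain ⟨u, rfl⟩ := Finite.surjective_of_injective this v
  exact ⟨u, rfl⟩

theorem SC.sylow (h : SC B) {r : ℕ} [hr : Fact r.Prime] (d : r ∣ Nat.card B) : ∃ P : Sylow r G, (P : Subgroup G) ≤ B := by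
  obtain ⟨u, hu, e⟩ := Gen2.exists_mem_orderOf_eq_prime hr.out d
  have u1 : u ≠ 1 := by rintro rfl; exact hr.out.one_lt.ne (by simpa using e)
  obtain ⟨P, hP⟩ := Gen2.exists_sylow_mem (p := r) (g := u) ⟨1, by rw [e, pow_one]⟩
  have := P.2.isNilpotent
  obtain ⟨z, -, zc, e'⟩ := Gen2.exists_central_orderOf_of_isNilpotent (P : Subgroup G) hr.out
    (e ▸ (P : Subgroup G).orderOf_dvd_natCard hP)
  refine ⟨P, fun a ha => h z (h u hu u1 ▸ Gen2.mem_cent.2 (zc u hP).symm) ?_ ▸ Gen2.mem_cent.2 (zc a ha)⟩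
  rintro rfl; exact hr.out.one_lt.ne (by simpa using e')

theorem SC.index_eq (h : SC B) {r : ℕ} (hr : r.Prime) (d : r ∣ Nat.card B) {w : G} (hw : r ∣ orderOf w) :
    (centralizer ({w} : Set G)).index = B.index := by
  have := Fact.mk hr
  obtain ⟨P, hP⟩ := h.sylow d
  obtain ⟨v, hv, e⟩ := Gen2.exists_mem_orderOf_eq_prime (H := zpowers w) hr (by rwa [Nat.card_zpowers])
  obtain ⟨x, hx⟩ := Gen2.exists_conj_mem_sylow P (g := v) ⟨1, by rw [e, pow_one]⟩
  have v1 : v ≠ 1 := by rintro rfl; exact hr.one_lt.ne (by simpa using e)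
  have m : x * w * x⁻¹ ∈ B := h _ (hP hx) (by simpa using v1) ▸ Gen2.mem_cent.2 (by
    obtain ⟨k, rfl⟩ := hv
    exact (((Commute.refl w).zpow_right k).map (MulAut.conj x)).eq)
  rw [← Gen2.cs_conj x w, h _ m (by rintro e; simp_all)]

theorem SC.norm_le (h : SC B) {l m : B → ℂ} (hl : IsIrrCharacter B l) (hm : IsIrrCharacter B m)
    (l1 : l ≠ fun _ => 1) (m1 : m ≠ fun _ => 1) :
    (classInner (indFun B (l - m)) (indFun B (l - m))).re ≤ 2 := by
  have one : ∀ {l : B → ℂ}, IsIrrCharacter B l → l 1 = 1 := fun hl => hl.apply_one_of_comm h.comm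
  have key : ∀ g : G, (classInner (l - m) fun u : B => extendByZero B (l - m) (g * u * g⁻¹)).re ≤
      if g ∈ B then 2 else 0 := fun g => by
    by_cases e : ∀ w ∈ B, g * w * g⁻¹ ∈ B
    · let f : B →* B := ((MulAut.conj g).toMonoidHom.comp B.subtype).codRestrict B fun w => e w w.2
      have fi : Function.Injective f := fun a b e => Subtype.ext ((MulAut.conj g).injective (congrArg Subtype.val e))
      have fs := Finite.surjective_of_injective fi
      have e1 : (fun u : B => extendByZero B (l - m) (g * u * g⁻¹)) = (fun u => l (f u)) - fun u => m (f u) :=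
        funext fun u => extendByZero_coe B (l - m) (f u)
      have k : ∀ {l : B → ℂ}, IsIrrCharacter B l → (l ≠ fun _ => 1) → g ∉ B → l ≠ fun u => l (f u) :=
        fun {l} hl l1 hg e2 => l1 <| funext fun v => by
          obtain ⟨u, hu⟩ := h.surj e hg v
          obtain rfl : u⁻¹ * f u = v := Subtype.ext hu
          have mu := hl.isCharacter.map_mul_of_apply_one (one hl)
          rw [mu, ← congrFun e2 u, ← mu, inv_mul_cancel, one hl]
      have hl' := hl.comp_of_surjective f fs
      have hm' := hm.comp_of_surjective f fs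
      rw [e1, classInner_sub_left, classInner_sub_right, classInner_sub_right, hl.classInner_eq_ite hl',
        hl.classInner_eq_ite hm', hm.classInner_eq_ite hl', hm.classInner_eq_ite hm']
      by_cases hg : g ∈ B
      · rw [if_pos hg]; split_ifs <;> norm_num
      · rw [if_neg hg, if_neg (k hl l1 hg), if_neg (k hm m1 hg)]; split_ifs <;> norm_num
    · rw [classInner_def, Finset.sum_eq_zero fun u _ => ?_]
      · split_ifs <;> simp
      by_cases u1 : u = 1
      · simp [u1, one hl, one hm]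
      · rw [extendByZero_of_not_mem _ _ fun hg => e fun w hw => h.ti u.2 (fun e => u1 (Subtype.ext e)) hg hw]
        simp
  rw [classInner_indFun_left _ _ (indFun_isClassFunction _ _),
    show (fun u : B => indFun B (l - m) u) = ((Nat.card B : ℝ)⁻¹ : ℂ) • ∑ g : G,
      fun u : B => extendByZero B (l - m) (g * u * g⁻¹) from funext fun u => by
        rw [indFun_apply']; simp, classInner_smul_right, classInner_sum_right, ← Complex.ofReal_inv,
    Complex.conj_ofReal, Complex.re_ofReal_mul, Complex.re_sum]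
  have p : (0 : ℝ) < Nat.card B := by exact_mod_cast Nat.card_pos
  rw [inv_mul_le_iff₀ p]
  refine (Finset.sum_le_sum fun g _ => key g).trans (le_of_eq ?_)
  rw [← Finset.sum_filter, Finset.sum_const, nsmul_eq_mul, Nat.card_eq_fintype_card, Fintype.card_subtype]

theorem deg_dvd (h : SC B) (hc : (Nat.card A).Coprime (Nat.card B)) (hi : A.index = Nat.card B)
    {ψ : IrrCharacter G} (h1 : ψ ≠ irrOne G) (h0 : classInner (indFun A fun _ => 1) ψ ≠ 0) :
    charDegree ψ.1 ∣ Nat.card B - 1 ∧ ¬ B ≤ charKer ψ.1 := by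
  have hπ : IsCharacter G (indFun A fun _ => 1) := isCharacter_indFun A isCharacter_one
  obtain ⟨m, hm, e⟩ := hπ.exists_nat_coeff
  have nat : ∀ (χ : IrrCharacter G) (l : IrrCharacter B), ∃ n : ℕ, classInner (fun u : B => χ.1 u) l = n :=
    fun χ l => (χ.2.isCharacter.restrict B).exists_nat_classInner l.2.isCharacter
  choose n hn using nat
  have one : ∀ l : IrrCharacter B, l.1 1 = 1 := fun l => l.2.apply_one_of_comm h.comm
  have s1 : ∀ l : IrrCharacter B, ∑ χ, m χ * n χ l = 1 := fun l => by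
    have : classInner (fun u : B => indFun A (fun _ => 1) u) l = 1 := by
      rw [classInner_def, Finset.sum_eq_single 1 (fun u _ u1 => ?_) (by simp)]
      · rw [coe_one, indFun_one, hi, one]; simp [card_ne_zero' B]
      rw [indFun_eq_zero_of_forall_not_mem _ _ fun g hg => u1 ?_, zero_mul]
      have e1 := A.orderOf_dvd_natCard hg
      rw [show g * u * g⁻¹ = MulAut.conj g u from rfl, MulEquiv.orderOf_eq, orderOf_coe] at e1
      exact orderOf_eq_one_iff.1 (Nat.eq_one_of_dvd_coprimes hc e1 (orderOf_dvd_natCard u))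
    rw [show (fun u : B => indFun A (fun _ => 1) u) = ∑ χ, (m χ : ℂ) • fun u : B => χ.1 u from
      funext fun u => by rw [e]; simp, classInner_sum_left] at this
    simp only [classInner_smul_left, hn] at this
    exact_mod_cast this
  have m1 : m (irrOne G) = 1 := by
    have := hm (irrOne G)
    rw [classInner_indFun_left _ _ (irrOne G).2.isClassFunction] at this
    exact_mod_cast this.symm.trans isIrrCharacter_one.classInner_self
  have uq : ∀ {χ ξ : IrrCharacter G} {l}, χ ≠ ξ → m χ ≠ 0 → m ξ ≠ 0 → n χ l ≠ 0 → n χ l = 1 ∧ n ξ l = 0 :=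
    fun {χ ξ l} ne a b c => by
      have := (Finset.add_le_sum (f := fun χ => m χ * n χ l) (fun _ _ => Nat.zero_le _) (Finset.mem_univ χ)
        (Finset.mem_univ ξ) ne).trans (s1 l).le
      have := Nat.le_mul_of_pos_left (n χ l) (Nat.pos_of_ne_zero a)
      have := Nat.le_mul_of_pos_left (n ξ l) (Nat.pos_of_ne_zero b)
      omega
  have ex : ∀ {χ : IrrCharacter G}, χ ≠ irrOne G → m χ ≠ 0 → ∃ l : IrrCharacter B, (l.1 ≠ fun _ => 1) ∧ n χ l ≠ 0 :=
    fun {χ} c1 c0 => by
      obtain ⟨l, hl, e⟩ := exists_irr_under B χ.2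
      have e1 : n χ ⟨l, hl⟩ ≠ 0 := fun e1 => e (by rw [hn χ ⟨l, hl⟩, e1, Nat.cast_zero])
      refine ⟨⟨l, hl⟩, fun e2 => ?_, e1⟩
      have := hn (irrOne G) ⟨l, hl⟩
      rw [(uq c1 c0 (by omega) e1).2] at this
      simp only at e2 this
      rw [e2] at this
      exact one_ne_zero (isIrrCharacter_one.classInner_self.symm.trans (this.trans Nat.cast_zero))
  have mψ : m ψ ≠ 0 := fun e => h0 (by rw [hm, e, Nat.cast_zero])
  have dg : ∀ χ : IrrCharacter G, χ ≠ irrOne G → m χ ≠ 0 → χ.1 1 = ψ.1 1 := fun χ c1 c0 => by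
    by_contra ne
    have ne' : χ ≠ ψ := fun e => ne (by rw [e])
    obtain ⟨l, l1, hl⟩ := ex c1 c0
    obtain ⟨k, k1, hk⟩ := ex h1 mψ
    have hf := isGeneralizedCharacter_indFun B (l.2.isGeneralizedCharacter.sub k.2.isGeneralizedCharacter)
    obtain ⟨c, hc, ef⟩ := hf.exists_int_coeff
    have cv : ∀ ξ, c ξ = (n ξ l : ℤ) - n ξ k := fun ξ => by
      have := hc ξ
      rw [classInner_indFun_left _ _ ξ.2.isClassFunction, classInner_sub_left, ← conj_classInner, hn,
        ← conj_classInner, hn] at this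
      simp only [map_natCast] at this
      exact_mod_cast this.symm
    have nm := h.norm_le l.2 k.2 l1 k1
    rw [ef, classInner_self_of_int_coeff, Complex.intCast_re] at nm
    have nm' : ∑ ξ, c ξ ^ 2 ≤ 2 := by exact_mod_cast nm
    have a1 := uq ne' c0 mψ hl
    have a2 := uq ne'.symm mψ c0 hk
    have c1 : c χ = 1 := by rw [cv, a1.1, a2.2]; rfl
    have c2 : c ψ = -1 := by rw [cv, a1.2, a2.1]; rfl
    have sub : ({χ, ψ} : Finset _) ⊆ Finset.univ := Finset.subset_univ _
    rw [← Finset.sum_sdiff sub, Finset.sum_pair ne', c1, c2] at nm'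
    have z : ∀ ξ ∈ Finset.univ \ {χ, ψ}, c ξ ^ 2 = 0 := (Finset.sum_eq_zero_iff_of_nonneg fun _ _ => sq_nonneg _).1
      (le_antisymm (by linarith) (Finset.sum_nonneg fun _ _ => sq_nonneg _))
    have := congrFun ef 1
    rw [indFun_one, Pi.sub_apply, one, one, sub_self, mul_zero, Finset.sum_apply, ← Finset.sum_sdiff sub,
      Finset.sum_pair ne', Finset.sum_eq_zero fun ξ hξ => by simp [(pow_eq_zero_iff two_ne_zero).1 (z ξ hξ)]] at this
    simp only [Pi.smul_apply, c1, c2, smul_eq_mul] at this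
    exact ne (by push_cast at this; linear_combination -this)
  refine ⟨?_, fun hk => ?_⟩
  swap
  · obtain ⟨k, k1, hk'⟩ := ex h1 mψ
    have := hn ψ k
    rw [show (fun u : B => ψ.1 u) = ψ.1 1 • fun _ => 1 from funext fun u => by
      simp [ψ.2.isCharacter.mem_charKer.1 (hk u.2)], classInner_smul_left,
      isIrrCharacter_one.classInner_eq_zero_of_ne k.2 k1.symm, mul_zero] at this
    exact hk' (by exact_mod_cast this.symm)
  have := congrFun e 1
  rw [indFun_one, hi, mul_one, Finset.sum_apply, ← Finset.add_sum_erase _ _ (Finset.mem_univ (irrOne G)),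
    Finset.sum_congr rfl (g := fun χ => (m χ : ℂ) * charDegree ψ.1) fun χ hχ => ?_, ← Finset.sum_mul] at this
  · simp only [Pi.smul_apply, m1, irrOne_apply, smul_eq_mul, Nat.cast_one, mul_one] at this
    have e2 : Nat.card B = 1 + (∑ χ ∈ Finset.univ.erase (irrOne G), m χ) * charDegree ψ.1 := by exact_mod_cast this
    rw [e2, Nat.add_sub_cancel_left]; exact dvd_mul_left _ _
  by_cases c0 : m χ = 0
  · simp [c0]
  · rw [Pi.smul_apply, smul_eq_mul, dg χ (Finset.ne_of_mem_erase hχ) c0, ψ.2.apply_one_eq_charDegree]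

theorem isolated {x : G} (h : SC B) (hc : (Nat.card (centralizer ({x} : Set G))).Coprime (Nat.card B))
    (hi : (centralizer ({x} : Set G)).index = Nat.card B)
    (hx : ∀ J : Subgroup G, J.Normal → (∀ g, x * g * x⁻¹ * g⁻¹ ∈ J) → B ≤ J) {g : G} (hg : Commute x (g * x * g⁻¹)) : g * x * g⁻¹ = x := by
  set A := centralizer ({x} : Set G)
  have e := (indFun_isClassFunction A fun _ => 1).apply_eq_sum_irr x
  rw [Finset.sum_eq_single (irrOne G) (fun ψ _ h1 => ?_) (by simp),
    classInner_indFun_left _ _ (irrOne G).2.isClassFunction, indFun_apply', irrOne_apply, mul_one,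
    show classInner (fun _ : A => (1 : ℂ)) (fun u : A => (irrOne G).1 u) = 1 from isIrrCharacter_one.classInner_self,
    inv_mul_eq_one₀ (card_ne_zero' A), Finset.sum_congr rfl (g := fun g => if g * x * g⁻¹ ∈ A then 1 else 0)
      fun g _ => by rw [extendByZero_apply]; simp, Finset.sum_boole, Nat.cast_inj, Nat.card_eq_fintype_card,
    Fintype.card_subtype] at e
  · have := Finset.eq_of_subset_of_card_le (fun a ha => ?_) e.ge
    · have : g ∈ Finset.univ.filter (· ∈ A) := this ▸ (by simpa using Gen2.mem_cent.2 hg.eq.symm)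
      rw [Gen2.mem_cent.1 (Finset.mem_filter.1 this).2, mul_inv_cancel_right]
    · rw [Finset.mem_filter] at ha ⊢
      exact ⟨ha.1, by rw [Gen2.mem_cent.1 ha.2, mul_inv_cancel_right]; exact Gen2.self_mem_cent x⟩
  by_cases h0 : classInner (indFun A fun _ => 1) ψ = 0
  · rw [h0, zero_mul]
  rw [(ψ.2.eq_zero_or_mem_charCenter x ?_).resolve_right fun e => (deg_dvd h hc hi h1 h0).2
    (hx _ ψ.2.isClassFunction.normal_charKer (ψ.2.isCharacter.commutator_mem_charKer e)), mul_zero]
  rw [hi]
  refine Nat.Coprime.coprime_dvd_left (deg_dvd h hc hi h1 h0).1 ?_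
  obtain ⟨k, hk⟩ := Nat.exists_eq_add_one_of_ne_zero (Nat.card_pos (α := B)).ne'
  rw [hk]; simp

end Cfsg.Agent.FG.Ito
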