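import Cfsg.Agent.Gen2.Kazarin
import Cfsg.Agent.Gen2.TwoSizes
import Cfsg.Agent.Gen2.Cyc
import Cfsg.Agent.Gen2.Nilp
import Cfsg.Agent.Gen2.Real
import Cfsg.Agent.Small.BT
import Cfsg.Agent.Transfer.Complement
import Cfsg.Agent.FTC.Aniso

/-! Centralizer lemmas for groups with few class sizes: `Ito.inv_comm` (minimal involution centralizers are
abelian), `Ito.two_sizes` (class sizes `1`, `k` off the primes of the centre), solvability criteria. (helper3) -/

set_option autoImplicit false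

namespace Cfsg.Agent.FG.Ito

open Subgroup Cfsg.Agent.Gen2

local notation "C[" x "]" => Subgroup.centralizer ({x} : Set _)

variable {G : Type*} [Group G] [Finite G]

theorem eq_of_le_index {H K : Subgroup G} (h : H ≤ K) (e : H.index = K.index) : H = K :=
  eq_of_le_of_card_ge h (Nat.eq_of_mul_eq_mul_right (Nat.pos_of_ne_zero K.index_ne_zero_of_finite)
    (by rw [K.card_mul_index, ← e, H.card_mul_index])).le

theorem le_of_cop {N H : Subgroup G} [N.Normal] (h : (Nat.card N).Coprime H.index) : N ≤ H :=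
  relIndex_eq_one.1 (Nat.eq_one_of_dvd_coprimes h (H.subgroupOf N).index_dvd_card
    (relIndex_dvd_index_of_normal_right H N))

theorem exists_cen {p : ℕ} (hp : p.Prime) (h : p ∣ Nat.card G) : ∃ z : G, orderOf z = p ∧ ¬ p ∣ C[z].index :=
  have := Fact.mk hp
  Small.exists_central_elt h

omit [Finite G] in
theorem ne_one_of {z : G} {p : ℕ} (hp : p.Prime) (h : orderOf z = p) : z ≠ 1 := by
  rintro rfl; exact hp.one_lt.ne (by simpa using h)

theorem mul_ne_one {x y : G} (h : (orderOf x).Coprime (orderOf y)) (hx : x ≠ 1) : x * y ≠ 1 := fun e => by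
  rw [eq_inv_of_mul_eq_one_right e, orderOf_inv, Nat.coprime_self, orderOf_eq_one_iff] at h; exact hx h

theorem inv_comm (h : ∀ t : G, orderOf t = 2 → ∀ w ≠ 1, C[w] ≤ C[t] → C[w] = C[t]) {t : G} (ht : orderOf t = 2) :
    IsMulCommutative C[t] := by
  have h2 : ∀ u : G, u ≠ 1 → (∃ k, orderOf u = 2 ^ k) → ∀ w ≠ 1, C[w] ≤ C[u] → C[w] = C[u] := fun u u1 ⟨k, hk⟩ w w1 e => by
    obtain ⟨s, hs, p⟩ := exists_prime_order_mem_zpowers u1
    have := (Nat.prime_dvd_prime_iff_eq p Nat.prime_two).1 (p.dvd_of_dvd_pow (hk ▸ orderOf_dvd_of_mem_zpowers hs))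
    exact e.antisymm ((cent_le_cent_of_mem_zpowers hs).trans (h s this w w1 (e.trans (cent_le_cent_of_mem_zpowers hs))).ge)
  have ab : ∀ S : Sylow 2 G, ∀ a ∈ (S : Subgroup G), ∀ b ∈ (S : Subgroup G), a * b = b * a := fun S a ha b hb => by
    by_contra n
    have := S.2.isNilpotent
    obtain ⟨z, hz, zc, z2⟩ := exists_central_orderOf_of_isNilpotent (S : Subgroup G) Nat.prime_two (by
      obtain ⟨k, hk⟩ := S.2.exists_card_eq
      refine hk ▸ dvd_pow_self 2 ?_
      rintro rfl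
      rw [pow_zero, card_eq_one] at hk
      rw [hk, mem_bot] at ha; simp [ha] at n)
    have k : ∀ u ∈ (S : Subgroup G), ¬ (S : Subgroup G) ≤ C[u] → u * u = 1 := fun u hu nu => by
      by_contra u2
      have c : u * z = z * u := zc u hu
      have zz : z * z = 1 := by rw [← sq, ← z2, pow_orderOf_eq_one]
      have e : (u * z) ^ 2 = u ^ 2 := by rw [Commute.mul_pow c, sq z, zz, mul_one]
      have q := h2 (u ^ 2) (by rwa [sq]) (pElt_of_mem S.2 (pow_mem hu 2))
      have u1 : u ≠ 1 := by rintro rfl; simp at u2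
      have e1 := q u u1 (cent_le_cent_pow u 2)
      have e2 := q (u * z) (fun e' => u2 (by rw [← sq, ← e, e', one_pow])) (e ▸ cent_le_cent_pow _ 2)
      refine nu fun s hs => h z z2 u u1 (fun g hg => ?_) ▸ mem_cent.2 (zc s hs)
      have := mem_cent.1 (e2.symm ▸ e1 ▸ hg : g ∈ C[u * z])
      rw [← mul_assoc, mem_cent.1 hg, mul_assoc, mul_assoc] at this
      exact mem_cent.2 (mul_left_cancel this)
    have ka := k a ha fun e => n (mem_cent.1 (e hb)).symm
    have kb := k b hb fun e => n (mem_cent.1 (e ha))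
    have kab := k _ (mul_mem ha hb) fun e => n (mul_left_cancel (a := a) (by rw [mem_cent.1 (e ha), mul_assoc]))
    exact n (by rw [eq_inv_of_mul_eq_one_left kab, mul_inv_rev, inv_eq_of_mul_eq_one_right ka,
      inv_eq_of_mul_eq_one_right kb])
  have od : ∀ b : C[t], (orderOf b).Coprime 2 → b ∈ center C[t] := fun b hb => mem_center_iff.2 fun g => by
    have c : (orderOf t).Coprime (orderOf (b : G)) := by rw [ht, orderOf_coe]; exact hb.symm
    have e := cent_mul_of_coprime (mem_cent.1 b.2).symm c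
    have := h t ht _ (mul_ne_one c (ne_one_of Nat.prime_two ht)) (e ▸ inf_le_left)
    rw [e] at this
    exact Subtype.ext (mem_cent.1 (this.ge g.2).2)
  obtain ⟨T⟩ : Nonempty (Sylow 2 C[t]) := inferInstance
  have cj : ∀ K : Subgroup C[t], (T : Subgroup _) ≤ K → center _ ≤ K → K = ⊤ := fun K h1 h2 =>
    eq_top_of_forall_exists_conj_mem K fun g => by
      obtain ⟨a, b, -, -, ha, hb, rfl⟩ := Transfer.exists_pPart_mul_pPrimePart (p := 2) g
      obtain ⟨x, hx⟩ := exists_conj_mem_sylow T (pElt_iff.2 ha)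
      refine ⟨x, ?_⟩
      rw [show x * (a * b) * x⁻¹ = x * a * x⁻¹ * b by
        simp only [mul_assoc]; rw [mem_center_iff.1 (od b hb) x⁻¹]]
      exact mul_mem (h1 hx) (h2 (od b hb))
  obtain ⟨S, hS⟩ := (T.2.map C[t].subtype).exists_le_sylow
  have e1 := cj (centralizer (T : Set _)) (fun a ha b hb => Subtype.ext
    (ab S _ (hS (mem_map_of_mem _ hb)) _ (hS (mem_map_of_mem _ ha)))) (center_le_centralizer _)
  have e2 := cj (center _) (fun a ha => mem_center_iff.2 fun g => ((e1 ▸ mem_top g : g ∈ centralizer _) a ha).symm) le_rfl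
  exact ⟨⟨fun a b => mem_center_iff.1 (e2 ▸ mem_top b) a⟩⟩

theorem sol_of_rad (p : ℕ) (hp : p.Prime) (h : ∀ (q : ℕ) (x : G), q.Prime → q ≠ p → (∃ k, orderOf x = q ^ k) →
    x ∈ solvableRadical G) : Group.IsSolvable G := by
  have := Fact.mk hp
  have : IsPGroup p (G ⧸ solvableRadical G) := (IsPGroup.iff_card.2 ⟨_, Nat.eq_prime_pow_of_unique_prime_dvd
    Nat.card_pos.ne' fun {q} hq hd => by
      by_contra n
      have := Fact.mk hq
      obtain ⟨x, hx⟩ := exists_prime_orderOf_dvd_card' q hd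
      obtain ⟨g, rfl⟩ := QuotientGroup.mk'_surjective _ x
      obtain ⟨a, -, ha, e⟩ := exists_pElt_lift (p := q) (QuotientGroup.mk' _) g ⟨1, by rw [hx, pow_one]⟩
      exact ne_one_of hq hx (e ▸ (QuotientGroup.eq_one_iff a).2 (h q a hq n ha))⟩)
  have := this.isNilpotent
  exact solvable_of_ker_le_range (solvableRadical G).subtype (QuotientGroup.mk' (solvableRadical G)) (by simp)

theorem sol_ind (P : ℕ → Prop) (N : Subgroup G) (hN : N.Normal)
    (h1 : ∀ (r : ℕ) [Fact r.Prime], P r → HasNormalPComplement r N)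
    (h2 : ∀ K ≤ N, K.Normal → (∀ r : ℕ, r.Prime → r ∣ Nat.card K → ¬ P r) → Group.IsSolvable K) :
    Group.IsSolvable N := by
  induction N using WellFoundedLT.induction with | ind N ih => ?_
  by_cases h : ∀ r : ℕ, r.Prime → r ∣ Nat.card N → ¬ P r
  · exact h2 N le_rfl hN h
  push Not at h
  obtain ⟨r, hr, hd, hP⟩ := h
  have := Fact.mk hr
  have e := Transfer.hasNormalPComplement_iff_not_dvd_card_pResidual.1 (h1 r hP)
  have le := map_subtype_le (H := N) (pResidual r N)
  have s := ih _ (le.lt_of_ne fun e' => e (by rwa [← card_map_of_injective N.subtype_injective, e']))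
    inferInstance (fun q _ hq => Transfer.hasNormalPComplement_of_le (h1 q hq) le) fun K hK => h2 K (hK.trans le)
  have : Group.IsSolvable (pResidual r N) := solvable_of_solvable_injective
    (f := ((pResidual r N).equivMapOfInjective _ N.subtype_injective).toMonoidHom) (MulEquiv.injective _)
  have := (Transfer.isPGroup_quotient_pResidual (p := r) (G := N)).isNilpotent
  exact solvable_of_ker_le_range (pResidual r N).subtype (QuotientGroup.mk' (pResidual r N)) (by simp)

theorem sol_of_cen_mod {t : G} (N : Subgroup G) [N.Normal] [Group.IsSolvable N] [Group.IsSolvable C[t]]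
    (hc : (Nat.card N).Coprime (orderOf t)) (h : ∀ g, g * t * g⁻¹ * t⁻¹ ∈ N) : Group.IsSolvable G := by
  have := Solv.isSolvable_sup (N := N) (H := C[t]) le_normalizer_of_normal
  rw [show N ⊔ C[t] = ⊤ from eq_top_iff.2 fun g _ => ?_] at this
  · exact solvable_of_surjective (f := (⊤ : Subgroup G).subtype) fun g => ⟨⟨g, trivial⟩, rfl⟩
  obtain ⟨n, hn, e⟩ := exists_conj_eq_of_mk (g := g) hc (mem_zpowers t)
    (QuotientGroup.eq_iff_div_mem.2 (by simpa [div_eq_mul_inv] using h g))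
  rw [show g = n⁻¹ * (n * g) by group]
  exact mul_mem (mem_sup_left (inv_mem hn)) (mem_sup_right (mem_cent.2 (mul_inv_eq_iff_eq_mul.1 e)))

theorem two_sizes {k : ℕ} (hk : k ∣ Nat.card G) (hZ : center G ≠ ⊥) (hZ' : center G ≠ ⊤)
    (h : ∀ r : ℕ, r.Prime → r ∣ Nat.card (center G) → ∀ u : G, ¬ r ∣ orderOf u → C[u].index = 1 ∨ C[u].index = k) :
    (∃ r j : ℕ, r.Prime ∧ k = r ^ j) ∨ ∃ p q : ℕ, ∀ r : ℕ, r.Prime → r ∣ Nat.card G → r = p ∨ r = q := by
  by_contra! H
  have k0 : k ≠ 0 := fun e => Nat.card_pos.ne' (Nat.eq_zero_of_zero_dvd (e ▸ hk))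
  have nz : ∀ {s : ℕ} {z : G}, s.Prime → ¬ s ∣ Nat.card (center G) → orderOf z = s → C[z].index ≠ 1 :=
    fun hs n e e' => n (e ▸ (center G).orderOf_dvd_natCard (cs_eq_one_iff.1 e'))
  obtain ⟨r₀, hr₀, d₀⟩ := Nat.exists_prime_and_dvd (mt card_eq_one.1 hZ)
  have h1 : ∀ s : ℕ, s.Prime → s ∣ Nat.card G → ¬ s ∣ Nat.card (center G) → ¬ s ∣ k := fun s hs d n => by
    obtain ⟨z, hz, hz'⟩ := exists_cen hs d
    exact (h r₀ hr₀ d₀ z fun e => n ((Nat.prime_dvd_prime_iff_eq hr₀ hs).1 (hz ▸ e) ▸ d₀)).resolve_left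
      (nz hs n hz) ▸ hz'
  have two : ∀ r : ℕ, ∃ q : ℕ, q.Prime ∧ q ≠ r ∧ q ∣ Nat.card (center G) := fun r => by
    by_contra! n
    by_cases hr : r.Prime
    · exact H.1 r _ hr (Nat.eq_prime_pow_of_unique_prime_dvd k0 fun {q} hq d => by_contra fun e =>
        h1 q hq (d.trans hk) (n q hq e) d)
    · exact n r₀ hr₀ (fun e => hr (e ▸ hr₀)) d₀
  have nd : ∀ {q r j : ℕ} {w : G}, q.Prime → r.Prime → q ≠ r → orderOf w = r ^ j → ¬ q ∣ orderOf w :=
    fun hq hr n e d => n ((Nat.prime_dvd_prime_iff_eq hq hr).1 (hq.dvd_of_dvd_pow (e ▸ d)))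
  have pp : ∀ {r j : ℕ} {w : G}, r.Prime → orderOf w = r ^ j → w ∉ center G → C[w].index = k := fun {r j w} hr e n => by
    obtain ⟨q, hq, n', d⟩ := two r
    exact (h q hq d w (nd hq hr n' e)).resolve_left (mt cs_eq_one_iff.1 n)
  have eqc : ∀ {q r s i j : ℕ} {v w : G}, q.Prime → q ∣ Nat.card (center G) → r.Prime → s.Prime → q ≠ r → q ≠ s → r ≠ s →
      orderOf v = r ^ i → orderOf w = s ^ j → v ∉ center G → w ∉ center G → Commute v w → C[v] = C[w] :=
    fun {q r s i j v w} hq d hr hs n1 n2 n3 ev ew zv zw c => by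
      have co : (orderOf v).Coprime (orderOf w) := ev ▸ ew ▸ Nat.coprime_pow_primes _ _ hr hs n3
      have e := cent_mul_of_coprime c co
      have := (h q hq d (v * w) (by
        rw [c.orderOf_mul_eq_mul_orderOf_of_coprime co, hq.dvd_mul, not_or]
        exact ⟨nd hq hr n1 ev, nd hq hs n2 ew⟩)).resolve_left fun e' =>
          zv (cent_eq_top_iff.1 (top_le_iff.1 ((index_eq_one.1 e').ge.trans (e ▸ inf_le_left))))
      exact (eq_of_le_index (e ▸ inf_le_left) (this.trans (pp hr ev zv).symm)).symm.trans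
        (eq_of_le_index (e ▸ inf_le_right) (this.trans (pp hs ew zw).symm))
  by_cases all : ∀ s : ℕ, s.Prime → s ∣ Nat.card G → s ∣ Nat.card (center G)
  · have : ∀ g : G, C[g].index = 1 ∨ C[g].index = k := fun g => or_iff_not_imp_left.2 fun n => by
      have := mt (mem_of_forall_pElt (H := center G) (x := g)) (mt cs_eq_one_iff.2 n)
      push Not at this
      obtain ⟨r, hr, w, hw, ⟨j, e⟩, zw⟩ := this
      rw [← pp hr e zw]
      congr 1
      refine (cent_le_cent_of_mem_zpowers hw).antisymm fun a ha => mem_cent_comm.1 (mem_of_forall_pElt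
        fun s hs v hv ⟨i, ev⟩ => mem_cent_comm.1 ?_)
      by_cases zv : v ∈ center G
      · exact cent_eq_top_iff.2 zv ▸ mem_top a
      by_cases n3 : s = r
      · subst n3
        have l := (pp hs e zw).trans (pp hs ev zv).symm
        rcases le_total i j with c | c
        · exact cent_le_cent_of_mem_zpowers (mem_zpowers_of_orderOf_dvd hv hw (ev ▸ e ▸ pow_dvd_pow s c)) ha
        · exact eq_of_le_index (cent_le_cent_of_mem_zpowers
            (mem_zpowers_of_orderOf_dvd hw hv (ev ▸ e ▸ pow_dvd_pow s c))) l.symm ▸ ha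
      · obtain ⟨q, hq, d, n1, n2⟩ := H.2 s r
        exact eqc hq (all q hq d) hs hr n1 n2 n3 ev e zv zw (mul_comm_of_isCyclic hv hw) ▸ ha
    obtain ⟨p, hp, hP⟩ := isPGroup_quotient_of_two_sizes this
    have _ := Fact.mk hp
    obtain ⟨g, -, hg⟩ := SetLike.exists_of_lt hZ'.lt_top
    obtain ⟨m, hm⟩ := hP.exists_card_eq
    obtain ⟨j, -, e⟩ := (Nat.dvd_prime_pow hp).1 ((index_dvd_of_le (center_le_centralizer {g})).trans hm.dvd)
    exact H.1 p j hp (((this g).resolve_left (mt cs_eq_one_iff.1 hg)).symm.trans e)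
  push Not at all
  obtain ⟨s, hs, d, n⟩ := all
  have := Fact.mk hs
  obtain ⟨z, hz, hz'⟩ := exists_cen hs d
  obtain ⟨S, hS⟩ := not_dvd_index_iff.1 hz'
  refine nz hs n hz (index_eq_one.2 (eq_top_of_forall_exists_conj_mem _ fun g => ?_))
  by_cases c : ∃ (r j : ℕ) (w : G), r.Prime ∧ r ≠ s ∧ w ∈ zpowers g ∧ orderOf w = r ^ j ∧ w ∉ center G
  · obtain ⟨r, j, w, hr, n3, hw, e, zw⟩ := c
    obtain ⟨x, hx⟩ := exists_conj_mem_centralizer_sylow S (x := w) (pp hr e zw ▸ h1 s hs d n)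
    obtain ⟨q, hq, n1, dq⟩ := two r
    refine ⟨x, eqc (i := j) (j := 1) hq dq hr hs n1 (fun e => n (e ▸ dq)) n3 (by rw [← e]; exact (MulAut.conj x).orderOf_eq w)
      (by rw [hz, pow_one]) (fun e => zw ?_) (mt cs_eq_one_iff.2 (nz hs n hz))
      (hx z (mem_sylow_of_le_cent S ⟨1, by rw [hz, pow_one]⟩ hS)).symm ▸ mem_cent.2 ?_⟩
    · exact cs_eq_one_iff.1 (cs_conj x w ▸ cs_eq_one_iff.2 e)
    · simp [mul_assoc, mul_comm_of_isCyclic (mem_zpowers g) hw]
      rw [← mul_assoc, ← mul_assoc, mul_comm_of_isCyclic (mem_zpowers g) hw]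
  · push Not at c
    obtain ⟨a, b, -, hb, ha, hb', rfl⟩ := Transfer.exists_pPart_mul_pPrimePart (p := s) g
    have zb : b ∈ center G := mem_of_forall_pElt fun r hr w hw ⟨j, e⟩ => by
      by_cases n3 : r = s
      · subst n3
        rw [orderOf_eq_one_iff.1 (Nat.eq_one_of_dvd_coprimes (hb'.pow_right j) (orderOf_dvd_of_mem_zpowers hw) e.dvd)]
        exact one_mem _
      · exact c r j w hr n3 (zpowers_le_of_mem hb hw) e
    obtain ⟨x, hx⟩ := exists_conj_mem_sylow S (pElt_iff.2 ha)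
    refine ⟨x, ?_⟩
    rw [show x * (a * b) * x⁻¹ = x * a * x⁻¹ * b by simp only [mul_assoc]; rw [mem_center_iff.1 zb x⁻¹]]
    exact mul_mem (hS hx) (center_le_centralizer _ zb)

end Cfsg.Agent.FG.Ito
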