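import Cfsg.Agent.FG.Ito1
import Cfsg.Agent.FG.Ito2
import Cfsg.Agent.Gen2.PPClass
import Cfsg.Agent.S4160
import Cfsg.Agent.Gen.ThompsonNil
import Cfsg.Agent.Frob.Compl
import Cfsg.Agent.Solv.CoprimeSylow
import Cfsg.Agent.SolvStr.Product
import Cfsg.Agent.LieM.Omega
import Cfsg.Agent.Block.ZStar

/-! Centreless groups with class sizes `1, α, β, γ`, `α ∣ γ`, `α` prime to `β` (`Ito.S`) are solvable when an involution
has class size `α` and a non-minimal centralizer (`Ito.S.sol`). (helper3) -/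

set_option autoImplicit false

namespace Cfsg.Agent.FG.Ito

open Subgroup Cfsg.Agent.Gen2

local notation "C[" x "]" => Subgroup.centralizer ({x} : Set _)

structure S (G : Type*) [Group G] (α β γ : ℕ) : Prop where
  hZ : center G = ⊥
  hN : ∀ x : G, x ≠ 1 → C[x].index = α ∨ C[x].index = β ∨ C[x].index = γ
  cop : α.Coprime β
  dvd : α ∣ γ
  ne : α ≠ γ
  a1 : α ≠ 1
  b1 : β ≠ 1
  ex : ∃ w : G, w ≠ 1 ∧ C[w].index = γ

variable {G : Type*} [Group G] [Finite G] {α β γ : ℕ} {x y t u : G}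

theorem sol_two (h : ∃ p q : ℕ, ∀ r : ℕ, r.Prime → r ∣ Nat.card G → r = p ∨ r = q) : Group.IsSolvable G :=
  h.elim fun _ h => h.elim fun _ h => Char.isSolvable_of_two_primes h

theorem ord_dvd (x : G) : orderOf x ∣ Nat.card C[x] := C[x].orderOf_dvd_natCard (self_mem_cent x)

theorem card_dvd (h : C[x].index ∣ C[y].index) : Nat.card C[y] ∣ Nat.card C[x] :=
  Nat.dvd_of_mul_dvd_mul_right (cs_pos x) (by
    rw [card_mul_index, ← C[y].card_mul_index]; exact mul_dvd_mul_left _ h)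

theorem nil_of_fpf (N : Subgroup G) [N.Normal] (hy : (orderOf y).Prime) (h : (Nat.card N).Coprime (Nat.card C[y])) :
    Group.IsNilpotent N :=
  Gen.prime_Frobenius_kernel_nil (R := zpowers y) le_normalizer_of_normal (by rwa [Nat.card_zpowers])
    (eq_bot_iff.2 ((inf_le_inf_left N (centralizer_le (by simp))).trans (inf_eq_bot_of_coprime h).le))

namespace S

variable (h : S G α β γ)
include h

theorem g0 : γ ≠ 0 := h.ex.elim fun w e => e.2 ▸ cs_ne_zero w
theorem nab : ¬ α ∣ β := fun e => h.a1 (h.cop.eq_one_of_dvd e)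
theorem nba : ¬ β ∣ α := fun e => h.b1 (h.cop.symm.eq_one_of_dvd e)
theorem nga : ¬ γ ∣ α := fun e => h.ne (Nat.dvd_antisymm h.dvd e)

theorem max (hx : C[x].index = α) (u1 : u ≠ 1) (e : C[x] ≤ C[u]) : C[u] = C[x] := by
  have := hx ▸ index_dvd_of_le e
  refine (eq_of_le_index e (hx.trans ?_)).symm
  rcases h.hN u u1 with e | e | e
  exacts [e.symm, (h.nba (e ▸ this)).elim, (h.nga (e ▸ this)).elim]

theorem max' (hy : C[y].index = β) (u1 : u ≠ 1) (e : C[y] ≤ C[u]) : C[u] = C[y] := by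
  have := hy ▸ index_dvd_of_le e
  refine (eq_of_le_index e (hy.trans ?_)).symm
  rcases h.hN u u1 with e | e | e
  exacts [(h.nab (e ▸ this)).elim, e.symm, (h.nab (h.dvd.trans (e ▸ this))).elim]

theorem of_a (u1 : u ≠ 1) (e : α ∣ C[u].index) : C[u].index = α ∨ C[u].index = γ := by
  rcases h.hN u u1 with e' | e' | e'
  exacts [.inl e', (h.nab (e' ▸ e)).elim, .inr e']

theorem min (hx : C[x].index = γ) (u1 : u ≠ 1) (e : C[u] ≤ C[x]) : C[u] = C[x] := by
  have := hx ▸ index_dvd_of_le e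
  exact eq_of_le_index e (((h.of_a u1 (h.dvd.trans this)).resolve_left fun e => h.nga (e ▸ this)).trans hx.symm)

theorem two (hx : C[x].index = α) (r : ℕ) (hr : r.Prime) (d : r ∣ Nat.card (center C[x])) (u : C[x])
    (hu : ¬ r ∣ orderOf u) : C[u].index = 1 ∨ C[u].index = γ / α := by
  obtain ⟨z, hz, e⟩ := exists_mem_orderOf_eq_prime hr d
  have e' : orderOf (z : G) = r := by rw [orderOf_coe, e]
  have e1 := h.max hx (ne_one_of hr e') fun g hg => mem_cent.2 (congrArg Subtype.val (mem_center_iff.1 hz ⟨g, hg⟩))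
  have co : (orderOf (z : G)).Coprime (orderOf (u : G)) := by rwa [e', orderOf_coe, hr.coprime_iff_not_dvd]
  have e2 := cent_mul_of_coprime (congrArg Subtype.val (mem_center_iff.1 hz u)).symm co
  have e3 := relIndex_mul_index (inf_le_left : C[x] ⊓ C[(u : G)] ≤ _)
  rw [e1] at e2
  rw [inf_relIndex_left, ← cs_subtype, hx, ← e2] at e3
  have a0 : 0 < α := hx ▸ cs_pos x
  refine (h.of_a (mul_ne_one co (ne_one_of hr e')) (e3 ▸ dvd_mul_left _ _)).imp (fun e => ?_) fun e => ?_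
  · exact Nat.eq_of_mul_eq_mul_right a0 (by rw [e3, e, one_mul])
  · rw [← e, ← e3, Nat.mul_div_cancel _ a0]

theorem K (x1 : x ≠ 1) (hx : C[x].index = α) (nc : center C[x] ≠ ⊤) :
    (∃ r j : ℕ, r.Prime ∧ γ / α = r ^ j) ∨ ∃ p q : ℕ, ∀ r : ℕ, r.Prime → r ∣ Nat.card C[x] → r = p ∨ r = q := by
  refine two_sizes ?_ (fun e => x1 ?_) nc (h.two hx)
  · obtain ⟨w, -, e⟩ := h.ex
    refine Nat.div_dvd_iff_dvd_mul h.dvd (hx ▸ cs_pos x) |>.2 ?_
    rw [← hx, index_mul_card, ← e]; exact index_dvd_card _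
  · exact congrArg Subtype.val (mem_bot.1 (e ▸ mem_center_iff.2 fun g => Subtype.ext (mem_cent.1 g.2) :
      (⟨x, self_mem_cent x⟩ : C[x]) ∈ ⊥))

theorem solC (ht : orderOf t = 2) (hx : C[t].index = α) (nc : center C[t] ≠ ⊤) : Group.IsSolvable C[t] := by
  obtain ⟨r, j, hr, e⟩ | e := h.K (ne_one_of Nat.prime_two ht) hx nc
  · refine sol_of_rad 2 Nat.prime_two fun q u hq n ⟨k, hk⟩ => ?_
    have z : (⟨t, self_mem_cent t⟩ : C[t]) ∈ center _ := mem_center_iff.2 fun g => Subtype.ext (mem_cent.1 g.2)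
    have := h.two hx 2 Nat.prime_two (by rw [← ht, ← orderOf_mk t (self_mem_cent t)]; exact (center _).orderOf_dvd_natCard z) u
      fun d => n ((Nat.prime_dvd_prime_iff_eq Nat.prime_two hq).1 (Nat.prime_two.dvd_of_dvd_pow (hk ▸ d))).symm
    exact this.elim (fun e => mem_solRad_of_cs (k := 0) hr e) fun e' => mem_solRad_of_cs hr (e'.trans e)
  · exact sol_two e

theorem cenb {p : ℕ} (hp : p.Prime) (d : p ∣ α) : ∃ y : G, orderOf y = p ∧ C[y].index = β := by
  obtain ⟨w, -, e⟩ := h.ex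
  obtain ⟨y, hy, n⟩ := exists_cen hp ((d.trans h.dvd).trans (e ▸ index_dvd_card C[w]))
  rcases h.hN y (ne_one_of hp hy) with e | e | e
  exacts [(n (e ▸ d)).elim, ⟨y, hy, e⟩, (n (e ▸ d.trans h.dvd)).elim]

theorem symm (d : β ∣ γ) : S G β α γ :=
  ⟨h.hZ, fun x e => by have := h.hN x e; tauto, h.cop.symm, d, fun e => h.nab (e ▸ h.dvd), h.b1, h.a1, h.ex⟩

theorem C1 (d : β ∣ γ) (hy : C[y].index = β) {q : ℕ} (hq : q.Prime) (dq : q ∣ Nat.card G) : q ∣ Nat.card C[y] := by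
  by_contra n
  obtain ⟨x, hx, e⟩ := (h.symm d).cenb hq (hy ▸ ((hq.dvd_mul.1 (C[y].card_mul_index ▸ dq)).resolve_left n))
  obtain ⟨w, w1, ew⟩ := h.ex
  have : C[x] ⊓ C[y] ≠ ⊥ := fun e' => by
    have := SolvStr.index_inf_of_coprime (A := C[x]) (B := C[y]) (e ▸ hy ▸ h.cop)
    rw [e', index_bot, e, hy] at this
    have e2 := eq_of_le_index (bot_le (a := C[w])) (index_bot.trans (Nat.dvd_antisymm
      (this ▸ ew ▸ h.cop.mul_dvd_of_dvd_of_dvd h.dvd d) (index_dvd_card C[w])))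
    exact w1 (mem_bot.1 (e2 ▸ self_mem_cent w))
  obtain ⟨r, hr, dr⟩ := Nat.exists_prime_and_dvd (mt card_eq_one.1 this)
  obtain ⟨u, hu, eu⟩ := exists_mem_orderOf_eq_prime hr dr
  have co : (orderOf u).Coprime (orderOf x) := by
    rw [eu, hx, Nat.coprime_primes hr hq]; rintro rfl; exact n (eu ▸ C[y].orderOf_dvd_natCard hu.2)
  have e2 := cent_mul_of_coprime (mem_cent.1 hu.1) co
  refine n (hx ▸ ?_)
  rcases h.of_a (mul_ne_one co (ne_one_of hr eu)) (e ▸ cs_dvd_cs_mul_right (mem_cent.1 hu.1) co) with e3 | e3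
  · have := h.max e (ne_one_of hr eu) ((eq_of_le_index (e2 ▸ inf_le_right) (e3.trans e.symm)).ge.trans (e2 ▸ inf_le_left))
    exact C[y].orderOf_dvd_natCard (mem_cent_comm.1 (this ▸ mem_cent_comm.1 hu.2))
  · exact (C[u * x].orderOf_dvd_natCard (e2 ▸ ⟨mem_cent_comm.1 hu.1, self_mem_cent x⟩)).trans (card_dvd (hy ▸ e3 ▸ d))

theorem C2 (x1 : x ≠ 1) (d : β ∣ γ) (ns : ¬ Group.IsSolvable G) (hx : C[x].index = α) :
    ∃ r j : ℕ, r.Prime ∧ γ / α = r ^ j := by
  refine (h.K x1 hx fun e => ?_).resolve_right fun ⟨p, q, e⟩ => ns (sol_two ⟨p, q, fun r hr dr =>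
    e r hr ((h.symm d).C1 h.dvd hx hr dr)⟩)
  have := Fintype.ofFinite G
  have sc : SC C[x] := fun u hu u1 => h.max hx u1 fun g hg =>
    mem_cent.2 (congrArg Subtype.val (mem_center_iff.1 (e ▸ mem_top (⟨u, hu⟩ : C[x])) ⟨g, hg⟩))
  obtain ⟨w, w1, ew⟩ := h.ex
  obtain ⟨r, hr, dr⟩ := Nat.exists_prime_and_dvd (mt orderOf_eq_one_iff.1 w1)
  exact h.ne (hx.symm.trans ((sc.index_eq hr ((h.symm d).C1 h.dvd hx hr (dr.trans (orderOf_dvd_natCard w))) dr).symm.trans ew))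

theorem caseC (d : β ∣ γ) : Group.IsSolvable G := by
  by_contra ns
  obtain ⟨p, hp, dp⟩ := Nat.exists_prime_and_dvd h.a1
  obtain ⟨q, hq, dq⟩ := Nat.exists_prime_and_dvd h.b1
  obtain ⟨y, hy, ey⟩ := h.cenb hp dp
  obtain ⟨x, hx, ex⟩ := (h.symm d).cenb hq dq
  obtain ⟨r, j, hr, e1⟩ := h.C2 (ne_one_of hq hx) d ns ex
  obtain ⟨s, i, hs, e2⟩ := (h.symm d).C2 (ne_one_of hp hy) h.dvd ns ey
  refine ns (sol_two ⟨r, s, fun l hl dl => ?_⟩)
  have := Fact.mk hl
  obtain ⟨P⟩ : Nonempty (Sylow l G) := inferInstance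
  have : l ∣ γ := by
    by_contra n
    refine P.ne_bot_of_dvd_card dl (eq_bot_iff.2 (h.hZ ▸ sylow_le_center_of_forall_not_dvd_cs P fun g e => ?_))
    by_cases g1 : g = 1
    · rw [g1, cs_one] at e; exact hl.not_dvd_one e
    rcases h.hN g g1 with e' | e' | e'
    exacts [n ((e' ▸ e).trans h.dvd), n ((e' ▸ e).trans d), n (e' ▸ e)]
  rw [← Nat.div_mul_cancel h.dvd, e1, hl.dvd_mul] at this
  refine this.imp (fun e => (Nat.prime_dvd_prime_iff_eq hl hr).1 (hl.dvd_of_dvd_pow e)) fun e =>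
    (Nat.prime_dvd_prime_iff_eq hl hs).1 (hl.dvd_of_dvd_pow (n := i) (e.trans (h.cop.dvd_of_dvd_mul_right ?_)))
  rw [← e2, Nat.div_mul_cancel d]; exact h.dvd

theorem delta (ht : orderOf t = 2) (hx : C[t].index = α) (hc : (Nat.card C[t]).Coprime α) (hb : β = Nat.card C[t])
    (hF : t ∈ C[t].normalCore) : Group.IsSolvable G := by
  by_contra ns
  set F := C[t].normalCore
  have FA : F ≤ C[t] := normalCore_le _
  have cF : (Nat.card F).Coprime α := hc.coprime_dvd_left (card_dvd_of_le FA)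
  have eb : ∀ {y : G}, C[y].index = β → Nat.card C[y] = α := fun {y} e => Nat.eq_of_mul_eq_mul_right (cs_pos y) (by
    rw [card_mul_index, e, hb, ← hx, index_mul_card])
  obtain ⟨p, hp, dp⟩ := Nat.exists_prime_and_dvd h.a1
  obtain ⟨y, hy, ey⟩ := h.cenb hp dp
  have := nil_of_fpf F (hy ▸ hp) (eb ey ▸ cF)
  have pc : ∀ {s : ℕ} [Fact s.Prime] {g : G}, g ∈ F → (∃ k, orderOf g = s ^ k) → g ∈ pCore s G := fun hg e =>
    Solv.le_pCore_of_le_fitting (isPGroup_zpowers_iff.2 e) ((zpowers_le_of_mem hg).trans Solv.le_fitting) (mem_zpowers _)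
  have a1 : ∀ {x : G}, C[x].index = α → F ≤ C[x] := fun e => le_of_cop (e ▸ cF)
  have a2 : ∀ {x : G}, C[x].index = α → x ∈ F := fun {x} e g => mem_cent_comm.1 (a1 (by rw [cs_conj, e]) hF)
  have b1 : ∀ {g : G}, g ≠ 1 → (orderOf g).Coprime α → C[g].index ≠ β := fun {g} g1 c e =>
    g1 (orderOf_eq_one_iff.1 (c.eq_one_of_dvd (eb e ▸ ord_dvd g)))
  have b2 : ∀ {g : G}, g ∉ F → (orderOf g).Coprime α → C[g].index = γ := fun {g} n c => by
    have g1 : g ≠ 1 := fun e => n (e ▸ one_mem _)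
    exact ((h.hN g g1).resolve_left (mt a2 n)).resolve_left (b1 g1 c)
  have o2 : Nat.Coprime 2 α := hc.coprime_dvd_left (ht ▸ ord_dvd t)
  have cp : ∀ {s : ℕ} {g : G}, s.Coprime α → (∃ k, orderOf g = s ^ k) → (orderOf g).Coprime α :=
    fun c ⟨k, e⟩ => e ▸ c.pow_left k
  have V1 : ∀ {u : G}, pCore 2 G ≤ C[u] → u ∈ F := fun {u} e g => by
    have := mem_cent.1 (e (Normal.conj_mem' inferInstance t (pc hF ⟨1, by rw [ht, pow_one]⟩) g))
    exact mem_cent.2 (by rw [← mul_left_inj g, ← mul_right_inj g⁻¹]; simpa [mul_assoc] using this.symm)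
  have c : ∀ {s : ℕ} {u d : G}, s.Prime → s ≠ 2 → s.Coprime α → (∃ k, orderOf u = s ^ k) → u ∉ F →
      (∃ k, orderOf d = 2 ^ k) → d ∈ C[u] → d ∈ F := fun {s u d} hs s2 sa hu nu hd e => by
    by_contra nd
    have co : (orderOf u).Coprime (orderOf d) := by
      obtain ⟨k, e1⟩ := hu; obtain ⟨j, e2⟩ := hd
      exact e1 ▸ e2 ▸ Nat.coprime_pow_primes _ _ hs Nat.prime_two s2
    have e1 := cent_mul_of_coprime (mem_cent.1 e).symm co
    have n1 := mul_ne_one co fun e => nu (e ▸ one_mem _)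
    have e2 := (h.min (b2 nd (cp o2 hd)) n1 (e1 ▸ inf_le_right)).symm.trans (h.min (b2 nu (cp sa hu)) n1 (e1 ▸ inf_le_left))
    have := Solv.thompson_PxQ (P := zpowers d) (Q := zpowers u) (U := pCore 2 G) (isPGroup_zpowers_iff.2 hd)
      (by obtain ⟨k, e1⟩ := hu; rw [Nat.card_zpowers, e1]; exact ((Nat.coprime_primes hs Nat.prime_two).2 s2).pow_left k)
      (Solv.isPGroup_pCore 2 G) (by rw [zpowers_le, zpowers_eq_closure, centralizer_closure]; exact e)
      le_normalizer_of_normal le_normalizer_of_normal (by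
        rw [zpowers_eq_closure, zpowers_eq_closure, centralizer_closure, centralizer_closure, e2]; exact inf_le_right)
    exact nu (V1 fun v hv => mem_cent.2 (this (mem_zpowers u) v hv))
  have sq' : Group.IsSolvable (G ⧸ F) → False := fun _ =>
    ns (solvable_of_ker_le_range F.subtype (QuotientGroup.mk' F) (by simp))
  have lift : ∀ {s : ℕ}, s.Prime → s ∣ F.index → ∃ g : G, g ∉ F ∧ g ^ s ∈ F ∧ ∃ k, orderOf g = s ^ k := fun {s} hs d => by
    have := Fact.mk hs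
    obtain ⟨x, hx⟩ := exists_prime_orderOf_dvd_card' (G := G ⧸ F) s d
    obtain ⟨g, rfl⟩ := QuotientGroup.mk'_surjective _ x
    obtain ⟨a, -, ha, e⟩ := exists_pElt_lift (p := s) (QuotientGroup.mk' _) g ⟨1, by rw [hx, pow_one]⟩
    exact ⟨a, fun n => ne_one_of hs hx (e ▸ (QuotientGroup.eq_one_iff a).2 n), (QuotientGroup.eq_one_iff _).1
      (by rw [← QuotientGroup.mk'_apply, map_pow, e, ← hx, pow_orderOf_eq_one]), ha⟩
  obtain ⟨g, ng, g2, hg⟩ := lift Nat.prime_two (by_contra fun n => sq' (FTC.solvable_of_odd (Nat.two_dvd_ne_zero.1 n |> Nat.odd_iff.2)))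
  obtain ⟨s, hs, ds, s2, sa⟩ : ∃ s : ℕ, s.Prime ∧ s ∣ F.index ∧ s ≠ 2 ∧ ¬ s ∣ α := by
    by_contra! H
    refine sq' (sol_of_rad 2 Nat.prime_two fun q x hq q2 hx' => ?_)
    have := Fact.mk hq
    by_cases x1 : x = 1
    · exact x1 ▸ one_mem _
    obtain ⟨g, rfl⟩ := QuotientGroup.mk'_surjective _ x
    obtain ⟨a, -, ha, e⟩ := exists_pElt_lift (p := q) (QuotientGroup.mk' _) g hx'
    have dq : ∀ {X : Type _} [Group X] {x : X}, x ≠ 1 → (∃ k, orderOf x = q ^ k) → q ∣ orderOf x := fun x1 ⟨k, e⟩ =>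
      e ▸ dvd_pow_self q (by rintro rfl; exact x1 (orderOf_eq_one_iff.1 e))
    have a1 : a ≠ 1 := fun e' => x1 (by rw [← e, e', map_one])
    have qa := H q hq ((dq x1 hx').trans (orderOf_dvd_natCard _)) q2
    have : C[a].index = β := by_contra fun n => hq.not_dvd_one (hc ▸ Nat.dvd_gcd (((dq a1 ha).trans (ord_dvd a)).trans
      (card_dvd (by rcases h.hN a a1 with e | e | e; exacts [by rw [e, hx], (n e).elim, hx ▸ e ▸ h.dvd]))) qa)
    refine mem_solRad_of_cs Nat.prime_two (Nat.eq_prime_pow_of_unique_prime_dvd (cs_ne_zero _) fun {r} hr d => by_contra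
      fun n => hr.not_dvd_one (hc ▸ Nat.dvd_gcd (hb ▸ this ▸ d.trans (e ▸ cs_map_dvd _ (QuotientGroup.mk'_surjective F) a))
        (H r hr (d.trans (index_dvd_card _)) n)))
  have := Fact.mk hs
  have sa' := hs.coprime_iff_not_dvd.2 sa
  by_cases sg : s ∣ γ
  swap
  · obtain ⟨P, hP⟩ := not_dvd_index_iff.1 (b2 ng (cp o2 hg) ▸ sg)
    obtain ⟨u, hu, nu⟩ := SetLike.not_le_iff_exists.1 fun e : (P : Subgroup G) ≤ F => not_dvd_index_of_sylow_le P e ds
    exact ng (c hs s2 sa' (pElt_of_mem P.2 hu) nu hg (mem_cent_comm.1 (hP hu)))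
  obtain ⟨u, nu, -, hu⟩ := lift hs ds
  have U : ∀ f ∈ pCore s G, f ≠ 1 → C[f].index = α := fun f hf f1 => by
    refine (h.hN f f1).resolve_right (not_or.2 ⟨b1 f1 (cp sa' (pElt_of_mem (Solv.isPGroup_pCore s G) hf)), fun e => ?_⟩)
    obtain ⟨T⟩ : Nonempty (Sylow 2 C[u]) := inferInstance
    obtain ⟨m, hm⟩ := (Solv.isPGroup_pCore 2 G).exists_card_eq
    have l : (T : Subgroup C[u]).map C[u].subtype ≤ pCore 2 G := by
      rintro _ ⟨d, hd, rfl⟩
      have := pElt_of_mem (T.2.map C[u].subtype) (mem_map_of_mem _ hd)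
      exact pc (c hs s2 sa' hu nu this d.2) this
    have l2 : pCore 2 G ≤ C[f] := fun v hv => mem_cent.2 (Solv.pCore_le_centralizer_pPrimeCore hf v
      (Solv.pCore_le_pPrimeCore_of_ne s2 hv))
    refine nu (V1 ((eq_of_le_of_card_ge l ?_).ge.trans (map_subtype_le _)))
    rw [card_map_of_injective C[u].subtype_injective, hm]
    exact Nat.le_of_dvd Nat.card_pos (T.pow_dvd_card_of_pow_dvd_card (hm ▸ (card_dvd_of_le l2).trans
      (card_dvd (by rw [e, b2 nu (cp sa' hu)]))))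
  obtain ⟨z, hz, nz⟩ := exists_cen hs (ds.trans (index_dvd_card F))
  have ez := ((h.hN z (ne_one_of hs hz)).resolve_right (not_or.2 ⟨b1 (ne_one_of hs hz) (hz ▸ sa'), fun e => nz (e ▸ sg)⟩))
  have UF : ∀ f ∈ pCore s G, F ≤ C[f] ∧ f ∈ F := fun f hf => by
    by_cases f1 : f = 1
    · simp [f1, cent_one]
    · exact ⟨a1 (U f hf f1), a2 (U f hf f1)⟩
  have gU : ∀ w ∈ pCore s G, g ∈ C[w] := fun w hw => by
    have hw' : g * w * g⁻¹ ∈ pCore s G := Normal.conj_mem inferInstance w hw g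
    have hv := mul_mem (inv_mem hw) hw'
    have i : g * (w⁻¹ * (g * w * g⁻¹)) * g⁻¹ = (w⁻¹ * (g * w * g⁻¹))⁻¹ := by
      have e1 := mem_cent.1 ((UF w hw).1 g2)
      have e2 := mem_cent.1 ((UF w hw).1 (UF _ hw').2)
      calc _ = (g * w * g⁻¹)⁻¹ * (g ^ 2 * w) * (g ^ 2)⁻¹ := by rw [sq]; group
        _ = _ := by rw [e1]; group
    by_contra n
    have v1 : w⁻¹ * (g * w * g⁻¹) ≠ 1 := fun e => n (mem_cent.2 (by rw [inv_mul_eq_one] at e; rw [← mul_inv_eq_iff_eq_mul, ← e]))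
    obtain ⟨k, hk⟩ := hg
    have := LieM.commute_of_inv_odd (U _ hv v1 ▸ Nat.prime_two.coprime_iff_not_dvd.1 o2) i (hk ▸ pow_orderOf_eq_one g)
    rw [this.eq, mul_inv_cancel_right, eq_inv_iff_mul_eq_one, ← pow_two] at i
    obtain ⟨j, hj⟩ := pElt_of_mem (Solv.isPGroup_pCore s G) hv
    exact v1 (orderOf_eq_one_iff.1 (Nat.eq_one_of_dvd_coprimes (((Nat.coprime_primes hs Nat.prime_two).2 s2).pow_left j)
      hj.dvd (orderOf_dvd_of_pow_eq_one i)))
  refine ng (normal_le_normalCore.2 (le_of_cop (N := C[z].normalCore) (hx ▸ hc.coprime_dvd_left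
    ((card_dvd_of_le (normalCore_le _)).trans (card_dvd (by rw [hx, ez]))))) fun k => ?_)
  have := mem_cent.1 (gU _ (Normal.conj_mem' inferInstance z (pc (a2 ez) ⟨1, by rw [hz, pow_one]⟩) k))
  exact mem_cent.2 (by rw [← mul_left_inj k, ← mul_right_inj k⁻¹]; simpa [mul_assoc] using this)

theorem caseSC {B : Subgroup G} (ht : orderOf t = 2) (hx : C[t].index = α) (nc : center C[t] ≠ ⊤) (hB : SC B)
    (hb : B.index = β) : Group.IsSolvable G := by
  have := Fintype.ofFinite G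
  have := h.solC ht hx nc
  have n2 : ¬ 2 ∣ Nat.card B := fun e => h.nab (hx ▸ hb ▸ (hB.index_eq Nat.prime_two e ht.symm.dvd).dvd)
  have hc : (Nat.card C[t]).Coprime (Nat.card B) := Nat.coprime_of_dvd fun r hr d d' => by
    obtain ⟨u, hu, e⟩ := exists_mem_orderOf_eq_prime hr d
    have := hB.index_eq hr d' e.symm.dvd
    refine n2 (ht ▸ (C[u].orderOf_dvd_natCard (mem_cent_comm.1 hu)).trans (Nat.eq_of_mul_eq_mul_right (cs_pos u) ?_).dvd)
    rw [card_mul_index, this, card_mul_index]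
  have e0 : Nat.card C[t] * α = Nat.card B * β := by rw [← hx, ← hb, card_mul_index, card_mul_index]
  have hi : α = Nat.card B := Nat.dvd_antisymm (h.cop.dvd_of_dvd_mul_right (e0 ▸ dvd_mul_left _ _))
    (hc.symm.dvd_of_dvd_mul_left (e0 ▸ dvd_mul_right _ _))
  have sA : ∀ K : Subgroup G, K.Normal → (Nat.card K).Coprime (Nat.card B) → K ≤ C[t] := fun K _ e =>
    le_of_cop (hx ▸ hi ▸ e)
  by_cases J : ∀ J : Subgroup G, J.Normal → (∀ g, t * g * t⁻¹ * g⁻¹ ∈ J) → B ≤ J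
  · have := FTC.solvable_of_odd (Block.odd_card_pPrimeCore (G := G))
    refine sol_of_cen_mod (t := t) (pPrimeCore 2 G) (ht ▸ Solv.coprime_card_pPrimeCore 2 G) fun g => ?_
    simpa [mul_assoc] using inv_mem (Block.zstar ⟨ht, fun g e => isolated hB hc (hx.trans hi) J e⟩ g)
  push Not at J
  obtain ⟨J, _, hJ, nJ⟩ := J
  by_cases cJ : (Nat.card J).Coprime (Nat.card B)
  · refine h.delta ht hx (hi ▸ hc) (Nat.eq_of_mul_eq_mul_left Nat.card_pos (e0.symm.trans (by rw [hi, mul_comm]))) fun g => ?_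
    simpa [mul_assoc] using mul_mem (inv_mem (sA J ‹_› cJ (hJ g))) (self_mem_cent t)
  have nB : ∀ {r : ℕ} [Fact r.Prime] (P : Sylow r G), (P : Subgroup G) ≤ B → ∀ g : G, ∀ u ∈ (P : Subgroup G) ⊓ J, u ≠ 1 →
      g * u * g⁻¹ ∈ (P : Subgroup G) ⊓ J → ∀ w ∈ B, g * w * g⁻¹ ∈ B := fun P hP g u hu u1 e w hw =>
    hB.ti (hP hu.1) u1 (hP e.1) hw
  have : Group.IsSolvable J := sol_ind (· ∣ Nat.card B) J ‹_› (fun r _ d => ?_) fun K _ hK e =>
    Solv.isSolvable_of_le (sA K hK (Nat.coprime_of_dvd e))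
  · obtain ⟨r, hr, d, d'⟩ := Nat.Prime.not_coprime_iff_dvd.1 cJ
    have := Fact.mk hr
    obtain ⟨P, hP⟩ := hB.sylow d'
    have e := Sylow.normalizer_sup_eq_top (sylowInf P J)
    rw [coe_sylowInf, subgroupOf_map_subtype] at e
    obtain ⟨u, hu, u1⟩ := (bot_or_exists_ne_one _).resolve_left ((sylowInf P J).ne_bot_of_dvd_card d)
    have l : normalizer (((P : Subgroup G) ⊓ J : Subgroup G) : Set G) ≤ B ⊔ C[t] ⊓ normalizer (B : Set G) := fun g hg => by
      have hg' : g ∈ normalizer (B : Set G) := mem_normalizer_fintype fun w hw =>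
        nB P hP g u ⟨hu, u.2⟩ (fun e => u1 (Subtype.ext e)) ((mem_normalizer_iff.1 hg _).1 ⟨hu, u.2⟩) w hw
      obtain ⟨b, hb', a, ha, rfl⟩ := (SolvStr.isProd_top_of_coprime_index (A := B) (B := C[t])
        (hb ▸ hx ▸ h.cop.symm)).exists_mul g (mem_top g)
      exact mul_mem (mem_sup_left hb') (mem_sup_right ⟨ha, (mul_mem_cancel_left (le_normalizer hb')).1 hg'⟩)
    have : Group.IsSolvable B := isSolvable_of_comm hB.comm
    have : Group.IsSolvable (C[t] ⊓ normalizer (B : Set G) : Subgroup G) := Solv.isSolvable_of_le inf_le_left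
    have := Solv.isSolvable_sup (N := B) (H := C[t] ⊓ normalizer (B : Set G)) inf_le_right
    have := Solv.isSolvable_of_le l
    have := Solv.isSolvable_sup (N := J) (H := normalizer (((P : Subgroup G) ⊓ J : Subgroup G) : Set G))
      le_normalizer_of_normal
    rw [sup_comm, e] at this
    exact solvable_of_surjective (f := (⊤ : Subgroup G).subtype) fun g => ⟨⟨g, trivial⟩, rfl⟩
  obtain ⟨P, hP⟩ := hB.sylow d
  refine Transfer.hasNormalPComplement_of_normalizer_le_centralizer (sylowInf P J) fun g hg u hu => ?_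
  by_cases u1 : u = 1
  · simp [u1]
  have k := nB P hP g u ⟨hu, u.2⟩ (fun e => u1 (Subtype.ext e)) ⟨(mem_normalizer_iff.1 hg u).1 hu, (g * u * g⁻¹).2⟩
  have : (g : G) ∈ B := by_contra fun n => nJ fun v hv => by
    obtain ⟨w, e⟩ := hB.surj k n ⟨v, hv⟩
    rw [show v = (w : G)⁻¹ * g * w * g⁻¹ by simpa [mul_assoc] using e.symm]
    exact mul_mem (Normal.conj_mem' ‹_› _ g.2 _) (inv_mem g.2)
  exact Subtype.ext (congrArg Subtype.val (hB.comm ⟨u, hP hu⟩ ⟨g, this⟩) :)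

theorem sol (ht : orderOf t = 2) (hx : C[t].index = α) (nc : center C[t] ≠ ⊤) : Group.IsSolvable G := by
  by_cases d : β ∣ γ
  · exact h.caseC d
  obtain ⟨p, hp, dp⟩ := Nat.exists_prime_and_dvd h.a1
  obtain ⟨y, hy, ey⟩ := h.cenb hp dp
  have := Fact.mk hp
  have mn : ∀ {u v : G}, u ≠ 1 → Commute u v → (orderOf u).Coprime (orderOf v) → C[v].index = β → C[u] = C[v] :=
    fun {u v} u1 c co e => by
      have e1 := cent_mul_of_coprime c co
      have := e ▸ cs_dvd_cs_mul_right c co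
      refine h.max' e u1 ((eq_of_le_index (e1 ▸ inf_le_right) (Eq.trans ?_ e.symm)).ge.trans (e1 ▸ inf_le_left))
      rcases h.hN _ (mul_ne_one co u1) with e | e | e
      exacts [(h.nba (e ▸ this)).elim, e, (d (e ▸ this)).elim]
  by_cases hP : IsPGroup p C[y]
  swap
  · obtain ⟨q, hq, dq, qp⟩ : ∃ q : ℕ, q.Prime ∧ q ∣ Nat.card C[y] ∧ q ≠ p := by
      by_contra! H
      exact hP (IsPGroup.of_card (Nat.eq_prime_pow_of_unique_prime_dvd Nat.card_pos.ne' fun {q} => H q))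
    obtain ⟨z, hz, ez⟩ := exists_mem_orderOf_eq_prime hq dq
    have e1 := mn (ne_one_of hq ez) (mem_cent.1 hz) (by rwa [ez, hy, Nat.coprime_primes hq hp]) ey
    refine h.caseSC ht hx nc (fun u hu u1 => h.max' ey u1 fun g hg => mem_cent_comm.1 (mem_of_forall_pElt
      fun r hr v hv ⟨k, ek⟩ => mem_cent_comm.1 ?_)) ey
    have hv' := zpowers_le_of_mem hu hv
    by_cases v1 : v = 1
    · simp [v1, cent_one]
    by_cases rp : r = p
    · exact (mn v1 (mem_cent.1 (e1 ▸ hv')) (by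
        rw [ek, ez, rp]; exact ((Nat.coprime_primes hp hq).2 qp.symm).pow_left k) (e1 ▸ ey)).symm ▸ e1.symm ▸ hg
    · exact (mn v1 (mem_cent.1 hv') (by rw [ek, hy]; exact ((Nat.coprime_primes hr hp).2 rp).pow_left k) ey).symm ▸ hg
  obtain ⟨m, hm⟩ := hP.exists_card_eq
  have e0 : Nat.card G = p ^ m * β := by rw [← hm, ← ey, card_mul_index]
  have e1 : Nat.card G = Nat.card C[t] * α := by rw [← hx, card_mul_index]
  obtain ⟨k, -, hk⟩ := (Nat.dvd_prime_pow hp).1 (h.cop.dvd_of_dvd_mul_right (e0 ▸ e1 ▸ dvd_mul_left _ _))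
  have pp : ∀ {r s j : ℕ}, r.Prime → s.Prime → r ∣ s ^ j → r = s := fun hr hs e =>
    (Nat.prime_dvd_prime_iff_eq hr hs).1 (hr.dvd_of_dvd_pow e)
  obtain ⟨r, j, hr, e⟩ | ⟨p₁, p₂, e⟩ := h.K (ne_one_of Nat.prime_two ht) hx nc
  · by_cases np : HasNormalPComplement p G
    · obtain ⟨N, _, c, hN⟩ := Transfer.hasNormalPComplement_iff_exists.1 np
      have := nil_of_fpf N (hy ▸ hp) (hm ▸ c.pow_right m)
      have := hN.isNilpotent
      exact solvable_of_ker_le_range N.subtype (QuotientGroup.mk' N) (by simp)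
    have := sol_ind (fun s => s ≠ p ∧ s ≠ r) (⊤ : Subgroup G) inferInstance (fun s hs ⟨n1, n2⟩ =>
      Transfer.hasNormalPComplement_top_iff.2 ?_) fun K _ _ e => sol_two ⟨p, r, fun s hs d => by
        have := e s hs d; tauto⟩
    · exact solvable_of_surjective (f := (⊤ : Subgroup G).subtype) fun g => ⟨⟨g, trivial⟩, rfl⟩
    by_cases ds : s ∣ Nat.card G
    swap
    · exact Transfer.hasNormalPComplement_of_not_dvd ds
    refine (S4160.result p s hp hs.out n1.symm ⟨t, hx ▸ dp⟩ ⟨y, ey ▸ (hs.out.dvd_mul.1 (e0 ▸ ds)).resolve_left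
      (mt (pp hs.out hp) n1)⟩ fun g e' => ?_).resolve_left np
    have a := (dvd_mul_right p s).trans e'
    have b := (dvd_mul_left s p).trans e'
    by_cases g1 : g = 1
    · rw [g1, cs_one] at a; exact hp.not_dvd_one a
    rcases h.hN g g1 with c | c | c
    · exact n1 (pp hs.out hp (hk ▸ c ▸ b))
    · exact hp.not_dvd_one (h.cop ▸ Nat.dvd_gcd dp (c ▸ a))
    · rw [c, ← Nat.div_mul_cancel h.dvd, e, hk, hs.out.dvd_mul] at b
      exact b.elim (fun b => n2 (pp hs.out hr b)) fun b => n1 (pp hs.out hp b)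
  by_cases pa : p ∣ Nat.card C[t]
  · exact sol_two ⟨p₁, p₂, fun r hr d => (hr.dvd_mul.1 (e1 ▸ d)).elim (e r hr) fun d' => (pp hr hp (show r ∣ p ^ k from hk ▸ d')).symm ▸ e p hp pa⟩
  have hc : (Nat.card C[t]).Coprime α := hk ▸ (hp.coprime_iff_not_dvd.2 pa).symm.pow_right k
  have hb : β = Nat.card C[t] := Nat.dvd_antisymm (h.cop.symm.dvd_of_dvd_mul_right (e1 ▸ e0 ▸ dvd_mul_left _ _))
    (((hp.coprime_iff_not_dvd.2 pa).symm.pow_right m).dvd_of_dvd_mul_left (e0 ▸ e1 ▸ dvd_mul_right _ _))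
  by_cases h0 : pCore p G = ⊥
  · refine h.delta ht hx hc hb fun g => mem_cent.2 (mul_inv_eq_iff_eq_mul.1 (mul_inv_eq_one.1 (mem_bot.1 (h0 ▸
      commutator_mem_pCore_of_cs ((cs_conj g t).trans (hx.trans hk)) (hx.trans hk)))))
  have V : ∀ v ∈ pCore p G, v ≠ 1 → Nat.card C[v] = p ^ m := fun v hv v1 => by
    obtain ⟨j, hj⟩ := pElt_of_mem (Solv.isPGroup_pCore p G) hv
    have : C[v].index = β := by_contra fun n => pa (((hj ▸ dvd_pow_self p (by
      rintro rfl; exact v1 (orderOf_eq_one_iff.1 hj))).trans (ord_dvd v)).trans (card_dvd (by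
        rcases h.hN v v1 with e | e | e; exacts [by rw [e, hx], (n e).elim, hx ▸ e ▸ h.dvd])))
    exact Nat.eq_of_mul_eq_mul_right (cs_pos v) (by rw [card_mul_index, this, e0])
  have p2 : Nat.Coprime (p ^ m) (orderOf t) := Nat.Coprime.pow_left m (hp.coprime_iff_not_dvd.2
    fun e => pa (e.trans (ord_dvd t)))
  have iv : ∀ s : G, orderOf s = orderOf t → ∀ v ∈ pCore p G, s * v * s⁻¹ = v⁻¹ := fun s hs v hv =>
    Frob.conj_eq_inv_of_regular (le_normalizer_of_normal (mem_top s)) (by rw [← sq, ← ht, ← hs, pow_orderOf_eq_one])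
      (eq_bot_iff.2 fun v hv => by_contra fun v1 => ne_one_of Nat.prime_two ht (orderOf_eq_one_iff.1
        (p2.symm.eq_one_of_dvd (hs ▸ V v hv.1 v1 ▸ C[v].orderOf_dvd_natCard (mem_cent_comm.1 hv.2))))) hv
  obtain ⟨v, hv, v1⟩ := (bot_or_exists_ne_one _).resolve_left h0
  have cW : Nat.card (centralizer (pCore p G : Set G)) ∣ p ^ m := V v hv v1 ▸ card_dvd_of_le (centralizer_le (by simpa))
  obtain ⟨i, -, hi⟩ := (Nat.dvd_prime_pow hp).1 cW
  have := (IsPGroup.of_card hi).isNilpotent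
  have := h.solC ht hx nc
  refine sol_of_cen_mod (t := t) (centralizer (pCore p G : Set G)) (p2.coprime_dvd_left cW) fun g w hw => ?_
  have a := iv t⁻¹ (orderOf_inv t) w hw
  have b := iv _ ((MulAut.conj g).orderOf_eq t) _ (inv_mem hw)
  rw [inv_inv] at b
  rw [← a] at b
  simp only [MulAut.conj_apply, inv_inv] at b
  rw [eq_comm, ← mul_inv_eq_iff_eq_mul]
  exact Eq.trans (by group) b

end S

end Cfsg.Agent.FG.Ito
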