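import Cfsg.Agent.FG.Ito3
import Cfsg.Agent.AB.CA2
import Cfsg.Agent.Block.Q16
import Cfsg.Agent.Classical.PSL2Basic

/-! Centreless non-solvable groups with at most three class sizes `> 1` are `PSL₂(2^a)` (`Ito.three`). (helper3) -/

set_option autoImplicit false

namespace Cfsg.Agent.FG.Ito

open Subgroup Cfsg.Agent.Gen2

local notation "C[" x "]" => Subgroup.centralizer ({x} : Set _)

variable {G : Type*} [Group G] [Finite G]

theorem psl_of_comm (hZ : center G = ⊥) (ns : ¬ Group.IsSolvable G)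
    (hC : ∀ t : G, orderOf t = 2 → IsMulCommutative C[t]) :
    ∃ (F : Type) (_ : Field F) (_ : Fintype F), 2 < Fintype.card F ∧ (2 : F) = 0 ∧
      Nonempty (G ≃* Matrix.ProjectiveSpecialLinearGroup (Fin 2) F) := by
  obtain ⟨T⟩ : Nonempty (Sylow 2 G) := inferInstance
  have od : ∀ P : Sylow 2 G, Odd (P : Subgroup G).index := fun P => by
    rw [← Nat.not_even_iff_odd, even_iff_two_dvd]; exact P.not_dvd_index
  refine (AB.ca_of_sylow T (fun _ => ns ?_) (fun _ => ns ?_) hC).1.equiv_prod.elim fun F ⟨_, _, hF, h2, ⟨e⟩⟩ => ?_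
  rotate_right
  · have : Unique (center G) := hZ ▸ inferInstance
    exact ⟨F, _, _, hF, h2, ⟨(e.trans MulEquiv.prodUnique).trans (Classical.slEquivPSL h2)⟩⟩
  · obtain ⟨P, N, hN, hc⟩ := Block.complement_of_isCyclic T
    have := FTC.solvable_of_odd (G := N) (hc.index_eq_card ▸ od P)
    have := (P.isPGroup'.of_equiv hc.symm.QuotientMulEquiv.symm).isNilpotent
    exact solvable_of_ker_le_range N.subtype (QuotientGroup.mk' N) (by simp)
  · have := FTC.solvable_of_odd (G := G ⧸ (T : Subgroup G)) (od T)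
    have := T.isPGroup'.isNilpotent
    exact solvable_of_ker_le_range (T : Subgroup G).subtype (QuotientGroup.mk' (T : Subgroup G)) (by simp)

theorem three (hZ : center G = ⊥) (h : {n : ℕ | ∃ x : G, x ≠ 1 ∧ C[x].index = n}.ncard ≤ 3)
    (ns : ¬ Group.IsSolvable G) :
    ∃ (F : Type) (_ : Field F) (_ : Fintype F), 2 < Fintype.card F ∧ (2 : F) = 0 ∧
      Nonempty (G ≃* Matrix.ProjectiveSpecialLinearGroup (Fin 2) F) := by
  refine psl_of_comm hZ ns fun t => inv_comm fun t ht w w1 le => by_contra fun ne => ns ?_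
  have n1 : ∀ x : G, x ≠ 1 → C[x].index ≠ 1 := fun x x1 e => x1 (mem_bot.1 (hZ ▸ cs_eq_one_iff.1 e))
  have t1 := ne_one_of Nat.prime_two ht
  have d := index_dvd_of_le le
  have ag : C[t].index ≠ C[w].index := fun e => ne (eq_of_le_index le e.symm)
  have ex : ∀ p : ℕ, p.Prime → p ∣ C[t].index → ∃ y : G, y ≠ 1 ∧ ¬ p ∣ C[y].index := fun p hp dp =>
    (exists_cen hp (dp.trans (index_dvd_card _))).imp fun y e => ⟨ne_one_of hp e.1, e.2⟩
  obtain ⟨p, hp, dp⟩ := Nat.exists_prime_and_dvd (n1 t t1)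
  obtain ⟨y, y1, ey⟩ := ex p hp dp
  have e := Set.eq_of_subset_of_ncard_le (s := {C[t].index, C[y].index, C[w].index}) (by
    rintro n (rfl | rfl | rfl); exacts [⟨t, t1, rfl⟩, ⟨y, y1, rfl⟩, ⟨w, w1, rfl⟩])
    (h.trans (Set.ncard_eq_three.2 ⟨_, _, C[w].index, fun e : _ = C[y].index => ey (e ▸ dp), ag,
      fun e => ey (e ▸ dp.trans d), rfl⟩).ge)
    ((Set.finite_range fun x : G => C[x].index).subset fun n ⟨x, _, e⟩ => ⟨x, e⟩)
  have hN : ∀ x : G, x ≠ 1 → C[x].index = C[t].index ∨ C[x].index = C[y].index ∨ C[x].index = C[w].index :=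
    fun x x1 => e.ge ⟨x, x1, rfl⟩
  refine S.sol ⟨hZ, hN, Nat.coprime_of_dvd fun q hq dq dq' => ?_, d, ag, n1 t t1, n1 y y1, w, w1, rfl⟩ ht rfl
    fun c => ne (le.antisymm fun g hg => mem_cent.2 ?_)
  · obtain ⟨z, z1, ez⟩ := ex q hq dq
    rcases hN z z1 with e | e | e
    exacts [ez (e ▸ dq), ez (e ▸ dq'), ez (e ▸ dq.trans d)]
  · exact congrArg Subtype.val (mem_center_iff.1 (c ▸ mem_top (⟨w, le (self_mem_cent w)⟩ : C[t])) ⟨g, hg⟩)

end Cfsg.Agent.FG.Ito
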