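import Cfsg.Agent.Perm.Basic
import Cfsg.Agent.Perm.Regular
import Mathlib.GroupTheory.GroupAction.Jordan

/-! Jordan complements and Marggraff's theorems. -/

set_option autoImplicit false

open MulAction Finset
open scoped Pointwise

namespace Cfsg.Agent.FG

theorem isThreeCycle_comm {Ω : Type*} [Fintype Ω] [DecidableEq Ω] {x y : Equiv.Perm Ω} {γ : Ω} (hx : x γ ≠ γ)
    (hy : y γ ≠ γ) (h : ∀ z, z ≠ γ → x z = z ∨ y z = z) : (x * y * x⁻¹ * y⁻¹).IsThreeCycle := by
  have h1 : x (y γ) = y γ := (h _ hy).resolve_right fun e => hy (y.injective e)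
  have h2 : y (x γ) = x γ := (h _ hx).resolve_left fun e => hx (x.injective e)
  have hne : x * y * x⁻¹ * y⁻¹ ≠ 1 := by
    intro e
    have : x * y = y * x := by rw [← mul_inv_eq_one, ← e]; group
    have h3 := DFunLike.congr_fun this γ
    simp only [Equiv.Perm.mul_apply, h1, h2] at h3
    rw [h3] at h1
    exact hx (x.injective h1)
  have hsub : (x * y * x⁻¹ * y⁻¹).support ⊆ {γ, x γ, y γ} := by
    intro z hz
    by_contra hn
    simp only [mem_insert, mem_singleton, not_or] at hn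
    apply Equiv.Perm.mem_support.1 hz
    simp only [Equiv.Perm.mul_apply]
    by_cases hyz : y z = z
    · have h3 : y⁻¹ z = z := by rw [Equiv.Perm.inv_eq_iff_eq, hyz]
      rw [h3]
      have h4 : x⁻¹ z ≠ γ := fun e => hn.2.1 (by rw [← e]; simp)
      rcases h _ h4 with h5 | h5
      · have h6 : x⁻¹ z = z := by rw [← h5]; simp
        rw [h6] at h5 ⊢; rw [hyz, h5]
      · rw [h5]; simp
    · have hxz := (h z hn.1).resolve_right hyz
      have h4 : y⁻¹ z ≠ γ := fun e => hn.2.2 (by rw [← e]; simp)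
      have h5 : x (y⁻¹ z) = y⁻¹ z := (h _ h4).resolve_right fun e => hyz (by
        have : y⁻¹ z = z := by rw [← e]; simp
        rw [this] at e; exact e)
      have h6 : x⁻¹ (y⁻¹ z) = y⁻¹ z := by rw [Equiv.Perm.inv_eq_iff_eq, h5]
      rw [h6]; simp [hxz]
  rw [← card_support_eq_three_iff]
  have h3 := (card_le_card hsub).trans card_le_three
  have h4 := Equiv.Perm.two_le_card_support_of_ne_one hne
  have h5 : (x * y * x⁻¹ * y⁻¹).support.card ≠ 2 := fun e => by
    have := (Equiv.Perm.card_support_eq_two.1 e).sign_eq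
    simp [mul_right_comm] at this
  omega

variable (G : Type*) {Ω : Type*} [Group G] [MulAction G Ω] [Fintype Ω] [DecidableEq Ω]

/-- Jordan complement -/
def JC (F : Finset Ω) : Prop := ∀ x ∉ F, ∀ y ∉ F, ∃ g : G, (∀ z ∈ F, g • z = z) ∧ g • x = y

/-- `E` is a largest Jordan complement properly inside `F` -/
structure Pred (E F : Finset Ω) : Prop where
  jE : JC G E
  jF : JC G F
  ss : E ⊂ F
  mx : ∀ X, JC G X → X ⊂ F → #X ≤ #E
  lt : #F + #F < #E + Fintype.card Ω

variable {G} {E F Z T L : Finset Ω}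

theorem JC.smul (h : JC G F) (g : G) : JC G (g • F) := by
  intro x hx y hy
  rw [← inv_smul_mem_iff] at hx hy
  obtain ⟨k, h1, h2⟩ := h _ hx _ hy
  refine ⟨g * k * g⁻¹, fun z hz => ?_, ?_⟩
  · rw [← inv_smul_mem_iff] at hz
    rw [mul_smul, mul_smul, h1 _ hz, smul_inv_smul]
  · rw [mul_smul, mul_smul, h2, smul_inv_smul]

theorem JC.inter (h : JC G F) (h' : JC G Z) (hw : #F + #Z < #(F ∩ Z) + Fintype.card Ω) : JC G (F ∩ Z) := by
  obtain ⟨w, -, hw⟩ := exists_mem_notMem_of_card_lt_card (s := F ∪ Z) (t := univ) (by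
    have := card_union_add_card_inter F Z
    rw [card_univ]; omega)
  rw [mem_union, not_or] at hw
  have key : ∀ x ∉ F ∩ Z, ∃ g : G, (∀ z ∈ F ∩ Z, g • z = z) ∧ g • x = w := by
    intro x hx
    rw [mem_inter, not_and_or] at hx
    rcases hx with hx | hx
    · obtain ⟨g, h1, h2⟩ := h x hx w hw.1
      exact ⟨g, fun z hz => h1 z (mem_inter.1 hz).1, h2⟩
    · obtain ⟨g, h1, h2⟩ := h' x hx w hw.2
      exact ⟨g, fun z hz => h1 z (mem_inter.1 hz).2, h2⟩
  intro x hx y hy
  obtain ⟨g, h1, h2⟩ := key x hx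
  obtain ⟨k, h3, h4⟩ := key y hy
  refine ⟨k⁻¹ * g, fun z hz => ?_, ?_⟩
  · rw [mul_smul, h1 z hz, inv_smul_eq_iff, h3 z hz]
  · rw [mul_smul, h2, inv_smul_eq_iff, h4]

theorem exists_pred [IsPreprimitive G Ω] (h : JC G F) (h0 : F.Nonempty) (h2 : #F + 2 ≤ Fintype.card Ω) :
    ∃ E, Pred G E F := by
  classical
  have hnb : ¬ IsBlock G ((Fᶜ : Finset Ω) : Set Ω) := by
    intro hb
    rcases IsPreprimitive.isTrivialBlock_of_isBlock hb with h3 | h3
    · have := (card_le_one_iff_subsingleton.2 h3)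
      rw [card_compl] at this; omega
    · obtain ⟨x, hx⟩ := h0
      have : x ∈ ((Fᶜ : Finset Ω) : Set Ω) := h3 ▸ Set.mem_univ x
      simp [hx] at this
  rw [isBlock_iff_smul_eq_of_mem] at hnb
  push Not at hnb
  obtain ⟨g, a, ha, hga, hne⟩ := hnb
  rw [mem_coe, mem_compl] at ha hga
  have hlt : #F + #(g • F) < #(F ∩ g • F) + Fintype.card Ω := by
    have h3 := card_union_add_card_inter F (g • F)
    have h4 : #(F ∪ g • F) < Fintype.card Ω := card_lt_card (s := F ∪ g • F) (t := univ)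
      ⟨subset_univ _, fun hs => by
        have := hs (mem_univ (g • a))
        rw [mem_union, smul_mem_smul_finset_iff] at this
        tauto⟩
    omega
  have hss : F ∩ g • F ⊂ F := by
    refine ⟨inter_subset_left, fun hs => hne ?_⟩
    have h3 : F = g • F := eq_of_subset_of_card_le (hs.trans inter_subset_right) (by rw [card_smul_finset])
    ext x
    rw [Set.mem_smul_set_iff_inv_smul_mem, mem_coe, mem_coe, mem_compl, mem_compl, inv_smul_mem_iff, ← h3]
  obtain ⟨E, hE, hmax⟩ := exists_max_image (univ.filter fun X => JC G X ∧ X ⊂ F) card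
    ⟨_, mem_filter.2 ⟨mem_univ _, h.inter (h.smul g) hlt, hss⟩⟩
  rw [mem_filter] at hE
  refine ⟨E, hE.2.1, h, hE.2.2, fun X h1 h2 => hmax X (mem_filter.2 ⟨mem_univ _, h1, h2⟩), ?_⟩
  have := hmax _ (mem_filter.2 ⟨mem_univ _, h.inter (h.smul g) hlt, hss⟩)
  rw [card_smul_finset] at hlt
  omega

namespace Pred

theorem card_lt (h : Pred G E F) : #E < #F := card_lt_card h.ss

theorem smul (h : Pred G E F) (g : G) : Pred G (g • E) (g • F) where
  jE := h.jE.smul g
  jF := h.jF.smul g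
  ss := ⟨smul_finset_subset_smul_finset h.ss.1, fun e => h.ss.2 (smul_finset_subset_smul_finset_iff.1 e)⟩
  mx X h1 h2 := by
    have := h.mx (g⁻¹ • X) (h1.smul _) ⟨by rw [smul_finset_subset_iff, inv_inv]; exact h2.1,
      fun e => h2.2 (by rwa [subset_smul_finset_iff, inv_inv] at e)⟩
    rwa [card_smul_finset, ← card_smul_finset g E] at this
  lt := by simp only [card_smul_finset]; exact h.lt

theorem sub (h : Pred G E F) (hZ : JC G Z) (h1 : #E < #(F ∩ Z)) (h2 : #F + #Z ≤ #E + Fintype.card Ω) : F ⊆ Z := by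
  by_contra hn
  have := h.mx _ (h.jF.inter hZ (by omega)) ⟨inter_subset_left, fun e => hn (e.trans inter_subset_right)⟩
  omega

theorem eq_of_lt (h : Pred G E F) (g k : G) (h1 : #E < #(g • F ∩ k • F)) : g • F = k • F := by
  refine eq_of_subset_of_card_le ((h.smul g).sub (h.jF.smul k) (by rwa [card_smul_finset]) ?_) (by simp only [card_smul_finset, le_refl])
  simp only [card_smul_finset]; exact h.lt.le

theorem sub_smul (h : Pred G E F) {g : G} (hg : ∀ z ∈ E, g • z = z) : E ⊆ g • F := fun z hz => by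
  rw [← hg z hz, smul_mem_smul_finset_iff]; exact h.ss.1 hz

theorem block (h : Pred G E F) {g k : G} (hg : ∀ z ∈ E, g • z = z) (hk : ∀ z ∈ E, k • z = z) (hne : g • F ≠ k • F) :
    g • F ∩ k • F = E :=
  (eq_of_subset_of_card_le (subset_inter (h.sub_smul hg) (h.sub_smul hk)) (not_lt.1 fun e => hne (h.eq_of_lt g k e))).symm

theorem exists_smul (h : Pred G E F) {y : Ω} (hy : y ∉ E) : ∃ g : G, (∀ z ∈ E, g • z = z) ∧ y ∈ g • F := by
  obtain ⟨x, hx, hx'⟩ := exists_of_ssubset h.ss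
  obtain ⟨g, h1, h2⟩ := h.jE x hx' y hy
  exact ⟨g, h1, h2 ▸ smul_mem_smul_finset_iff g |>.2 hx⟩

theorem two_e (h : Pred G E F) (hFZ : F ⊆ Z) (hcl : ∀ g : G, #E < #(g • F ∩ Z) → g • F ⊆ Z)
    (hn : ∀ g : G, (∀ z ∈ E, g • z = z) → g • F ⊆ Z → ∃ z ∈ Z, z ∉ F ∧ z ∉ g • F) : 3 * #F ≤ #Z + 2 * #E := by
  have hsub : ∀ (g : G) y, (∀ z ∈ E, g • z = z) → y ∈ g • F → y ∈ Z → y ∉ E → g • F ⊆ Z := by
    intro g y hg h1 h2 h3
    exact hcl g (card_lt_card ⟨subset_inter (h.sub_smul hg) (h.ss.1.trans hFZ), fun e => h3 (e (mem_inter.2 ⟨h1, h2⟩))⟩)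
  have h1F : ∀ z ∈ E, (1 : G) • z = z := fun z _ => one_smul _ _
  obtain ⟨y, hy, hy', -⟩ := hn 1 h1F (by rwa [one_smul])
  obtain ⟨g, hg, hyg⟩ := h.exists_smul (fun e => hy' (h.ss.1 e))
  have hgZ := hsub g y hg hyg hy (fun e => hy' (h.ss.1 e))
  obtain ⟨z, hz, hz1, hz2⟩ := hn g hg hgZ
  obtain ⟨k, hk, hzk⟩ := h.exists_smul (fun e => hz1 (h.ss.1 e))
  have hkZ := hsub k z hk hzk hz (fun e => hz1 (h.ss.1 e))
  have e1 := h.block h1F hg (fun e => hy' (by rw [one_smul] at e; rwa [e]))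
  have e2 := h.block h1F hk (fun e => hz1 (by rw [one_smul] at e; rwa [e]))
  have e3 := h.block hg hk (fun e => hz2 (by rwa [e]))
  rw [one_smul] at e1 e2
  have c1 := card_union_add_card_inter F (g • F)
  have c2 := card_union_add_card_inter (F ∪ g • F) (k • F)
  rw [union_inter_distrib_right, e2, e3, union_self] at c2
  rw [e1] at c1
  have c3 : #(F ∪ g • F ∪ k • F) ≤ #Z := card_le_card (union_subset (union_subset hFZ hgZ) hkZ)
  simp only [card_smul_finset] at c1 c2
  omega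

theorem two_e_univ (h : Pred G E F) : 3 * #F ≤ Fintype.card Ω + 2 * #E := by
  refine h.two_e (subset_univ _) (fun _ _ => subset_univ _) fun g hg _ => ?_
  obtain ⟨w, -, hw⟩ := exists_mem_notMem_of_card_lt_card (s := F ∪ g • F) (t := univ) (by
    have := card_union_add_card_inter F (g • F)
    have h2 := card_le_card (subset_inter h.ss.1 (h.sub_smul hg))
    have h3 := h.lt
    rw [card_smul_finset] at this
    rw [card_univ]; omega)
  rw [mem_union, not_or] at hw
  exact ⟨w, mem_univ _, hw⟩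

theorem exists_block (h : Pred G T L) (hm : IsMultiplyPretransitive G Ω (#T + 1)) {S : Finset Ω} (hS : #S = #T + 1) :
    ∃ g : G, S ⊆ g • L := by
  obtain ⟨f⟩ := Function.Embedding.nonempty_of_card_le (α := S) (β := L) (by
    simp only [Fintype.card_coe, hS]; exact h.card_lt)
  obtain ⟨g, hg⟩ := Cfsg.Agent.Perm.exists_smul_eq_of_injective (ι := S) hm (by simp [hS])
    (x := fun s => (f s : Ω)) (y := Subtype.val) (Subtype.val_injective.comp f.injective) Subtype.val_injective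
  exact ⟨g, fun s hs => by rw [← show g • (f ⟨s, hs⟩ : Ω) = s from hg ⟨s, hs⟩, smul_mem_smul_finset_iff]; exact (f _).2⟩

theorem tits (h : Pred G T L) (hm : IsMultiplyPretransitive G Ω (#T + 1)) (hLZ : L ⊂ Z)
    (hcl : ∀ g : G, #T < #(g • L ∩ Z) → g • L ⊆ Z) : (#T + 2) * (#L - #T) ≤ #Z := by
  obtain ⟨x, hx, hx'⟩ := exists_of_ssubset h.ss
  obtain ⟨y, hy, hy'⟩ := exists_of_ssubset hLZ
  set U := insert y (insert x T) with hU
  have hyU : y ∉ insert x T := fun e => hy' (insert_subset hx h.ss.1 e)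
  have hUc : #U = #T + 2 := by rw [card_insert_of_notMem hyU, card_insert_of_notMem hx']
  have hUZ : U ⊆ Z := insert_subset hy ((insert_subset hx h.ss.1).trans hLZ.1)
  have hnU : ∀ g : G, ¬ U ⊆ g • L := by
    intro g hg
    have := h.eq_of_lt g 1 (by
      rw [one_smul]
      have := card_le_card (subset_inter ((subset_insert y _).trans hg) (insert_subset hx h.ss.1))
      rw [card_insert_of_notMem hx'] at this; omega)
    rw [one_smul] at this
    exact hy' (this ▸ hg (mem_insert_self _ _))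
  have hex : ∀ u ∈ U, ∃ g : G, U.erase u ⊆ g • L := fun u hu => h.exists_block hm (by rw [card_erase_of_mem hu, hUc]; rfl)
  choose! B hB using hex
  have huB : ∀ u ∈ U, u ∉ B u • L := fun u hu e => hnU (B u) (by
    rw [← insert_erase hu]; exact insert_subset e (hB u hu))
  have hC : ∀ u ∈ U, #(insert u (B u • L \ U)) = #L - #T := by
    intro u hu
    rw [card_insert_of_notMem (fun e => (mem_sdiff.1 e).2 hu)]
    have h1 := card_sdiff_add_card_inter (B u • L) U
    have h2 : B u • L ∩ U = U.erase u := by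
      ext z
      rw [mem_inter, mem_erase]
      exact ⟨fun e => ⟨fun e' => huB u hu (e' ▸ e.1), e.2⟩, fun e => ⟨hB u hu (mem_erase.2 e), e.2⟩⟩
    rw [h2, card_erase_of_mem hu, hUc, card_smul_finset] at h1
    omega
  have hdis : (U : Set Ω).PairwiseDisjoint fun u => insert u (B u • L \ U) := by
    intro u hu v hv huv
    rw [Function.onFun, disjoint_left]
    intro z hz hz'
    rw [mem_insert, mem_sdiff] at hz hz'
    rcases hz with rfl | hz
    · rcases hz' with e | e
      · exact huv e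
      · exact e.2 hu
    · rcases hz' with rfl | hz'
      · exact hz.2 hv
      · have := h.eq_of_lt (B u) (B v) (by
          have h1 : insert z ((U.erase u).erase v) ⊆ B u • L ∩ B v • L :=
            insert_subset (mem_inter.2 ⟨hz.1, hz'.1⟩) (subset_inter ((erase_subset _ _).trans (hB u hu))
              (by rw [erase_right_comm]; exact (erase_subset _ _).trans (hB v hv)))
          have h2 := card_le_card h1
          rw [card_insert_of_notMem (fun e => hz.2 (mem_of_mem_erase (mem_of_mem_erase e))),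
            card_erase_of_mem (mem_erase.2 ⟨huv.symm, hv⟩), card_erase_of_mem hu, hUc] at h2
          omega)
        exact huB u hu (this ▸ hB v hv (mem_erase.2 ⟨huv, hu⟩))
  have h1 := card_biUnion hdis
  rw [sum_const_nat hC, hUc] at h1
  rw [← h1]
  refine card_le_card (biUnion_subset.2 fun u hu => insert_subset (hUZ hu) (sdiff_subset.trans (hcl _ ?_)))
  have := card_le_card (subset_inter (hB u hu) ((erase_subset _ _).trans hUZ))
  rw [card_erase_of_mem hu, hUc] at this; omega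

theorem closed (h : Pred G T L) (hZ : JC G Z) (h2 : #L + #Z ≤ #T + Fintype.card Ω) (g : G)
    (h1 : #T < #(g • L ∩ Z)) : g • L ⊆ Z :=
  (h.smul g).sub hZ (by rwa [card_smul_finset]) (by simpa only [card_smul_finset] using h2)

theorem notcover (h : Pred G T L) (hm : IsMultiplyPretransitive G Ω (#T + 1)) (h1 : 1 ≤ #T) (h2 : #T + 2 ≤ #L)
    (hF : Pred G E F) (hT : #T ≤ #E) (hs : #L + #F ≤ #T + Fintype.card Ω) (hFZ : F ⊂ Z)
    (hcl : ∀ g : G, #T < #(g • L ∩ Z) → g • L ⊆ Z) (g : G) (hg : ∀ z ∈ E, g • z = z) :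
    ∃ z ∈ Z, z ∉ F ∧ z ∉ g • F := by
  obtain ⟨y, hy, hy'⟩ := exists_of_ssubset hFZ
  by_cases hyg : y ∈ g • F
  swap
  · exact ⟨y, hy, hy', hyg⟩
  have e1 := hF.block (g := 1) (fun z _ => one_smul _ _) hg (fun e => hy' (by rw [one_smul] at e; rwa [e]))
  rw [one_smul] at e1
  obtain ⟨x, hx, hx'⟩ := exists_of_ssubset hF.ss
  obtain ⟨T0, hT0, hc⟩ := exists_subset_card_eq (s := E) (n := #T - 1) (by omega)
  have hxT : x ∉ T0 := fun e => hx' (hT0 e)
  have hyT : y ∉ T0 := fun e => hy' (hF.ss.1 (hT0 e))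
  have hyx : y ∉ insert x T0 := fun e => hy' (insert_subset hx (hT0.trans hF.ss.1) e)
  have hS : #(insert y (insert x T0)) = #T + 1 := by
    rw [card_insert_of_notMem hyx, card_insert_of_notMem hxT]; omega
  obtain ⟨k, hk⟩ := h.exists_block hm hS
  have hkZ := hcl k (by
    have := card_le_card (subset_inter hk (insert_subset hy ((insert_subset hx (hT0.trans hF.ss.1)).trans hFZ.1)))
    omega)
  obtain ⟨z, hz, hz'⟩ := exists_mem_notMem_of_card_lt_card (s := insert y (insert x T0)) (t := k • L) (by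
    rw [card_smul_finset]; omega)
  simp only [mem_insert, not_or] at hz'
  refine ⟨z, hkZ hz, fun e => hy' ?_, fun e => hx' ?_⟩
  · refine h.closed hF.jF hs k ?_ (hk (mem_insert_self _ _))
    have h3 : insert z (insert x T0) ⊆ k • L ∩ F := insert_subset (mem_inter.2 ⟨hz, e⟩)
      (subset_inter ((subset_insert _ _).trans hk) (insert_subset hx (hT0.trans hF.ss.1)))
    have := card_le_card h3
    rw [card_insert_of_notMem (by simp [hz'.2.1, hz'.2.2]), card_insert_of_notMem hxT] at this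
    omega
  · rw [← e1]
    refine mem_inter.2 ⟨hx, h.closed (hF.jF.smul g) (by rwa [card_smul_finset]) k ?_ (hk (by simp))⟩
    have h3 : insert z (insert y T0) ⊆ k • L ∩ g • F := insert_subset (mem_inter.2 ⟨hz, e⟩)
      (subset_inter (insert_subset (hk (by simp)) (((subset_insert _ _).trans (subset_insert _ _)).trans hk))
        (insert_subset hyg (hT0.trans (hF.sub_smul hg))))
    have := card_le_card h3
    rw [card_insert_of_notMem (by simp [hz'.1, hz'.2.2]), card_insert_of_notMem hyT] at this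
    omega

end Pred

theorem pred_inv [IsPreprimitive G Ω] (h2 : IsMultiplyPretransitive G Ω 2) (n : ℕ) : ∀ E F : Finset Ω, #F = n → Pred G E F →
    IsMultiplyPretransitive G Ω (#F + 1) ∨ ∃ T L : Finset Ω, Pred G T L ∧ IsMultiplyPretransitive G Ω (#T + 1) ∧ 1 ≤ #T ∧
      #T + 2 ≤ #L ∧ #L + #E ≤ #F + #T ∧ #T ≤ #E ∧ ((T = E ∧ L = F) ∨ 2 * #E ≤ #F) ∧ (#T = 1 → 2 * #E < #F) := by
  induction n using Nat.strong_induction_on with
  | _ n ih =>
  intro E F hn h
  have hlt := h.card_lt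
  have hu := h.two_e_univ
  rcases E.eq_empty_or_nonempty with rfl | hE
  · left
    obtain ⟨x, hx, -⟩ := exists_of_ssubset h.ss
    have : F = {x} := by
      by_contra hne
      have := h.mx {x} (fun a ha b hb => by
        obtain ⟨g, h1, h3⟩ := Cfsg.Agent.Perm.exists_smul_two h2 (a := x) (b := a) (c := x) (d := b)
          (fun e => ha (by simp [e])) (fun e => hb (by simp [e]))
        exact ⟨g, fun z hz => by rw [mem_singleton.1 hz, h1], h3⟩) ⟨by simpa, fun e => hne (subset_antisymm e (by simpa))⟩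
      simp at this
    rw [this, card_singleton]; exact h2
  obtain ⟨D, hD⟩ := exists_pred h.jE hE (by have := h.lt; omega)
  have hlt' := hD.card_lt
  have hu' := hD.two_e_univ
  rcases ih _ (hn ▸ hlt) D E rfl hD with hm | ⟨T, L, hP, hm, h1, h3, h4, h5, h6, h7⟩
  · by_cases he : #F = #E + 1
    · left
      exact Cfsg.Agent.Perm.isMultiplyPretransitive_succ (he ▸ hm) F rfl fun a b ha hb => h.jF a ha b hb
    · right
      exact ⟨E, F, h, hm, hE.card_pos, by omega, by omega, le_rfl, Or.inl ⟨rfl, rfl⟩, by omega⟩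
  · right
    have hcl := hP.closed h.jF (by omega)
    have h8 := hD.two_e h.ss.1 (hD.closed h.jF (by omega)) fun g hg _ =>
      hP.notcover hm h1 h3 hD h5 (by omega) h.ss hcl g hg
    refine ⟨T, L, hP, hm, h1, h3, by omega, by omega, Or.inr ?_, fun e => by have := h7 e; omega⟩
    rcases h6 with ⟨rfl, rfl⟩ | h6
    · have := hP.tits hm h.ss hcl
      obtain ⟨s, hs⟩ := Nat.exists_eq_add_of_le h3
      rw [hs, show #T + 2 + s - #T = s + 2 by omega] at this
      rw [hs]; nlinarith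
    · omega

theorem marggraff [IsPreprimitive G Ω] (h : JC G F) (h0 : F.Nonempty) (h2 : #F + 2 ≤ Fintype.card Ω) :
    IsMultiplyPretransitive G Ω (#F + 1) ∨
      (2 * #F ≤ Fintype.card Ω ∧ (IsMultiplyPretransitive G Ω 3 ∨ 2 * #F < Fintype.card Ω)) := by
  have hm2 : IsMultiplyPretransitive G Ω 2 := by
    refine IsPreprimitive.is_two_pretransitive ‹_› (s := (F : Set Ω)) (n := #F - 1)
      (by rw [Set.ncard_coe_finset]; have := h0.card_pos; omega)
      (by rw [Nat.card_eq_fintype_card]; have := h0.card_pos; omega) ⟨fun x y => ?_⟩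
    obtain ⟨g, h1, h3⟩ := h x x.2 y y.2
    exact ⟨⟨g, (mem_fixingSubgroup_iff _).2 h1⟩, Subtype.ext h3⟩
  obtain ⟨E, hE⟩ := exists_pred h h0 h2
  have hu := hE.two_e_univ
  refine (pred_inv hm2 _ E F rfl hE).imp_right ?_
  rintro ⟨T, L, hP, hm, h1, h3, h4, h5, h6, h7⟩
  constructor
  · rcases h6 with ⟨rfl, rfl⟩ | h6
    · have := hP.tits hm (Z := univ) (ssubset_univ_iff.2 fun e => by rw [e, card_univ] at h2; omega)
        (fun _ _ => subset_univ _)
      obtain ⟨s, hs⟩ := Nat.exists_eq_add_of_le h3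
      rw [hs, show #T + 2 + s - #T = s + 2 by omega, card_univ] at this
      rw [hs]; nlinarith
    · omega
  · by_cases e : #T = 1
    · right; have := h7 e; omega
    · left
      exact isMultiplyPretransitive_of_le (n := #T + 1) (by omega)
        (by rw [Nat.card_eq_fintype_card]; have := card_le_univ L; omega)

/-- a translate of the Jordan set meeting it in one point -/
theorem exists_meet_one [IsPreprimitive G Ω] (h : JC G F) (h2 : #F + 2 ≤ Fintype.card Ω) (h3 : Fintype.card Ω < 2 * #F)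
    {γ : Ω} (hγ : γ ∉ F) : ∃ g : G, γ ∉ g • F ∧ ∀ z, z ≠ γ → z ∈ F ∨ z ∈ g • F := by
  have hm := (marggraff h (card_pos.1 (by omega)) h2).resolve_right (by omega)
  obtain ⟨D, h4, h5, h6⟩ := exists_subsuperset_card_eq (s := Fᶜ.erase γ) (t := univ.erase γ) (n := #F)
    (erase_subset_erase _ (subset_univ _))
    (by rw [card_erase_of_mem (mem_compl.2 hγ), card_compl]; omega)
    (by rw [card_erase_of_mem (mem_univ _), card_univ]; omega)
  let e : F ≃ D := (equivOfCardEq h6).symm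
  obtain ⟨g, hg⟩ := Cfsg.Agent.Perm.exists_smul_eq_of_injective_le (ι := F) hm (by simp)
    (by rw [Nat.card_eq_fintype_card]; omega) (x := Subtype.val) (y := fun s => (e s : Ω)) Subtype.val_injective
    (Subtype.val_injective.comp e.injective)
  have h7 : g • F = D := by
    refine eq_of_subset_of_card_le (fun z hz => ?_) (by rw [card_smul_finset, h6])
    obtain ⟨w, hw, rfl⟩ := mem_smul_finset.1 hz
    rw [show g • w = e ⟨w, hw⟩ from hg ⟨w, hw⟩]; exact (e _).2
  refine ⟨g, fun e => (mem_erase.1 (h5 (h7 ▸ e))).1 rfl, fun z hz => ?_⟩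
  by_cases hzF : z ∈ F
  · exact Or.inl hzF
  · exact Or.inr (h7 ▸ h4 (mem_erase.2 ⟨hz, mem_compl.2 hzF⟩))

theorem alt_le_of_three [IsPreprimitive G Ω] {x y : G} {γ : Ω} (hx : x • γ ≠ γ)
    (hy : y • γ ≠ γ) (h : ∀ z : Ω, z ≠ γ → x • z = z ∨ y • z = z) : alternatingGroup Ω ≤ (toPermHom G Ω).range := by
  have hp : IsPreprimitive (toPermHom G Ω).range Ω := by
    let f : Ω →ₑ[(toPermHom G Ω).rangeRestrict] Ω := ⟨id, fun _ _ => rfl⟩
    exact IsPreprimitive.of_surjective (f := f) Function.surjective_id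
  exact Equiv.Perm.alternatingGroup_le_of_isPreprimitive_of_isThreeCycle_mem hp
    (isThreeCycle_comm (x := toPerm x) (y := toPerm y) hx hy h) ⟨x * y * x⁻¹ * y⁻¹, by rw [map_mul, map_mul, map_mul, map_inv, map_inv]; rfl⟩

theorem alt_le_of_JC [IsPreprimitive G Ω] (h : JC G F) (h2 : #F + 2 ≤ Fintype.card Ω) (h3 : Fintype.card Ω < 2 * #F) :
    alternatingGroup Ω ≤ (toPermHom G Ω).range := by
  have hex : ∀ {F : Finset Ω}, JC G F → #F + 2 ≤ Fintype.card Ω → ∀ γ ∉ F, ∃ x : G, (∀ z ∈ F, x • z = z) ∧ x • γ ≠ γ := by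
    intro F h h2 γ hγ
    obtain ⟨δ, -, hδ⟩ := exists_mem_notMem_of_card_lt_card (s := insert γ F) (t := univ) (by
      rw [card_insert_of_notMem hγ, card_univ]; omega)
    rw [mem_insert, not_or] at hδ
    obtain ⟨x, h4, h5⟩ := h γ hγ δ hδ.2
    exact ⟨x, h4, h5 ▸ hδ.1⟩
  obtain ⟨γ, -, hγ⟩ := exists_mem_notMem_of_card_lt_card (s := F) (t := univ) (by rw [card_univ]; omega)
  obtain ⟨g, h4, h5⟩ := exists_meet_one h h2 h3 hγ
  obtain ⟨x, hx, hx'⟩ := hex h h2 γ hγ
  obtain ⟨y, hy, hy'⟩ := hex (h.smul g) (by rwa [card_smul_finset]) γ h4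
  exact alt_le_of_three hx' hy' fun z hz => (h5 z hz).imp (hx z) (hy z)

/-- In an imprimitive quasiprimitive group, a Jordan set is a union of at least two blocks of a faithful primitive
quotient action. -/
theorem exists_quot [Finite G] [FaithfulSMul G Ω] (hqp : ∀ N : Subgroup G, N.Normal → N ≠ ⊥ → IsPretransitive N Ω)
    (hnp : ¬ IsPreprimitive G Ω) (h : JC G F) (h0 : F.Nonempty) (h2 : #F + 2 ≤ Fintype.card Ω) :
    ∃ (K : Subgroup G) (f : Ω → G ⧸ K), IsPreprimitive G (G ⧸ K) ∧ (∀ g : G, (∀ q : G ⧸ K, g • q = q) → g = 1) ∧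
      (∀ (g : G) x, f (g • x) = g • f x) ∧ Function.Surjective f ∧ (∀ x, ∃ y, y ≠ x ∧ f y = f x) ∧
      (∀ x ∉ F, ∀ z, f z = f x → z ∉ F) ∧ ∀ x ∉ F, ∃ y ∉ F, f y ≠ f x := by
  obtain ⟨γ, -, hγ⟩ := exists_mem_notMem_of_card_lt_card (s := F) (t := univ) (by rw [card_univ]; omega)
  have hex : ∀ γ ∉ F, ∃ x : G, (∀ z ∈ F, x • z = z) ∧ x • γ ≠ γ ∧ x • γ ∉ F := by
    intro γ hγ
    obtain ⟨δ, -, hδ⟩ := exists_mem_notMem_of_card_lt_card (s := insert γ F) (t := univ) (by
      rw [card_insert_of_notMem hγ, card_univ]; omega)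
    rw [mem_insert, not_or] at hδ
    obtain ⟨x, h4, h5⟩ := h γ hγ δ hδ.2
    exact ⟨x, h4, h5 ▸ hδ⟩
  obtain ⟨x0, -, hx0, -⟩ := hex γ hγ
  haveI : Nontrivial Ω := ⟨_, _, hx0⟩
  haveI : IsPretransitive G Ω := by
    have := hqp ⊤ inferInstance (fun e => hx0 (by
      rw [show x0 = 1 from Subgroup.mem_bot.1 (e ▸ Subgroup.mem_top x0), one_smul]))
    exact ⟨fun a b => by obtain ⟨g, hg⟩ := this.exists_smul_eq a b; exact ⟨g, hg⟩⟩
  obtain ⟨K, hK, hle⟩ := (eq_top_or_exists_le_coatom (stabilizer G γ)).resolve_left (fun e => hx0 (by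
    have : x0 ∈ stabilizer G γ := e ▸ Subgroup.mem_top x0
    exact this))
  have hKne : ¬ K ≤ stabilizer G γ := fun e => hnp ((isCoatom_stabilizer_iff_preprimitive G γ).1 (le_antisymm e hle ▸ hK))
  choose r hr using fun x : Ω => exists_smul_eq G γ x
  let f : Ω → G ⧸ K := fun x => (r x : G ⧸ K)
  have hf1 : ∀ g : G, f (g • γ) = (g : G ⧸ K) := fun g => QuotientGroup.eq.2 (hle (by
    rw [mem_stabilizer_iff, mul_smul, inv_smul_eq_iff, hr]))
  have hf : ∀ (g : G) x, f (g • x) = g • f x := by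
    intro g x
    obtain ⟨k, rfl⟩ := exists_smul_eq G γ x
    rw [← mul_smul, hf1, hf1]; rfl
  have hsurj : Function.Surjective f := fun q => by
    obtain ⟨g, rfl⟩ := QuotientGroup.mk_surjective q; exact ⟨_, hf1 g⟩
  obtain ⟨u, hu⟩ : ∃ u, u ∉ K := by
    by_contra e; push Not at e; exact hK.1 ((Subgroup.eq_top_iff' K).2 e)
  have hu1 : (u : G ⧸ K) ≠ ((1 : G) : G ⧸ K) := fun e => hu (by simpa using QuotientGroup.eq.1 e.symm)
  haveI : Nontrivial (G ⧸ K) := ⟨_, _, hu1⟩
  have hker : ∀ g : G, (∀ q : G ⧸ K, g • q = q) → g = 1 := by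
    intro g hg
    by_contra hne
    obtain ⟨k, hk⟩ := (hqp (toPermHom G (G ⧸ K)).ker inferInstance (fun e => hne (Subgroup.mem_bot.1
      (e ▸ (show g ∈ (toPermHom G (G ⧸ K)).ker from Equiv.ext hg))))).exists_smul_eq γ (u • γ)
    apply hu1
    rw [← hf1, ← hk, ← hf1, one_smul]
    exact (hf k γ).trans (DFunLike.congr_fun k.2 (f γ))
  have hlast : ∀ x ∉ F, ∃ y ∉ F, f y ≠ f x := by
    intro x hx
    by_contra hc
    push Not at hc
    obtain ⟨g, h1, h3, h4⟩ := hex x hx
    refine h3 (by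
      rw [hker g fun q => ?_, one_smul]
      obtain ⟨w, rfl⟩ := hsurj q
      by_cases hw : w ∈ F
      · rw [← hf, h1 w hw]
      · rw [hc w hw, ← hf, hc _ h4])
  refine ⟨K, f, (isCoatom_stabilizer_iff_preprimitive G ((1 : G) : G ⧸ K)).1 (by rwa [stabilizer_quotient]), hker, hf,
    hsurj, fun x => ?_, fun x hx z hz hzF => ?_, hlast⟩
  · obtain ⟨k, hk, hk'⟩ := SetLike.not_le_iff_exists.1 hKne
    obtain ⟨g, rfl⟩ := exists_smul_eq G γ x
    refine ⟨g • k • γ, fun e => hk' (MulAction.injective g e), ?_⟩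
    rw [← mul_smul, hf1, hf1]
    exact QuotientGroup.eq.2 (by simpa using hk)
  · obtain ⟨y, hy, hne⟩ := hlast x hx
    obtain ⟨g, h1, rfl⟩ := h x hx y hy
    exact hne (by rw [hf, ← hz, ← hf, h1 z hzF])

theorem prim_of_qp [Finite G] [FaithfulSMul G Ω] (hqp : ∀ N : Subgroup G, N.Normal → N ≠ ⊥ → IsPretransitive N Ω)
    (h : JC G F) (h2 : #F + 2 ≤ Fintype.card Ω) (h3 : Fintype.card Ω < 2 * #F) : IsPreprimitive G Ω := by
  classical
  by_contra hnp
  obtain ⟨K, f, hp, hker, hf, hsurj, hfib, hsat, hlast⟩ := exists_quot hqp hnp h (card_pos.1 (by omega)) h2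
  haveI := Fintype.ofFinite (G ⧸ K)
  have hmem : ∀ x, f x ∈ F.image f ↔ x ∈ F := fun x => ⟨fun e => by
    obtain ⟨z, hz, e⟩ := mem_image.1 e
    by_contra hx
    exact hsat x hx z e hz, mem_image_of_mem f⟩
  have hJ : JC G (F.image f) := by
    intro a ha b hb
    obtain ⟨x, rfl⟩ := hsurj a
    obtain ⟨y, rfl⟩ := hsurj b
    obtain ⟨g, h4, h5⟩ := h x (mt (hmem x).2 ha) y (mt (hmem y).2 hb)
    refine ⟨g, fun q hq => ?_, by rw [← hf, h5]⟩
    obtain ⟨z, hz, rfl⟩ := mem_image.1 hq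
    rw [← hf, h4 z hz]
  obtain ⟨γ, -, hγ⟩ := exists_mem_notMem_of_card_lt_card (s := F) (t := univ) (by rw [card_univ]; omega)
  obtain ⟨δ, hδ, hne⟩ := hlast γ hγ
  have c1 : #(F.image f) + 2 ≤ Fintype.card (G ⧸ K) := by
    have := card_le_univ (insert (f δ) (insert (f γ) (F.image f)))
    rwa [card_insert_of_notMem (by rw [mem_insert, hmem]; tauto), card_insert_of_notMem (by rwa [hmem])] at this
  have hb : ∀ q, #{x | f x = q} = #{x | f x = f γ} := by
    intro q
    obtain ⟨g, rfl⟩ := exists_smul_eq G (f γ) q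
    symm
    refine card_bij (fun x _ => g • x) (fun x hx => ?_) (fun x _ y _ e => MulAction.injective g e) fun y hy =>
      ⟨g⁻¹ • y, ?_, by simp⟩
    · simp only [mem_filter, mem_univ, true_and] at hx ⊢; rw [hf, hx]
    · simp only [mem_filter, mem_univ, true_and] at hy ⊢; rw [hf, hy, inv_smul_smul]
  have c2 : Fintype.card Ω = Fintype.card (G ⧸ K) * #{x | f x = f γ} := by
    rw [← card_univ, card_eq_sum_card_fiberwise (f := f) (t := univ) (fun _ _ => mem_univ _),
      sum_const_nat fun q _ => hb q, card_univ]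
  have c3 : #F = #(F.image f) * #{x | f x = f γ} := by
    rw [card_eq_sum_card_fiberwise (f := f) (t := F.image f) (fun x hx => mem_image_of_mem f hx)]
    refine sum_const_nat fun q hq => ?_
    rw [← hb q]
    congr 1
    ext x
    simp only [mem_filter, mem_univ, true_and, and_iff_right_iff_imp]
    rintro rfl; exact (hmem x).1 hq
  have c4 : Fintype.card (G ⧸ K) < 2 * #(F.image f) := by
    rw [c2, c3, ← mul_assoc] at h3
    exact lt_of_mul_lt_mul_right h3 (Nat.zero_le _)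
  obtain ⟨g, h4, h5⟩ := exists_meet_one hJ c1 c4 (γ := f γ) (by rwa [hmem])
  have hmem' : ∀ x, f x ∈ g • F.image f ↔ x ∈ g • F := fun x => by
    rw [← inv_smul_mem_iff, ← hf, hmem, inv_smul_mem_iff]
  obtain ⟨γ', hγ', e⟩ := hfib γ
  obtain ⟨x, hx, hx'⟩ := h γ hγ γ' (hsat γ hγ γ' e)
  obtain ⟨v, hv, hv'⟩ := hlast (g⁻¹ • γ) (by rwa [inv_smul_mem_iff, ← hmem'])
  obtain ⟨y, hy, hy'⟩ := h.smul g γ (by rwa [← hmem']) (g • v) (by rwa [smul_mem_smul_finset_iff])
  have hv2 : f (g • v) ≠ f γ := fun e => hv' (by rw [hf, ← e, hf, inv_smul_smul])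
  have hxq : ∀ q, q ∈ F.image f ∨ q = f γ → x • q = q := by
    rintro q (hq | rfl)
    · obtain ⟨z, hz, rfl⟩ := mem_image.1 hq; rw [← hf, hx z hz]
    · rw [← hf, hx', e]
  have hyq : ∀ q, q ∈ g • F.image f → y • q = q := by
    intro q hq
    obtain ⟨z, rfl⟩ := hsurj q
    rw [← hf, hy z ((hmem' z).1 hq)]
  have hxy : ∀ q : G ⧸ K, x • q = q ∨ y • q = q := fun q => by
    by_cases e : q = f γ
    · exact Or.inl (hxq q (Or.inr e))
    · exact (h5 q e).imp (fun e => hxq q (Or.inl e)) (hyq q)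
  have hcomm : x * y = y * x := by
    have := (show Equiv.Perm.Disjoint (toPermHom G (G ⧸ K) x) (toPermHom G (G ⧸ K) y) from hxy).commute
    rw [← mul_inv_eq_one]
    refine hker _ fun q => ?_
    have h6 : toPermHom G (G ⧸ K) (x * y * (y * x)⁻¹) = 1 := by rw [map_mul, map_inv, map_mul, map_mul, this.eq, mul_inv_cancel]
    exact DFunLike.congr_fun h6 q
  have h6 : g • v ∈ F := by
    rcases h5 _ hv2 with e | e
    · exact (hmem _).1 e
    · rw [hmem', smul_mem_smul_finset_iff] at e; exact absurd e hv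
  have h7 : (x * y) • γ = (y * x) • γ := by rw [hcomm]
  rw [mul_smul, mul_smul, hy', hx _ h6, hx', ← hy'] at h7
  exact hγ' (MulAction.injective y h7).symm

end Cfsg.Agent.FG
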