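import Cfsg.Agent.FG.Compl
import Cfsg.Agent.Transfer.Hall

/-! Solvability of groups with a nilpotent maximal subgroup: reduction to the core-free case. -/

set_option autoImplicit false

namespace Cfsg.Agent.FG

open Cfsg.Agent.BG Subgroup

variable {G : Type*} [Group G] [Finite G] {D M : Subgroup G} {p : ℕ}

omit [Finite G] in
theorem norm_eq_of_corefree (hmax : IsCoatom M) (hcf : ∀ D ≤ M, D.Normal → D = ⊥) (hD : D ⊴ M) (h0 : D ≠ ⊥) :
    N[D] = M := by
  by_contra h
  exact h0 (hcf D hD.le (normalizer_eq_top_iff.1 (hmax.2 _ (hD.norm.lt_of_ne' h))))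

theorem sylow_of_corefree [Fact p.Prime] (hmax : IsCoatom M) (hcf : ∀ D ≤ M, D.Normal → D = ⊥) (hnil : Group.IsNilpotent M)
    (h : p ∣ #M) : SylowIn p (Op p M) ⊤ := by
  have h1 := nilpotent_pcore_Hall {p} hnil
  refine Sylow_subnorm ?_
  rwa [norm_eq_of_corefree hmax hcf (pcore_normal _ _) (Sylow_ne_bot h1 h), top_inf_eq]

theorem sol_of_corefree (hmax : IsCoatom M) (hcf : ∀ D ≤ M, D.Normal → D = ⊥) (hnil : Group.IsNilpotent M)
    (h : ∀ p [Fact p.Prime] (P : Sylow p G), p ∣ #M → P = Op p M → HasNormalPComplement p G) : Group.IsSolvable G := by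
  have hM : IsPiHallOf (primesOf #M) M ⊤ := pHall_of_Sylow le_top (pnat_pi _) fun p hp h =>
    haveI := Fact.mk hp; ⟨_, sylow_of_corefree hmax hcf hnil h.2, pcore_sub _ _⟩
  obtain ⟨K, _, hK⟩ := Transfer.exists_normal_complement_of_forall_prime (H := M)
    (by simpa using hM.coprime) fun p hp h1 => by
      haveI := Fact.mk hp
      obtain ⟨P, e⟩ := sylow_of_sylowIn_top (sylow_of_corefree hmax hcf hnil h1)
      exact h p P h1 e
  have hK := isComplement'_iff_sdprod.1 hK
  refine isog_sol (isog_symm isog_top) (series_sol hK.normal ?_ (isog_sol hK.isog (nilpotent_sol hnil)))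
  by_cases h0 : K = ⊥
  · exact h0 ▸ solvable_bot
  obtain ⟨q, hq, h1⟩ := exists_prime_dvd_card h0
  haveI := Fact.mk hq
  have hc : (#K).Coprime #M := hK.relIndexr ▸ hM.coprime.symm
  obtain ⟨Q, h2, h3⟩ := coprime_Sylow_exists q hK.norm hc (.inl (nilpotent_sol hnil))
  have h4 : Q ⊔ M = ⊤ := hmax.2 _ (le_sup_right.lt_of_ne fun e =>
    Sylow_ne_bot h2 h1 (eq_bot_iff.2 ((le_inf h2.le (le_sup_left.trans e.ge)).trans hK.inf.le)))
  have h5 := group_modl (.inr h3) h2.le
  rw [h4, inf_top_eq, hK.inf, sup_bot_eq] at h5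
  exact h5 ▸ pgroup_sol h2.pg

omit [Finite G] in
theorem sol_of_core (hmax : IsCoatom M) (hs : Group.IsSolvable M)
    (h : IsCoatom (M.map (QuotientGroup.mk' M.normalCore)) →
      (∀ D ≤ M.map (QuotientGroup.mk' M.normalCore), D.Normal → D = ⊥) → Group.IsSolvable (G ⧸ M.normalCore)) :
    Group.IsSolvable G := by
  have hk : (QuotientGroup.mk' M.normalCore).ker ≤ M := by rw [QuotientGroup.ker_mk']; exact M.normalCore_le
  have hf := QuotientGroup.mk'_surjective M.normalCore
  haveI := solvableS M.normalCore_le hs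
  haveI := h ⟨fun e => hmax.1 (by rw [← comap_map_eq_self hk, e, comap_top]), fun B hB => by
      rw [← map_comap_eq_self_of_surjective hf B, hmax.2 (B.comap _), map_top_of_surjective _ hf]
      exact (comap_map_eq_self hk).ge.trans_lt ((comap_lt_comap_of_surjective hf).2 hB)⟩ fun D hD _ => by
    rw [← map_comap_eq_self_of_surjective hf D, Subgroup.map_eq_bot_iff, QuotientGroup.ker_mk', normal_le_normalCore]
    exact (comap_mono hD).trans (comap_map_eq_self hk).le
  exact Group.isSolvable_of_ker_le_range M.normalCore.subtype (QuotientGroup.mk' M.normalCore) (by simp)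

end Cfsg.Agent.FG
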