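import Cfsg.Agent.FTC.HSub
import Cfsg.Agent.Loc.PGrp
import Cfsg.Agent.Fus.Nrm

/-! `p`-nilpotence from elements of order `p` or 4 (helper3): `pnil_of_small`; control of strong fusion from a subgroup
whose characteristic subgroups are strongly closed: `control_of_conj`. -/

set_option autoImplicit false

namespace Cfsg.Agent.FG

open Subgroup Cfsg.Agent.Loc

variable {G : Type*} [Group G] [Finite G] {p : ℕ} [hp : Fact p.Prime]

theorem pnil_of_small (P : Sylow p G) (h : ∀ (Q : Subgroup G) (g : G), Q ≤ P → g ∈ normalizer (Q : Set G) →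
    Q ≤ ⁅Q, zpowers g⁆ → Q ≤ closure {a | a ∈ Q ∧ (a ^ p = 1 ∨ (p = 2 ∧ a ^ 4 = 1))} → Q = ⊥) :
    HasNormalPComplement p G := by
  refine (Transfer.hasNormalPComplement_iff_normalizer_centralizer P).2 fun Q => ?_
  induction Q using WellFoundedLT.induction with
  | _ Q ih =>
  intro hQ g hg hc
  have hn : zpowers g ≤ normalizer (Q : Set G) := zpowers_le.2 hg
  have hc' : (Nat.card (zpowers g)).Coprime p := by rwa [Nat.card_zpowers]
  have pQ := P.isPGroup'.to_le hQ
  have cQ : (Nat.card (zpowers g)).Coprime (Nat.card Q) := by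
    obtain ⟨k, hk⟩ := IsPGroup.iff_card.1 pQ
    rw [hk]; exact hc'.pow_right k
  suffices Q ≤ centralizer (zpowers g : Set G) from le_centralizer_iff.1 this (mem_zpowers g)
  have sub : ∀ R < Q, zpowers g ≤ normalizer (R : Set G) → R ≤ centralizer (zpowers g : Set G) := fun R hR hn =>
    le_centralizer_iff.2 (zpowers_le.2 (ih R hR (hR.le.trans hQ) g (hn (mem_zpowers g)) hc))
  rcases (commutator_le_left_of_le_normalizer hn).lt_or_eq with h1 | h1
  · exact Solv.le_centralizer_of_commutator_le_centralizer hn cQ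
      (sub _ h1 (le_normalizer_commutator hn le_normalizer))
  set R := closure {a | a ∈ Q ∧ (a ^ p = 1 ∨ (p = 2 ∧ a ^ 4 = 1))}
  rcases (show R ≤ Q from (closure_le _).2 fun _ h => h.1).lt_or_eq with h2 | h2
  · have h3 := sub _ h2 (le_normalizer_of_cj_le fun x hx => by
      rw [cj_closure, closure_le]
      rintro _ ⟨a, ⟨ha, h⟩, rfl⟩
      exact subset_closure ⟨conj_mem_of_mem_normalizer (hn hx) ha, h.imp (fun h => by simp [h])
        fun h => ⟨h.1, by simp [h.2]⟩⟩)
    by_cases h4 : p = 2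
    · subst h4
      exact FTC.le_centralizer_of_pow_four pQ hn hc' fun x hx h => h3 (subset_closure ⟨hx, .inr ⟨rfl, h⟩⟩)
    · exact Transfer.le_centralizer_of_omega h4 pQ hn hc' fun x hx h => h3 (subset_closure ⟨hx, .inl h⟩)
  rw [h Q g hQ hg h1.ge h2.ge]; exact bot_le

open Fus in
theorem control_of_conj (S : Sylow p G) {W : Subgroup G} (hW : W ≤ S)
    (h : ∀ a ∈ W, ∀ g, g * a * g⁻¹ ∈ (S : Subgroup G) → ∃ n ∈ normalizer (W : Set G), g * a * g⁻¹ = n * a * n⁻¹)
    {X : Subgroup G} {g : G} (hX : X ≤ S) (hg : cj g X ≤ S) :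
    ∃ n ∈ normalizer (W : Set G), ∃ c ∈ centralizer (X : Set G), g = n * c := by
  have hG := grpFS_group (S : Subgroup G)
  haveI := (S.isPGroup'.to_le hW).isNilpotent
  obtain ⟨m, hm⟩ := Group.IsNilpotent.nilpotent W
  have hn : (groupFusionSystem (S : Subgroup G)).IsNormal W := by
    refine (sat_group S).normal_of_chain m (fun i => (Subgroup.upperCentralSeries W i).map W.subtype) (by simp)
      (by rw [hm, ← MonoidHom.range_eq_map, range_subtype]) fun i _ =>
      ⟨map_mono (Subgroup.upperCentralSeries_mono _ i.le_succ), hG.sc_iff.2 ⟨(map_subtype_le _).trans hW, fun x hx g _ hg => ?_⟩, ?_⟩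
    · obtain ⟨n, hn, e⟩ := h x (map_subtype_le _ hx) g hg
      obtain ⟨x, hx, rfl⟩ := hx
      exact e ▸ ⟨W.normalizerMonoidHom ⟨n, hn⟩ x, (characteristic_iff_map_le.1 inferInstance) _ (mem_map_of_mem _ hx), rfl⟩
    · rw [commutator_comm, commutator_le]
      rintro _ ⟨x, hx, rfl⟩ y hy
      exact ⟨_, Subgroup.mem_upperCentralSeries_succ_iff.1 hx ⟨y, hy⟩, rfl⟩
  obtain ⟨k, hk, e, hm⟩ := normal_ext hn (hG.mor_cp hX (mem_top g) hg)
  obtain ⟨n, -, en⟩ := hG.exists_of_mor hk
  refine ⟨n, maps_cp_iff.1 (hm.congr fun x hx => (en x (mem_sup_right hx)).symm), n⁻¹ * g, fun x hx => ?_, by group⟩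
  have : g * x * g⁻¹ = n * x * n⁻¹ := by rw [← en x (mem_sup_left hx), e x hx, cp_apply]
  calc x * (n⁻¹ * g) = n⁻¹ * (n * x * n⁻¹) * g := by group
    _ = _ := by rw [← this]; group

end Cfsg.Agent.FG
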