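import Cfsg.Agent.Transfer.Alperin
import Cfsg.Agent.Solv.Basic
import Mathlib.Tactic.Group

/-! Sylow 2-subgroups whose centre has index 4 (`Q4`), their abelian maximal subgroups (`Mx`), and the centres of the
Sylow subgroups sharing one of these. (helper3) -/

set_option autoImplicit false

namespace Cfsg.Agent.FG

open Subgroup Pointwise Cfsg.Agent.Transfer

variable {G : Type*} [Group G]

abbrev Cs (P : Sylow 2 G) : Subgroup G := centralizer ((P : Subgroup G) : Set G)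

local notation "C[" P "]" => Cs P

structure Q4 (P : Sylow 2 G) (z : G) : Prop where
  zP : z ∈ (P : Subgroup G)
  z1 : z ≠ 1
  zz : z * z = 1
  zc : z ∈ C[P]
  comm : ∀ x ∈ (P : Subgroup G), ∀ y ∈ (P : Subgroup G), x * y = y * x ∨ x * y = y * x * z
  ex : ∃ a ∈ (P : Subgroup G), ∃ b ∈ (P : Subgroup G), a * b ≠ b * a
  three : ∀ a ∈ (P : Subgroup G), ∀ b ∈ (P : Subgroup G), a * b ≠ b * a → ∀ x ∈ (P : Subgroup G),
    x ∈ C[P] ∨ a * x ∈ C[P] ∨ b * x ∈ C[P] ∨ a * b * x ∈ C[P]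

structure Mx (P : Sylow 2 G) (E : Subgroup G) : Prop where
  le : E ≤ P
  comm : ∀ x ∈ E, ∀ y ∈ E, x * y = y * x
  idx : E.relIndex P = 2

variable {P P' P₁ P₂ P₃ : Sylow 2 G} {E : Subgroup G} {a b e e' g t x y z z' z₁ z₂ z₃ : G}

theorem mem_smul : x ∈ ((g • P : Sylow 2 G) : Subgroup G) ↔ g⁻¹ * x * g ∈ (P : Subgroup G) := mem_conj_smul

theorem cen_smul : x ∈ C[(g • P : Sylow 2 G)] ↔ g⁻¹ * x * g ∈ C[P] :=
  ⟨fun h y hy => by
    have := h _ (conj_mem_conj_smul.2 hy : g * y * g⁻¹ ∈ ((g • P : Sylow 2 G) : Subgroup G))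
    calc y * (g⁻¹ * x * g) = g⁻¹ * (g * y * g⁻¹ * x) * g := by group
      _ = _ := by rw [this]; group,
  fun h y hy => by
    have := h _ (mem_smul.1 hy)
    calc y * x = g * (g⁻¹ * y * g * (g⁻¹ * x * g)) * g⁻¹ := by group
      _ = _ := by rw [this]; group⟩

theorem three_of_index (h : (center G).index = 4) (n : a * b ≠ b * a) (x : G) :
    x ∈ center G ∨ a * x ∈ center G ∨ b * x ∈ center G ∨ a * b * x ∈ center G := by
  classical
  have : Finite (G ⧸ center G) := Nat.finite_of_card_ne_zero (by rw [← index, h]; decide)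
  have := Fintype.ofFinite (G ⧸ center G)
  have na : a ∉ center G := fun e => n (mem_center_iff.1 e b).symm
  have nb : b ∉ center G := fun e => n (mem_center_iff.1 e a)
  have nab : a * b ∉ center G := fun e => n (mul_left_cancel (a := a) (by rw [mem_center_iff.1 e a, mul_assoc]))
  have nab' : a⁻¹ * b ∉ center G := fun e => n (mul_left_cancel (a := a⁻¹) (by
    rw [← mul_assoc, ← mul_assoc, ← mem_center_iff.1 e a]; group))
  have : ({1, (a : G ⧸ center G), (b : G ⧸ center G), ((a * b : G) : G ⧸ center G)} : Finset _) = Finset.univ := by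
    refine Finset.eq_univ_of_card _ (Eq.trans ?_ (h.symm.trans Nat.card_eq_fintype_card))
    rw [Finset.card_eq_four]
    refine ⟨_, _, _, _, ?_, ?_, ?_, ?_, ?_, ?_, rfl⟩
    exacts [fun e => na ((QuotientGroup.eq_one_iff _).1 e.symm), fun e => nb ((QuotientGroup.eq_one_iff _).1 e.symm),
      fun e => nab ((QuotientGroup.eq_one_iff _).1 e.symm), fun e => nab' (QuotientGroup.eq.1 e),
      fun e => nb (by simpa using QuotientGroup.eq.1 e),
      fun e => na (by simpa using Normal.conj_mem inferInstance _ (QuotientGroup.eq.1 e) b)]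
  have k := this ▸ Finset.mem_univ ((x⁻¹ : G) : G ⧸ center G)
  simp only [Finset.mem_insert, Finset.mem_singleton, QuotientGroup.eq_one_iff, QuotientGroup.eq, inv_inv, inv_mem_iff] at k
  exact k.imp_right (.imp (Normal.mem_comm inferInstance) (.imp (Normal.mem_comm inferInstance)
    (Normal.mem_comm inferInstance)))

theorem comm_of_index (h : (center G).index = 4) (n : a * b ≠ b * a) :
    ∃ z ∈ center G, z ≠ 1 ∧ z * z = 1 ∧ ∀ x y : G, x * y = y * x ∨ x * y = y * x * z := by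
  have na : a ∉ center G := fun e => n (mem_center_iff.1 e b).symm
  obtain ⟨z, e⟩ : ∃ z, a * b = b * a * z := ⟨(b * a)⁻¹ * (a * b), by group⟩
  have zc : z ∈ center G := by
    rcases three_of_index h n (b * a)⁻¹ with k | k | k | k
    · exact (n (mul_left_cancel (a := b) (by rw [mem_center_iff.1 (inv_mem_iff.1 k) b, mul_assoc]))).elim
    · exact (n (mem_center_iff.1 (by simpa using k) a)).elim
    · exact (na (by simpa [mul_assoc] using Normal.conj_mem inferInstance _ k b⁻¹)).elim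
    · have := Normal.mem_comm inferInstance k
      rwa [e, inv_mul_cancel_left] at this
  have zc := mem_center_iff.1 zc
  have zz : z * z = 1 := by
    rcases three_of_index h n a with k | k | k | k
    · exact (na k).elim
    · refine mul_left_cancel (a := b * (a * a)) ?_
      rw [mul_one, ← mul_assoc, ← mul_assoc, mul_assoc _ a z, zc a, ← mul_assoc, ← e, mul_assoc a, mul_assoc a, ← e,
        ← mul_assoc, ← mem_center_iff.1 k b, mul_assoc]
    · exact (n (mul_left_cancel (a := b) (by rw [mem_center_iff.1 k b, mul_assoc]))).elim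
    · exact (n (mul_left_cancel (a := a) (mul_right_cancel (b := a) (by
        simpa only [mul_assoc] using mem_center_iff.1 k a)))).elim
  have gen : ∀ x : G, (x * a = a * x ∨ x * a = a * x * z) → (x * b = b * x ∨ x * b = b * x * z) →
      ∀ y, x * y = y * x ∨ x * y = y * x * z := fun x ha hb y => by
    have mul : ∀ u v, (x * u = u * x ∨ x * u = u * x * z) → (x * v = v * x ∨ x * v = v * x * z) →
        x * (u * v) = u * v * x ∨ x * (u * v) = u * v * x * z := by
      rintro u v (k | k) (l | l) <;> rw [← mul_assoc, k] <;> simp only [mul_assoc, ← zc v] <;>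
        simp only [← mul_assoc x v, l] <;> simp [mul_assoc, zz]
    have f : ∀ w, (x * w = w * x ∨ x * w = w * x * z) → w * y⁻¹ ∈ center G → x * y = y * x ∨ x * y = y * x * z :=
      fun w hw c => by simpa using mul _ _ (.inl (mem_center_iff.1 (inv_mem c) x)) hw
    rcases three_of_index h n y⁻¹ with k | k | k | k
    exacts [.inl (mem_center_iff.1 (inv_mem_iff.1 k) x), f a ha k, f b hb k, f _ (mul a b ha hb) k]
  have sy : ∀ {x y : G}, (x * y = y * x ∨ x * y = y * x * z) → y * x = x * y ∨ y * x = x * y * z :=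
    .imp .symm fun k => by rw [k, mul_assoc, zz, mul_one]
  exact ⟨z, mem_center_iff.2 zc, fun k => n (by rw [e, k, mul_one]), zz, fun x =>
    gen x (sy (gen a (.inl rfl) (.inr e) x)) (sy (gen b (sy (.inr e)) (.inl rfl) x))⟩

theorem q4_of_index (hna : ¬ IsMulCommutative (P : Subgroup G)) (h : (center (P : Subgroup G)).index = 4) :
    ∃ z, Q4 P z := by
  have cz : ∀ {x : (P : Subgroup G)}, x ∈ center (P : Subgroup G) → (x : G) ∈ C[P] :=
    fun h y hy => congrArg Subtype.val (mem_center_iff.1 h ⟨y, hy⟩)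
  obtain ⟨a, b, n⟩ : ∃ a b : (P : Subgroup G), a * b ≠ b * a := by
    by_contra! k; exact hna ⟨⟨k⟩⟩
  obtain ⟨z, zc, z1, zz, k⟩ := comm_of_index h n
  exact ⟨z, z.2, fun e => z1 (Subtype.ext e), congrArg Subtype.val zz, cz zc,
    fun x hx y hy => (k ⟨x, hx⟩ ⟨y, hy⟩).imp (congrArg Subtype.val) (congrArg Subtype.val),
    ⟨a, a.2, b, b.2, fun e => n (Subtype.ext e)⟩, fun a ha b hb n x hx =>
      (three_of_index h (a := ⟨a, ha⟩) (b := ⟨b, hb⟩) (fun e => n (congrArg Subtype.val e)) ⟨x, hx⟩).imp cz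
        (.imp cz (.imp cz cz))⟩

namespace Mx

theorem mul_mem (m : Mx P E) (hx : x ∈ (P : Subgroup G)) (hy : y ∈ (P : Subgroup G)) (nx : x ∉ E) (ny : y ∉ E) :
    x * y ∈ E :=
  (mul_mem_iff_of_index_two m.idx (a := ⟨x, hx⟩) (b := ⟨y, hy⟩)).2 (iff_of_false nx ny)

theorem exists_not (m : Mx P E) : ∃ t ∈ (P : Subgroup G), t ∉ E :=
  SetLike.not_le_iff_exists.1 fun h => absurd (m.idx.symm.trans (relIndex_eq_one.2 h)) (by decide)

theorem cen' (m : Mx P E) (ht : t ∈ (P : Subgroup G)) (n : t ∉ E) (he : e ∈ E) (c : t * e = e * t) : e ∈ C[P] :=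
  fun x hx => by
    by_cases h : x ∈ E
    · exact m.comm x h e he
    · exact mul_left_cancel (a := t) (by rw [← mul_assoc, m.comm _ (m.mul_mem ht hx n h) e he, ← mul_assoc, ← c, mul_assoc])

theorem ex (m : Mx P E) (h : Q4 P z) : ∃ e ∈ E, e ∉ C[P] := by
  by_contra! k
  obtain ⟨a, ha, b, hb, n⟩ := h.ex
  have na : a ∉ E := fun e => n (k a e b hb).symm
  exact n (mul_left_cancel (a := a) (by
    rw [← mul_assoc a b, k _ (m.mul_mem ha hb na fun e => n (k b e a ha)) a ha]))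

theorem cen (m : Mx P E) (h : Q4 P z) (ha : a ∈ (P : Subgroup G)) (c : a ∈ C[P]) : a ∈ E := by_contra fun n =>
  (m.ex h).elim fun e he => he.2 (m.cen' ha n he.1 (c e (m.le he.1)).symm)

theorem two (m : Mx P E) (h : Q4 P z) (he : e ∈ E) (he' : e' ∈ E) (n : e ∉ C[P]) (n' : e' ∉ C[P]) : e * e' ∈ C[P] := by
  obtain ⟨t, ht, nt⟩ := m.exists_not
  have k := (h.comm t ht e (m.le he)).resolve_left fun c => n (m.cen' ht nt he c)
  have k' := (h.comm t ht e' (m.le he')).resolve_left fun c => n' (m.cen' ht nt he' c)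
  refine m.cen' ht nt (E.mul_mem he he') ?_
  rw [← mul_assoc, k, mul_assoc, ← h.zc e' (m.le he'), mul_assoc e, ← mul_assoc t, k', mul_assoc _ z, h.zz, mul_one,
    mul_assoc]

theorem smul (m : Mx P E) (g : G) : Mx (g • P) (MulAut.conj g • E) :=
  ⟨pointwise_smul_le_pointwise_smul_iff.2 m.le, by
    rintro _ ⟨x, hx, rfl⟩ _ ⟨y, hy, rfl⟩
    simp only [MulAut.smul_def, MulDistribMulAction.toMonoidEnd_apply, MulDistribMulAction.toMonoidHom_apply, ← map_mul,
      m.comm x hx y hy], (relIndex_map_map_of_injective _ _ (MulAut.conj g).injective).trans m.idx⟩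

theorem of_le [Finite G] (m : Mx P E) (h : E ≤ P') : Mx P' E :=
  ⟨h, m.comm, Nat.eq_of_mul_eq_mul_left (Nat.card_pos (α := E)) (by
    rw [Solv.card_mul_relIndex h, ← Nat.card_congr (P.equiv P').toEquiv, ← Solv.card_mul_relIndex m.le, m.idx])⟩

theorem conj_mem (m : Mx P E) (h : Q4 P z) (ht : t ∈ (P : Subgroup G)) (he : e ∈ E) : t * e * t⁻¹ ∈ E := by
  rcases h.comm t ht e (m.le he) with k | k
  · rwa [k, mul_inv_cancel_right]
  · rw [k, mul_assoc e, h.zc t ht, ← mul_assoc, mul_inv_cancel_right]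
    exact E.mul_mem he (m.cen h h.zP h.zc)

end Mx

namespace Q4

theorem sq (h : Q4 P z) (hx : x ∈ (P : Subgroup G)) : x * x ∈ C[P] := fun y hy => by
  rcases h.comm y hy x hx with k | k
  · rw [← mul_assoc, k, mul_assoc, k, mul_assoc]
  · rw [← mul_assoc, k, mul_assoc, ← h.zc x hx, mul_assoc x, ← mul_assoc y, k, mul_assoc _ z, h.zz, mul_one, mul_assoc]

theorem four (h : Q4 P z) (hb : b ∈ (P : Subgroup G)) (n : b ∉ C[P]) (hx : x ∈ (P : Subgroup G)) (c : x * b = b * x)
    (nx : x ∉ C[P]) : b * x ∈ C[P] := by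
  obtain ⟨a, ha, n⟩ : ∃ a ∈ (P : Subgroup G), a * b ≠ b * a := by
    by_contra! k; exact n k
  rcases h.three a ha b hb n x hx with k | k | k | k
  · exact (nx k).elim
  · exact (n (mul_right_cancel (b := x) (by rw [mul_assoc, ← c, ← mul_assoc, ← k b hb, mul_assoc]))).elim
  · exact k
  · refine (n (mul_right_cancel (b := b * x) ?_)).elim
    rw [mul_assoc b a, ← mul_assoc a b x, k b hb, mul_assoc, mul_assoc, mul_assoc, c]

theorem mx (h : Q4 P z) (hb : b ∈ (P : Subgroup G)) (n : b ∉ C[P]) : Mx P (P ⊓ centralizer {b}) := by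
  refine ⟨inf_le_left, fun x hx y hy => ?_, ?_⟩
  · have cx := mem_centralizer_singleton_iff.1 hx.2
    by_cases k : y ∈ C[P]
    · exact k x hx.1
    · exact mul_left_cancel (a := b) (by
        rw [← mul_assoc, ← cx, mul_assoc, h.four hb n hy.1 (mem_centralizer_singleton_iff.1 hy.2) k x hx.1, mul_assoc])
  obtain ⟨a, ha, n⟩ : ∃ a ∈ (P : Subgroup G), a * b ≠ b * a := by
    by_contra! k; exact n k
  have k := (h.comm a ha b hb).resolve_left n
  rw [inf_relIndex_left, relIndex_eq_two_iff]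
  refine ⟨a, ha, fun x hx => ?_⟩
  simp only [mem_centralizer_singleton_iff]
  rcases h.comm x hx b hb with c | c
  · refine .inr ⟨c, fun e => n (mul_left_cancel (a := x) ?_)⟩
    rw [← mul_assoc, e, ← mul_assoc, ← c, mul_assoc]
  · refine .inl ⟨?_, fun e => h.z1 (mul_left_cancel (a := b * x) (by rw [← c, e, mul_one]))⟩
    rw [mul_assoc, k, ← mul_assoc, ← mul_assoc, c, mul_assoc _ z, ← h.zc a ha, mul_assoc, mul_assoc a, h.zz, mul_one,
      mul_assoc]

theorem smul (h : Q4 P z) (g : G) : Q4 (g • P) (g * z * g⁻¹) := by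
  have f : ∀ {x y : G}, g⁻¹ * x * g * (g⁻¹ * y * g) = g⁻¹ * (x * y) * g := fun {x y} => by group
  refine ⟨conj_mem_conj_smul.2 h.zP, by simpa using h.z1, by rw [conj_mul, h.zz, mul_one, mul_inv_cancel],
    cen_smul.2 (by simpa [mul_assoc] using h.zc), fun x hx y hy => ?_, ?_, fun a ha b hb n x hx => ?_⟩
  · refine (h.comm _ (mem_smul.1 hx) _ (mem_smul.1 hy)).imp (by simp [f]) fun e => ?_
    rw [f, f] at e
    calc x * y = g * (g⁻¹ * (x * y) * g) * g⁻¹ := by group
      _ = _ := by rw [e]; group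
  · obtain ⟨a, ha, b, hb, n⟩ := h.ex
    exact ⟨_, conj_mem_conj_smul.2 ha, _, conj_mem_conj_smul.2 hb, by simpa [conj_mul] using n⟩
  · simpa only [cen_smul, f] using h.three _ (mem_smul.1 ha) _ (mem_smul.1 hb) (by simpa [f] using n) _ (mem_smul.1 hx)

theorem uniq (h : Q4 P z) (h' : Q4 P z') : z = z' := by
  obtain ⟨a, ha, b, hb, n⟩ := h.ex
  exact mul_left_cancel (((h.comm a ha b hb).resolve_left n).symm.trans ((h'.comm a ha b hb).resolve_left n))

variable [Finite G]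

theorem exists_conj (h : Q4 P z) (P' : Sylow 2 G) : ∃ g, Q4 P' (g * z * g⁻¹) :=
  let ⟨g, e⟩ := MulAction.exists_smul_eq G P P'; ⟨g, e ▸ h.smul g⟩

theorem cen_iff (h : Q4 P z) (h' : Q4 P' z') (m : Mx P E) (le : E ≤ P') (c : z ∈ C[P']) (he : e ∈ E) :
    e ∈ C[P'] ↔ e ∈ C[P] := by
  have m' := m.of_le le
  have k : ∀ e ∈ E, e ∈ C[P'] → e ∈ C[P] := fun e he c' => by
    obtain ⟨t, ht, nt⟩ := m.exists_not
    have tn : t ∈ normalizer ((E ⊓ C[P'] : Subgroup G) : Set G) := mem_normalizer_fintype fun a ha => by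
      refine ⟨m.conj_mem h ht ha.1, ?_⟩
      rcases h.comm t ht a (m.le ha.1) with k | k
      · rw [k, mul_inv_cancel_right]; exact ha.2
      · rw [k, mul_assoc a, h.zc t ht, ← mul_assoc, mul_inv_cancel_right]; exact mul_mem ha.2 c
    obtain ⟨x, hx, e1⟩ := (isSylowIn_of_sylow_le P' (H := normalizer ((E ⊓ C[P'] : Subgroup G) : Set G))
      (fun s hs => centralizer_le_normalizer _ fun a ha => (ha.2 s hs).symm)).exists_conj_le
      (P.2.to_le (zpowers_le.2 ht)) (zpowers_le.2 tn)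
    have := ((mem_normalizer_iff.1 hx e).1 ⟨he, c'⟩).2 _ (conj_smul_le_iff.1 e1 t (mem_zpowers t))
    exact m.cen' ht nt he (by simpa [conj_mul] using this)
  refine ⟨k e he, fun c' => by_contra fun n => ?_⟩
  obtain ⟨f, hf, nf⟩ := m.ex h
  exact nf ((mul_mem_cancel_left c').1 (k _ (mul_mem he hf) (m'.two h' he hf n fun e => nf (k f hf e))))

theorem cen_three (h₁ : Q4 P₁ z₁) (h₂ : Q4 P₂ z₂) (h₃ : Q4 P₃ z₃) (m : Mx P₁ E) (l₂ : E ≤ P₂) (l₃ : E ≤ P₃)
    (n : z₁ ∉ C[P₂]) (ha : a ∈ E) (c₁ : a ∈ C[P₁]) (c₂ : a ∈ C[P₂]) : a ∈ C[P₃] := by_contra fun na => by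
  have m₂ := m.of_le l₂
  have e₁ := m.cen h₁ h₁.zP h₁.zc
  obtain ⟨t, ht, nt⟩ := m₂.exists_not
  have k := (h₂.comm t ht z₁ (l₂ e₁)).resolve_left fun c => n (m₂.cen' ht nt e₁ c)
  have l : E ≤ (t • P₁ : Sylow 2 G) := fun e he => mem_smul.2 (m.le (by simpa using m₂.conj_mem h₂ (inv_mem ht) he))
  refine na (((h₁.smul t).cen_iff h₃ (m.of_le l) l₃ ?_ ha).2 (cen_smul.2 ?_))
  · rw [k, mul_assoc z₁, h₂.zc t ht, ← mul_assoc, mul_inv_cancel_right]
    exact (m.of_le l₃).two h₃ e₁ (m₂.cen h₂ h₂.zP h₂.zc) (fun c => na ((h₁.cen_iff h₃ m l₃ c ha).2 c₁))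
      fun c => na ((h₂.cen_iff h₃ m₂ l₃ c ha).2 c₂)
  · rwa [mul_assoc, ← c₂ t ht, inv_mul_cancel_left]

theorem extremal (P : Sylow 2 G) (c : a ∈ C[P]) (g : G) :
    ∃ h : G, h * (g * a * g⁻¹) * h⁻¹ = a ∧ MulAut.conj h • ((P : Subgroup G) ⊓ centralizer {g * a * g⁻¹}) ≤ P := by
  obtain ⟨x, hx, e⟩ := (isSylowIn_of_sylow_le P (H := centralizer {a}) fun s hs =>
    mem_centralizer_singleton_iff.2 (c s hs)).exists_conj_le
    (Q := MulAut.conj g⁻¹ • ((P : Subgroup G) ⊓ centralizer {g * a * g⁻¹})) ((P.2.to_le inf_le_left).map _)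
    (conj_smul_le_iff.2 fun y hy => mem_centralizer_singleton_iff.2 (by
      have := mem_centralizer_singleton_iff.1 hy.2
      calc g⁻¹ * y * g⁻¹⁻¹ * a = g⁻¹ * (y * (g * a * g⁻¹)) * g := by group
        _ = _ := by rw [this]; group))
  refine ⟨x * g⁻¹, ?_, by rwa [← conj_smul_conj_smul]⟩
  rw [show x * g⁻¹ * (g * a * g⁻¹) * (x * g⁻¹)⁻¹ = x * a * x⁻¹ by group, mem_centralizer_singleton_iff.1 hx,
    mul_inv_cancel_right]

end Q4

end Cfsg.Agent.FG
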