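import Cfsg.Agent.FG.Q4a
import Cfsg.Agent.LieM.Gold5
import Cfsg.Agent.S2775
import Cfsg.Agent.Invol.Transfer
import Cfsg.Agent.Classical.PGL2Dih

/-! A non-abelian Sylow 2-subgroup of a simple group with centre of index 4 is dihedral of order 8
(`Q4.center_two`, `Q4.dihedral`). (helper3) -/

set_option autoImplicit false

namespace Cfsg.Agent.FG

open Subgroup Pointwise Cfsg.Agent.Transfer

variable {G : Type*} [Group G] [Finite G] {P P' : Sylow 2 G} {A E E' : Subgroup G} {a b g u y z : G}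

local notation "C[" P "]" => Cs P

omit [Finite G] in
theorem Mx.eq (m : Mx P E) (m' : Mx P E') (h : E ≤ E') : E = E' := h.antisymm fun x hx => by_contra fun n => by
  obtain ⟨t, ht, nt⟩ := m'.exists_not
  exact nt ((mul_mem_cancel_left hx).1 (h (m.mul_mem (m'.le hx) ht n fun e => nt (h e))))

omit [Finite G] in
theorem Mx.eq_cen (m : Mx P E) (h : Q4 P z) (hu : u ∈ E) (n : u ∉ C[P]) : E = (P : Subgroup G) ⊓ centralizer {u} :=
  m.eq (h.mx (m.le hu) n) fun x hx => ⟨m.le hx, mem_centralizer_singleton_iff.2 (m.comm x hx u hu)⟩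

theorem fus (ha : a ∈ C[P]) (c : g * a * g⁻¹ ∈ C[P]) :
    ∃ n ∈ normalizer ((P : Subgroup G) : Set G), n * a * n⁻¹ = g * a * g⁻¹ :=
  (exists_normalizer_conj_eq_of_centralizer P (A := {a}) (g := g) (by simpa) (by simpa)).imp fun _ e => ⟨e.1, e.2 a rfl⟩

namespace Q4

theorem iso (h : Q4 P z) (c : g * z * g⁻¹ ∈ C[P]) : g * z * g⁻¹ = z := by
  obtain ⟨n, hn, e⟩ := fus h.zc c
  exact e ▸ (Sylow.smul_eq_iff_mem_normalizer.2 hn ▸ h.smul n).uniq h

variable [IsSimpleGroup G] (hna : ¬ IsMulCommutative G) (h : Q4 P z)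
include hna h

theorem exb : ∃ g : G, g * z * g⁻¹ ∈ (P : Subgroup G) ∧ g * z * g⁻¹ ∉ C[P] := by
  by_contra! k
  refine Gold.zstar (fun _ => hna ⟨⟨IsSimpleGroup.comm_iff_isSolvable.2 ?_⟩⟩) (BG.sylowIn_top P) h.zP h.zz h.z1
    fun g e => h.iso (k g e)
  exact solvable_of_surjective (f := (⊤ : Subgroup G).subtype) fun g => ⟨⟨g, trivial⟩, rfl⟩

theorem sc_bot (hA : A ≤ (P : Subgroup G) ⊓ C[P]) (hN : ∀ n ∈ normalizer ((P : Subgroup G) : Set G), ∀ a ∈ A, n * a * n⁻¹ ∈ A)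
    (hc : ∀ a ∈ A, ∀ g : G, g * a * g⁻¹ ∈ (P : Subgroup G) → g * a * g⁻¹ ∈ C[P]) : A = ⊥ := by_contra fun n => by
  obtain ⟨g, hg, ng⟩ := h.exb hna
  refine ng (hA ((LieM.struct_of (fun {_ _ _} => S2775.result) hna P ⟨⟨fun a b => Subtype.ext ((hA b.2).2 a (hA a.2).1)⟩⟩ n
    ⟨hA.trans inf_le_left, fun a ha g e => ?_⟩).1 _ hg (by rw [conj_mul, h.zz, mul_one, mul_inv_cancel]))).2
  obtain ⟨n, hn, e⟩ := fus (hA ha).2 (hc a ha g e)
  exact e ▸ hN n hn a ha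

theorem elem (ha : a ∈ (P : Subgroup G)) (c : a ∈ C[P]) : a * a = 1 := by
  let A : Subgroup G :=
    { carrier := {x | ∃ y ∈ (P : Subgroup G) ⊓ C[P], y * y = x}
      mul_mem' := by
        rintro _ _ ⟨y, hy, rfl⟩ ⟨w, hw, rfl⟩
        exact ⟨y * w, mul_mem hy hw, by rw [mul_assoc, ← mul_assoc w, hy.2 w hw.1, mul_assoc, mul_assoc]⟩
      one_mem' := ⟨1, one_mem _, mul_one 1⟩
      inv_mem' := by
        rintro _ ⟨y, hy, rfl⟩
        exact ⟨y⁻¹, inv_mem hy, (mul_inv_rev y y).symm⟩ }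
  refine mem_bot.1 (h.sc_bot hna (A := A) ?_ ?_ ?_ ▸ ⟨a, ⟨ha, c⟩, rfl⟩)
  · rintro _ ⟨y, hy, rfl⟩; exact mul_mem hy hy
  · rintro n hn _ ⟨y, hy, rfl⟩
    refine ⟨n * y * n⁻¹, ⟨(mem_normalizer_iff.1 hn y).1 hy.1, ?_⟩, conj_mul⟩
    exact Sylow.smul_eq_iff_mem_normalizer.2 hn ▸ cen_smul.2 (by simpa [mul_assoc] using hy.2)
  · rintro _ ⟨y, hy, rfl⟩ g hg
    by_contra n
    obtain ⟨k, e, l⟩ := extremal P (mul_mem hy.2 hy.2) g
    refine n (Eq.subst ?_ (h.sq (mem_conj_smul.1 ((((h.mx hg n).smul k).of_le l).cen h hy.1 hy.2)).1))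
    conv_lhs => rw [show k⁻¹ * y * k * (k⁻¹ * y * k) = k⁻¹ * (y * y) * k by group, ← e]
    group

theorem ybot (ha : a ∈ (P : Subgroup G)) (c : a ∈ C[P]) (k : ∀ E (P' : Sylow 2 G), Mx P E → E ≤ P' → a ∈ C[P']) : a = 1 := by
  let A : Subgroup G :=
    { carrier := {a | a ∈ (P : Subgroup G) ⊓ C[P] ∧ ∀ E (P' : Sylow 2 G), Mx P E → E ≤ P' → a ∈ C[P']}
      mul_mem' := fun ha hb => ⟨mul_mem ha.1 hb.1, fun E P' m l => mul_mem (ha.2 E P' m l) (hb.2 E P' m l)⟩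
      one_mem' := ⟨one_mem _, fun _ _ _ _ => one_mem _⟩
      inv_mem' := fun ha => ⟨inv_mem ha.1, fun E P' m l => inv_mem (ha.2 E P' m l)⟩ }
  refine mem_bot.1 (h.sc_bot hna (A := A) (fun a ha => ha.1)
    (fun n hn a ha => ?_) (fun a ha g hg => by_contra fun n => ?_) ▸ ⟨⟨ha, c⟩, k⟩)
  · have e := Sylow.smul_eq_iff_mem_normalizer.2 hn
    refine ⟨⟨(mem_normalizer_iff.1 hn a).1 ha.1.1, e ▸ cen_smul.2 (by simpa [mul_assoc] using ha.1.2)⟩, fun E P' m l => ?_⟩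
    simpa using cen_smul.1 (ha.2 _ (n⁻¹ • P') (Sylow.smul_eq_iff_mem_normalizer.2 (inv_mem hn) ▸ m.smul n⁻¹)
      (pointwise_smul_le_pointwise_smul_iff.2 l))
  · obtain ⟨x, e, l⟩ := extremal P ha.1.2 g
    have := cen_smul.1 (ha.2 _ (x • P) (((h.mx hg n).smul x).of_le l) (pointwise_smul_le_pointwise_smul_iff.2 inf_le_left))
    exact n (by rw [← e] at this; simpa [mul_assoc] using this)

theorem center_two (ha : y ∈ (P : Subgroup G)) (c : y ∈ C[P]) : y = 1 ∨ y = z := by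
  obtain ⟨g, hb, nb⟩ := h.exb hna
  obtain ⟨k, e, l⟩ := extremal P h.zc g
  have cb : IsConj z (g * z * g⁻¹) := isConj_iff.2 ⟨g, rfl⟩
  generalize g * z * g⁻¹ = b at hb nb e l cb
  have h₂ : Q4 (k⁻¹ • P) b := by simpa [← e, mul_assoc] using h.smul k⁻¹
  have m₁ := h.mx hb nb
  have l₂ : (P : Subgroup G) ⊓ centralizer {b} ≤ (k⁻¹ • P : Sylow 2 G) := fun x hx =>
    mem_smul.2 (by simpa using conj_smul_le_iff.1 l x hx)
  have b₁ : b ∈ (P : Subgroup G) ⊓ centralizer {b} := ⟨hb, mem_centralizer_singleton_iff.2 rfl⟩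
  have n₂ : z ∉ C[k⁻¹ • P] := fun c => nb ((h.cen_iff h₂ m₁ l₂ c b₁).1 h₂.zc)
  have alt : ∀ {E P' u a}, Q4 P' u → Mx P E → E ≤ P' → z ∉ C[P'] → a ∈ (P : Subgroup G) → a ∈ C[P] → a ∉ C[P'] →
      a * z ∈ C[P'] := fun h' m l n ha c na => (m.of_le l).two h' (m.cen h ha c) (m.cen h h.zP h.zc) na n
  have key : ∀ {E E'} {P' P'' : Sylow 2 G} {u a}, Q4 P' u → Mx P E → E ≤ P' → z ∉ C[P'] → u ∉ C[P] → a ∈ (P : Subgroup G) → a ∈ C[P] →
      a ∈ C[P'] → Mx P E' → E' ≤ P'' → (z ∉ C[P''] → u ∈ E') → a ∈ C[P''] := fun {E E' P' P'' u a} h' m l n nu ha c c' m' l' f => by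
    obtain ⟨x, h''⟩ := h.exists_conj P''
    by_cases k : z ∈ C[P'']
    · exact (h.cen_iff h'' m' l' k (m'.cen h ha c)).2 c
    · obtain rfl := (m.eq_cen h ((m.of_le l).cen h' h'.zP h'.zc) nu).trans (m'.eq_cen h (f k) nu).symm
      exact h.cen_three h' h'' m l l' n (m.cen h ha c) c c'
  have fin : ∀ {a}, a * z = 1 → a = z := fun e => mul_right_cancel (e.trans h.zz.symm)
  by_cases all : ∀ E (P' : Sylow 2 G), Mx P E → E ≤ P' → z ∉ C[P'] → b ∈ E
  · have : ∀ a ∈ (P : Subgroup G), a ∈ C[P] → a ∈ C[k⁻¹ • P] → a = 1 := fun a ha c c' =>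
      h.ybot hna ha c fun E P' m l => key h₂ m₁ l₂ n₂ nb ha c c' m l (all E P' m l)
    exact (em _).imp (this y ha c) fun n => fin (this _ (mul_mem ha h.zP) (mul_mem c h.zc) (alt h₂ m₁ l₂ n₂ ha c n))
  push Not at all
  obtain ⟨E₂, P₃, m₂, l₃, n₃, nb'⟩ := all
  obtain ⟨x, h₃⟩ := h.exists_conj P₃
  have cv : IsConj z (x * z * x⁻¹) := isConj_iff.2 ⟨x, rfl⟩
  generalize x * z * x⁻¹ = v at h₃ cv
  have v₂ := (m₂.of_le l₃).cen h₃ h₃.zP h₃.zc
  have hv := m₂.le v₂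
  have nu : ∀ {E P' u}, Q4 P' u → Mx P E → E ≤ P' → z ∉ C[P'] → u ∉ C[P] := fun h' m l n c =>
    n ((h'.cen_iff h (m.of_le l) m.le c (m.cen h h.zP h.zc)).1 h.zc)
  have nv := nu h₃ m₂ l₃ n₃
  have bv : b * v ≠ v * b := fun e => nb' (m₂.eq_cen h v₂ nv ▸ ⟨hb, mem_centralizer_singleton_iff.2 e⟩)
  have vb := (h.comm v hv b hb).resolve_left bv.symm
  have sq : b * v * (b * v) = z := by
    rw [mul_assoc, ← mul_assoc v, vb, mul_assoc _ z, ← h.zc v hv, mul_assoc b, ← mul_assoc v, h₃.zz, one_mul,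
      ← mul_assoc, h₂.zz, one_mul]
  have one : ∀ a ∈ (P : Subgroup G), a ∈ C[P] → a ∈ C[k⁻¹ • P] → a ∈ C[P₃] → a = 1 := fun a ha c c₂ c₃ =>
    h.ybot hna ha c fun E P' m l => by
      by_cases k : z ∉ C[P'] → b ∈ E
      · exact key h₂ m₁ l₂ n₂ nb ha c c₂ m l k
      refine key h₃ m₂ l₃ n₃ nv ha c c₃ m l fun n => ?_
      obtain ⟨x, h'⟩ := h.exists_conj P'
      generalize x * z * x⁻¹ = u at h'
      have hu := (m.of_le l).cen h' h'.zP h'.zc
      rcases h.three b hb v hv bv u (m.le hu) with c | c | c | c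
      · exact (nu h' m l n c).elim
      · exact (k fun _ => (mul_mem_cancel_right hu).1 (m.cen h (mul_mem hb (m.le hu)) c)).elim
      · exact (mul_mem_cancel_right hu).1 (m.cen h (mul_mem hv (m.le hu)) c)
      · refine (h.z1 ?_).elim
        have := h.elem hna (mul_mem (mul_mem hb hv) (m.le hu)) c
        rwa [mul_assoc (b * v) u, c u (m.le hu), mul_assoc (b * v) u u, h'.zz, mul_one, sq] at this
  by_contra! ny
  have four : ∀ a ∈ (P : Subgroup G), a ∈ C[P] → a = 1 ∨ a = z ∨ a * y = 1 ∨ a * y = z := fun a ha ca => by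
    have f : ∀ a ∈ (P : Subgroup G), a ∈ C[P] → ∀ y ∈ (P : Subgroup G), y ∈ C[P] → a ∈ C[k⁻¹ • P] → y ∈ C[k⁻¹ • P] →
        a = 1 ∨ y = 1 ∨ a * y = 1 := fun a ha ca y hy cy c₁ c₂ => by
      by_contra! n
      exact n.2.2 (one _ (mul_mem ha hy) (mul_mem ca cy) (mul_mem c₁ c₂) ((m₂.of_le l₃).two h₃ (m₂.cen h ha ca)
        (m₂.cen h hy cy) (fun e => n.1 (one a ha ca c₁ e)) fun e => n.2.1 (one y hy cy c₂ e)))
    have az := mul_mem ha h.zP
    have yz := mul_mem ‹y ∈ _› h.zP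
    by_cases c₁ : a ∈ C[k⁻¹ • P] <;> by_cases c₂ : y ∈ C[k⁻¹ • P]
    · have := f a ha ca y ‹_› c c₁ c₂; tauto
    · rcases f a ha ca _ yz (mul_mem c h.zc) c₁ (alt h₂ m₁ l₂ n₂ ‹_› c c₂) with e | e | e
      exacts [.inl e, (ny.2 (fin e)).elim, .inr (.inr (.inr (fin (mul_assoc a y z ▸ e))))]
    · rcases f _ az (mul_mem ca h.zc) y ‹_› c (alt h₂ m₁ l₂ n₂ ha ca c₁) c₂ with e | e | e
      exacts [.inr (.inl (fin e)), (ny.1 e).elim, .inr (.inr (.inr (fin (by rwa [mul_assoc, h.zc y ‹_›, ← mul_assoc]))))]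
    · rcases f _ az (mul_mem ca h.zc) _ yz (mul_mem c h.zc) (alt h₂ m₁ l₂ n₂ ha ca c₁) (alt h₂ m₁ l₂ n₂ ‹_› c c₂) with e | e | e
      exacts [.inr (.inl (fin e)), (ny.2 (fin e)).elim, .inr (.inr (.inl (by
        rwa [h.zc y ‹_›, mul_assoc, ← mul_assoc z, h.zz, one_mul] at e)))]
  let T : G → Prop := fun w => w = 1 ∨ w = b ∨ w = v ∨ w = b * v
  have zz : ∀ w, w * z * z = w := fun w => by rw [mul_assoc, h.zz, mul_one]
  have vbv : v * (b * v) = b * z := by rw [← mul_assoc, vb, mul_assoc, ← h.zc v hv, mul_assoc, ← mul_assoc v, h₃.zz, one_mul]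
  have S : ∀ w ∈ closure {b, v}, T w ∨ T (w * z) := fun w hw => by
    have f : ∀ s ∈ ({b, v} : Set G), ∀ w, T w → T (s * w) ∨ T (s * w * z) := by
      intro s hs w hw
      simp only [Set.mem_insert_iff, Set.mem_singleton_iff] at hs
      rcases hs with e | e <;> rcases hw with e' | e' | e' | e' <;> rw [e, e'] <;>
        simp [T, h₂.zz, h₃.zz, vb, vbv, zz, ← mul_assoc b b]
    have f' : ∀ s ∈ ({b, v} : Set G), ∀ w, T w ∨ T (w * z) → T (s * w) ∨ T (s * w * z) := fun s hs w k =>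
      k.elim (f s hs w) fun k => by simpa only [← mul_assoc, zz, or_comm] using f s hs _ k
    induction hw using closure_induction_left with
    | one => exact .inl (.inl rfl)
    | mul_left s hs w _ k => exact f' s hs w k
    | inv_mul_cancel s hs w _ k =>
      rw [show s⁻¹ = s from inv_eq_of_mul_eq_one_right (by rcases hs with rfl | rfl; exacts [h₂.zz, h₃.zz])]
      exact f' s hs w k
  have bQ : b ∈ closure {b, v} := subset_closure (.inl rfl)
  have vQ : v ∈ closure {b, v} := subset_closure (.inr rfl)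
  have zQ : z ∈ closure {b, v} := sq ▸ mul_mem (mul_mem bQ vQ) (mul_mem bQ vQ)
  have nT : ∀ w, w ∈ C[P] → T w → w = 1 := by
    rintro w c (rfl | rfl | rfl | rfl)
    exacts [rfl, (nb c).elim, (nv c).elim, (bv (mul_left_cancel (a := b) (by rw [c b hb, mul_assoc]))).elim]
  have yQ : y ∉ closure {b, v} := fun e => (S y e).elim (fun k => ny.1 (nT y c k))
    fun k => ny.2 (fin (nT _ (mul_mem c h.zc) k))
  have hp : commutator G = ⊤ := (IsSimpleGroup.eq_bot_or_eq_top_of_normal _ inferInstance).resolve_left fun e =>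
    hna ⟨⟨fun a b => commutatorElement_eq_one_iff_mul_comm.1 (mem_bot.1 (e ▸ commutator_mem_commutator (mem_top a) (mem_top b)))⟩⟩
  obtain ⟨g, -, hg⟩ := Invol.thompson_transfer (AB.index_ne_two hp) P (Q := closure {b, v})
    (relIndex_eq_two_iff.2 ⟨y, ha, fun x hx => by
      have f : ∀ w ∈ closure {b, v}, w ∈ (P : Subgroup G) → w * x ∈ C[P] → x * y ∈ closure {b, v} ∨ x ∈ closure {b, v} :=
        fun w hw hw' c => by
          rw [← mul_mem_cancel_left hw, ← mul_mem_cancel_left (y := x) hw, ← mul_assoc]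
          rcases four _ (mul_mem hw' hx) c with e | e | e | e <;> simp [e, zQ]
      have : x * y ∈ closure {b, v} ∨ x ∈ closure {b, v} := by
        rcases h.three b hb v hv bv x hx with e | e | e | e
        exacts [f 1 (one_mem _) (one_mem _) (by rwa [one_mul]), f b bQ hb e, f v vQ hv e,
          f _ (mul_mem bQ vQ) (mul_mem hb hv) e]
      by_cases k : x ∈ closure {b, v}
      · exact .inr ⟨k, fun e => yQ ((mul_mem_cancel_left k).1 e)⟩
      · exact .inl ⟨this.resolve_right k, k⟩⟩) (h.elem hna ha c) ha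
  have u1 : g * y * g⁻¹ ≠ 1 := by simpa using ny.1
  have uu : g * y * g⁻¹ * (g * y * g⁻¹) = 1 := by rw [conj_mul, h.elem hna ha c, mul_one, mul_inv_cancel]
  have cu : IsConj z (g * y * g⁻¹) := by
    generalize g * y * g⁻¹ = u at hg u1 uu
    rcases S u hg with (e | e | e | e) | e
    · exact (u1 e).elim
    · exact e ▸ cb
    · exact e ▸ cv
    · exact (h.z1 (by rw [← sq, ← e, uu])).elim
    rw [← zz u] at uu ⊢
    rcases e with e | e | e | e <;> rw [e] at uu ⊢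
    · rw [one_mul]
    · exact cb.trans (isConj_iff.2 ⟨v, by rw [← vbv, inv_eq_of_mul_eq_one_right h₃.zz, mul_assoc]⟩)
    · exact cv.trans (isConj_iff.2 ⟨b, by
        rw [inv_eq_of_mul_eq_one_right h₂.zz, mul_assoc, vb, ← mul_assoc, ← mul_assoc, h₂.zz, one_mul]⟩)
    · refine (h.z1 ?_).elim
      rwa [← mul_assoc, mul_assoc _ z, ← h.zc _ (mul_mem hb hv), ← mul_assoc, zz, sq] at uu
  obtain ⟨w, e⟩ := isConj_iff.1 (cu.trans (isConj_iff.2 ⟨g, rfl⟩).symm)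
  exact ny.2 (e ▸ h.iso (e ▸ c))

theorem dihedral : ∃ n, 2 ≤ n ∧ Nonempty ((P : Subgroup G) ≃* DihedralGroup n) := by
  obtain ⟨g, hb, nb⟩ := h.exb hna
  have bb : g * z * g⁻¹ * (g * z * g⁻¹) = 1 := by rw [conj_mul, h.zz, mul_one, mul_inv_cancel]
  generalize g * z * g⁻¹ = b at hb nb bb
  obtain ⟨c, hc, n, cc⟩ : ∃ c ∈ (P : Subgroup G), c * b ≠ b * c ∧ c * c = z := by
    obtain ⟨a, ha, n⟩ : ∃ a ∈ (P : Subgroup G), a * b ≠ b * a := by
      by_contra! k; exact nb k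
    rcases h.center_two hna (mul_mem ha ha) (h.sq ha) with e | e
    · refine ⟨b * a, mul_mem hb ha, fun e => n (mul_left_cancel (a := b) (by rw [← e, mul_assoc])), ?_⟩
      rw [mul_assoc, ← mul_assoc a, (h.comm a ha b hb).resolve_left n, mul_assoc _ z, ← h.zc a ha, mul_assoc b,
        ← mul_assoc a, e, one_mul, ← mul_assoc, bb, one_mul]
    · exact ⟨a, ha, n, e⟩
  have nc : c ∉ C[P] := fun e => n (e b hb).symm
  have m := h.mx hc nc
  have zT : z ∈ zpowers c := cc ▸ mul_mem (mem_zpowers c) (mem_zpowers c)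
  have e : zpowers c = (P : Subgroup G) ⊓ centralizer {c} := le_antisymm (zpowers_le.2 ⟨hc, mem_centralizer_singleton_iff.2 rfl⟩) fun x hx => by
    have f : ∀ w ∈ (P : Subgroup G), w ∈ C[P] → w ∈ zpowers c := fun w hw cw => by
      rcases h.center_two hna hw cw with rfl | rfl
      exacts [one_mem _, zT]
    by_cases k : x ∈ C[P]
    · exact f x hx.1 k
    · exact (mul_mem_cancel_left (mem_zpowers c)).1
        (f _ (mul_mem hc hx.1) (h.four hc nc hx.1 (mem_centralizer_singleton_iff.1 hx.2) k))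
  have nb' : b ∉ zpowers c := fun k => n (mem_centralizer_singleton_iff.1 (e ▸ k).2).symm
  refine ⟨_, ?_, Classical.nonempty_equiv_dihedral_of_cyclic (T := zpowers c) inferInstance bb (fun t ht => ?_) nb'
    fun d => ⟨fun hd => or_iff_not_imp_left.2 fun k => ?_, fun k => ?_⟩⟩
  · exact (one_lt_card_iff_ne_bot _).2 fun k => h.z1 (mem_bot.1 (k ▸ zT))
  · obtain ⟨i, rfl⟩ := mem_zpowers_iff.1 ht
    rw [← conj_zpow, ← inv_zpow, (h.comm b hb c hc).resolve_left n.symm, mul_assoc c, h.zc b hb, ← mul_assoc,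
      mul_inv_cancel_right, eq_inv_of_mul_eq_one_left (a := c * z) (b := c) (by
        rw [mul_assoc, ← h.zc c hc, ← mul_assoc, cc, h.zz])]
  · exact e ▸ m.mul_mem (inv_mem hb) hd (e ▸ mt inv_mem_iff.1 nb') (e ▸ k)
  · exact k.elim (fun k => (e ▸ k).1) fun k => (mul_mem_cancel_left (inv_mem hb)).1 (e ▸ k).1

end Q4

end Cfsg.Agent.FG
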