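import Cfsg.Agent.Perm.Regular
import Cfsg.Agent.Sig.FStar
import Cfsg.Agent.Loc.Res
import Cfsg.Agent.BG.Base1

/-! Point stabilizers of primitive groups: the Thompson–Wielandt theorem for an orbital `r`. -/

set_option autoImplicit false

open MulAction Subgroup Cfsg.Agent.Sig
open scoped Cfsg.Agent.BG Nat

namespace Cfsg.Agent.FG

variable {G Ω : Type*} [Group G] [MulAction G Ω] {a b : Ω} {X P : Subgroup G} {r : Ω → Ω → Prop} {p q : ℕ}

local notation "St" => stabilizer G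

theorem card_stabilizer_eq [IsPretransitive G Ω] (a b : Ω) : #(St a) = #(St b) := by
  obtain ⟨g, rfl⟩ := exists_smul_eq G a b
  rw [stabilizer_smul_eq_stabilizer_map_conj, card_map_of_injective (MulAut.conj g).injective]

theorem relIndex_stabilizer_comm [Finite G] [IsPretransitive G Ω] (a b : Ω) :
    (St a).relIndex (St b) = (St b).relIndex (St a) := Nat.eq_of_mul_eq_mul_left (BG.cardG_pos (St a ⊓ St b)) (by
  rw [BG.card_inf_mul_relIndex, inf_comm, BG.card_inf_mul_relIndex, card_stabilizer_eq a b])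

theorem relIndex_fixing_dvd [Finite Ω] {ι : Type*} [Fintype ι] (H : Subgroup G) (T : ι → Set Ω)
    (hT : ∀ g ∈ H, ∀ i, ∀ x ∈ T i, g • x ∈ T i) : (⨅ i, fixingSubgroup G (T i)).relIndex H ∣ ∏ i, (T i).ncard ! := by
  classical
  let S : ι → SubMulAction H Ω := fun i => ⟨T i, fun g _ hx => hT g g.2 i _ hx⟩
  let f : H →* Π i, Equiv.Perm (S i) := MonoidHom.pi fun i => toPermHom H (S i)
  have : (⨅ i, fixingSubgroup G (T i)).subgroupOf H = f.ker := by
    ext g
    simp only [mem_subgroupOf, mem_iInf, mem_fixingSubgroup_iff, MonoidHom.mem_ker, funext_iff, Equiv.ext_iff]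
    exact forall_congr' fun i => ⟨fun h x => Subtype.ext (h x x.2), fun h x hx => congrArg Subtype.val (h ⟨x, hx⟩)⟩
  rw [relIndex, this, index_ker]
  refine (card_subgroup_dvd_card _).trans (dvd_of_eq ?_)
  rw [Nat.card_pi]
  exact Finset.prod_congr rfl fun i _ => Nat.card_perm

theorem norm_pResidualOf {L S : Subgroup G} (hP : IsPGroup p P) (h1 : P ≤ N[S]) (h2 : S ≤ N[P]) (h3 : L ≤ S)
    (h4 : S ≤ N[L]) : P ≤ N[pResidualOf p L] := by
  rw [Loc.pResidualOf_eq_of_le (H := L ⊔ pcIn p S) (Loc.pResidualOf_le_of_le_sup isPGroup_pcIn (pcIn_le.trans h4) le_rfl)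
    le_sup_left]
  refine le_trans (BG.norm_of_commg_subl ((commutator_mono (sup_le h3 pcIn_le) le_rfl).trans ?_))
    (Loc.normalizer_le_normalizer_pResidualOf _ _)
  exact (le_inf (BG.commg_subr h2) (BG.commg_subl h1)).trans
    ((le_pcIn inf_le_right (BG.normsI h2 le_normalizer) hP.to_inf_left).trans le_sup_right)

section Prim

variable [FaithfulSMul G Ω] [IsPreprimitive G Ω]

theorem norm_le_stabilizer (h0 : X ≠ ⊥) (h1 : X ≤ St a) (h2 : St a ≤ N[X]) : N[X] ≤ St a := by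
  obtain ⟨⟨x, hx⟩, x1⟩ := ne_bot_iff_exists_ne_one.1 h0
  obtain ⟨c, hc⟩ := Perm.exists_smul_ne (α := Ω) fun e : x = 1 => x1 (Subtype.ext e)
  haveI : Nontrivial Ω := ⟨_, _, hc⟩
  refine (((IsPreprimitive.isCoatom_stabilizer_of_isPreprimitive G a).le_iff.1 h2).resolve_left fun e => hc ?_).le
  obtain ⟨g, rfl⟩ := exists_smul_eq G a c
  have := h1 ((normalizer_eq_top_iff.1 e).conj_mem' x hx g)
  rwa [mem_stabilizer_iff, mul_smul, mul_smul, inv_smul_eq_iff] at this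

theorem stabilizer_eq_bot_of_le (hab : a ≠ b) (h : St a ≤ St b) : St a = ⊥ := by
  haveI : Nontrivial Ω := ⟨a, b, hab⟩
  have h2 := ((IsPreprimitive.isCoatom_stabilizer_of_isPreprimitive G a).le_iff.1 h).resolve_left
    (IsPreprimitive.isCoatom_stabilizer_of_isPreprimitive G b).1
  obtain ⟨g, rfl⟩ := exists_smul_eq G a b
  exact by_contra fun e => hab (norm_le_stabilizer e le_rfl le_normalizer (mem_normalizer_iff_map_conj.2
    ((stabilizer_smul_eq_stabilizer_map_conj g a).symm.trans h2))).symm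

theorem eq_bot_of_norm (hab : a ≠ b) (h : X ≤ St a) (ha : St a ≤ N[X]) (hb : St b ≤ N[X]) : X = ⊥ :=
  haveI : Nontrivial Ω := ⟨a, b, hab⟩
  by_contra fun e => e (eq_bot_mono (h.trans (((IsPreprimitive.isCoatom_stabilizer_of_isPreprimitive G b).le_iff.1
    (hb.trans (norm_le_stabilizer e h ha))).resolve_left (IsPreprimitive.isCoatom_stabilizer_of_isPreprimitive G a).1).le)
    (stabilizer_eq_bot_of_le hab.symm (hb.trans (norm_le_stabilizer e h ha))))

omit [FaithfulSMul G Ω] in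
theorem functor_eq [Finite G] {F : Subgroup G → Subgroup G}
    (h2 : ∀ g K, (F K).map (MulAut.conj g).toMonoidHom = F (K.map (MulAut.conj g).toMonoidHom))
    (h : F (St a) ≤ F (St b)) : F (St a) = F (St b) := by
  refine eq_of_le_of_card_ge h (le_of_eq ?_)
  obtain ⟨g, rfl⟩ := exists_smul_eq G a b
  exact (congrArg (fun K => #(F K)) (stabilizer_smul_eq_stabilizer_map_conj g a)).trans
    ((congrArg (fun K => #K) (h2 g _)).symm.trans (card_map_of_injective (MulAut.conj g).injective))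

theorem functor_eq_bot [Finite G] {F : Subgroup G → Subgroup G} (h1 : ∀ K, F K ≤ K)
    (h2 : ∀ g K, (F K).map (MulAut.conj g).toMonoidHom = F (K.map (MulAut.conj g).toMonoidHom)) (hab : a ≠ b)
    (h : F (St a) ≤ F (St b)) : F (St a) = ⊥ :=
  have h3 : ∀ K, K ≤ N[F K] := fun K g hg => mem_normalizer_iff_map_conj.2 (by
    rw [h2, mem_normalizer_iff_map_conj.1 (le_normalizer hg)])
  eq_bot_of_norm hab (h1 _) (h3 _) (functor_eq h2 h ▸ h3 _)

end Prim

variable (G) in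
/-- `r` is a non-diagonal orbital. -/
structure Orbital (r : Ω → Ω → Prop) : Prop where
  smul : ∀ (g : G) {a b}, r a b → r (g • a) (g • b)
  trans : ∀ {a b a' b'}, r a b → r a' b' → ∃ g : G, g • a = a' ∧ g • b = b'
  ne : ∀ {a b}, r a b → a ≠ b
  ex : ∃ a b, r a b

variable (G) in
/-- The kernel of the action of `G_a` on the suborbit `r a`. -/
def OKer (r : Ω → Ω → Prop) (a : Ω) : Subgroup G := St a ⊓ fixingSubgroup G {b | r a b}

variable (G) in
/-- The second kernel. -/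
def OKer2 (r : Ω → Ω → Prop) (a : Ω) : Subgroup G := OKer G r a ⊓ ⨅ b : {b | r a b}, fixingSubgroup G {c | r c b}

theorem mem_OKer {g : G} : g ∈ OKer G r a ↔ g • a = a ∧ ∀ b, r a b → g • b = b :=
  and_congr_right' (mem_fixingSubgroup_iff G)

theorem mem_OKer2 {g : G} : g ∈ OKer2 G r a ↔ g ∈ OKer G r a ∧ ∀ b, r a b → ∀ c, r c b → g • c = c := by
  simp [OKer2, mem_fixingSubgroup_iff]

theorem le_OKer (h : X ≤ St a) (h' : ∀ b, r a b → X ≤ St b) : X ≤ OKer G r a :=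
  fun _ hg => mem_OKer.2 ⟨h hg, fun b hb => h' b hb hg⟩

theorem OKer_le : OKer G r a ≤ St a := inf_le_left
theorem OKer_le' (h : r a b) : OKer G r a ≤ St b := fun _ hg => (mem_OKer.1 hg).2 b h
theorem OKer2_le : OKer2 G r a ≤ OKer G r a := inf_le_left
theorem OKer2_le' (h : r a b) : OKer2 G r a ≤ OKer G (flip r) b :=
  fun _ hg => mem_OKer.2 ⟨OKer_le' h hg.1, (mem_OKer2.1 hg).2 b h⟩

theorem orbital_mk (h : a ≠ b) : Orbital G fun x y => ∃ g : G, g • a = x ∧ g • b = y :=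
  ⟨by rintro g _ _ ⟨k, rfl, rfl⟩; exact ⟨g * k, mul_smul .., mul_smul ..⟩,
    by rintro _ _ _ _ ⟨g, rfl, rfl⟩ ⟨k, rfl, rfl⟩; exact ⟨k * g⁻¹, by simp [mul_smul], by simp [mul_smul]⟩,
    by rintro _ _ ⟨g, rfl, rfl⟩ e; exact h (smul_left_cancel g e), ⟨a, b, 1, one_smul .., one_smul ..⟩⟩

namespace Orbital

variable (hr : Orbital G r)
include hr

theorem flip : Orbital G (flip r) :=
  ⟨fun g _ _ h => hr.smul g h, fun h h' => (hr.trans h h').imp fun _ => And.symm, fun h => (hr.ne h).symm,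
    let ⟨a, b, h⟩ := hr.ex; ⟨b, a, h⟩⟩

theorem exists_rel [IsPretransitive G Ω] (a : Ω) : ∃ b, r a b := by
  obtain ⟨c, b, h⟩ := hr.ex
  obtain ⟨g, rfl⟩ := exists_smul_eq G c a
  exact ⟨_, hr.smul g h⟩

theorem smul_iff (g : G) : r (g • a) b ↔ r a (g⁻¹ • b) :=
  ⟨fun h => by simpa using hr.smul g⁻¹ h, fun h => by simpa using hr.smul g h⟩

theorem orbit_eq (h : r a b) : orbit (St a) b = {c | r a c} := Set.ext fun c =>
  ⟨by rintro ⟨g, rfl⟩; exact (congrArg (r · _) g.2).mp (hr.smul (g : G) h), fun h' => let ⟨g, h1, h2⟩ := hr.trans h h'; ⟨⟨g, h1⟩, h2⟩⟩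

theorem ncard_eq (h : r a b) : {c | r a c}.ncard = (St b).relIndex (St a) :=
  hr.orbit_eq h ▸ (index_stabilizer (St a) b).symm

theorem map_OKer (g : G) (a : Ω) : (OKer G r a).map (MulAut.conj g).toMonoidHom = OKer G r (g • a) := by
  ext x
  rw [mem_map_equiv, mem_OKer, mem_OKer, (toPerm g).symm.surjective.forall]
  simp [mul_smul, inv_smul_eq_iff, hr.smul_iff]

theorem map_OKer2 (g : G) (a : Ω) : (OKer2 G r a).map (MulAut.conj g).toMonoidHom = OKer2 G r (g • a) := by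
  ext x
  rw [mem_map_equiv, mem_OKer2, mem_OKer2, ← hr.map_OKer, mem_map_equiv, (toPerm g).symm.surjective.forall]
  refine and_congr_right' (forall_congr' fun b => imp_congr (hr.smul_iff g).symm ?_)
  rw [(toPerm g).symm.surjective.forall]
  simp [mul_smul, inv_smul_eq_iff, hr.smul_iff]

theorem norm_OKer (a : Ω) : St a ≤ N[OKer G r a] := fun g hg =>
  mem_normalizer_iff_map_conj.2 (by rw [hr.map_OKer, hg])

theorem norm_OKer2 (a : Ω) : St a ≤ N[OKer2 G r a] := fun g hg =>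
  mem_normalizer_iff_map_conj.2 (by rw [hr.map_OKer2, hg])

theorem subn_OKer (a : Ω) : SubnIn (OKer G r a) (St a) := .of_normal OKer_le (hr.norm_OKer a)

theorem subn_OKer2 (h : r a b) : SubnIn (OKer2 G r a) (OKer G (_root_.flip r) b) :=
  .of_normal (OKer2_le' h) ((OKer_le' (r := _root_.flip r) h).trans (hr.norm_OKer2 a))

theorem isPGroup_OKer2 [IsPretransitive G Ω] (h : IsPGroup p (OKer2 G r a)) (b : Ω) : IsPGroup p (OKer2 G r b) := by
  obtain ⟨g, rfl⟩ := exists_smul_eq G a b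
  exact hr.map_OKer2 g a ▸ h.map _

theorem OKer2_eq_bot [IsPretransitive G Ω] (h : OKer2 G r a = ⊥) (b : Ω) : OKer2 G r b = ⊥ := by
  obtain ⟨g, rfl⟩ := exists_smul_eq G a b
  rw [← hr.map_OKer2, h, Subgroup.map_bot]

variable [Finite G] [Finite Ω]

theorem relIndex_dvd [IsPretransitive G Ω] (h : r a b) {d : ℕ} (hd : (St b).relIndex (St a) = d) :
    (OKer2 G r a).relIndex (St a) ∣ d ! * (d - 1)! ^ d := by
  haveI := Fintype.ofFinite {b | r a b}
  have h1 := relIndex_fixing_dvd (St a) (fun _ : Unit => {b | r a b}) fun g hg _ x hx => hg ▸ hr.smul g hx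
  have h2 := relIndex_fixing_dvd (OKer G r a) (fun b : {b | r a b} => {c | r c b} \ {a}) fun g hg c x hx =>
    ⟨OKer_le' c.2 hg ▸ hr.smul g hx.1, fun e => hx.2 (smul_left_cancel g (e.trans (OKer_le hg).symm))⟩
  rw [iInf_const, Fintype.prod_unique, hr.ncard_eq h, hd, ← inf_relIndex_left] at h1
  rw [Finset.prod_congr rfl (g := fun _ => (d - 1)!) fun c _ => by
      rw [Set.ncard_sdiff_singleton_of_mem (show a ∈ {x | r x c} from c.2), ← hd, ← hr.ncard_eq h, hr.ncard_eq c.2,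
        relIndex_stabilizer_comm, ← hr.flip.ncard_eq c.2]; rfl,
    Finset.prod_const, Finset.card_univ, ← Nat.card_eq_fintype_card, Nat.card_coe_set_eq, hr.ncard_eq h, hd,
    ← inf_relIndex_left] at h2
  rw [← relIndex_mul_relIndex _ _ _ OKer2_le OKer_le, mul_comm]
  refine mul_dvd_mul h1 ((relIndex_dvd_of_le_left _ ?_).trans h2)
  refine fun g hg => mem_OKer2.2 ⟨hg.1, fun c hc x hx => ?_⟩
  by_cases e : x = a
  · exact e ▸ OKer_le hg.1
  exact (mem_fixingSubgroup_iff G).1 (mem_iInf.1 hg.2 ⟨c, hc⟩) x ⟨hx, e⟩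

variable [FaithfulSMul G Ω] [IsPreprimitive G Ω]

omit [Finite Ω]

theorem le_OKer_of_isPGroup [Fact p.Prime] (h : ¬ IsPGroup p (OKer2 G r a)) (hP : IsPGroup p P) (h1 : P ≤ St b)
    (h2 : OKer G (_root_.flip r) b ≤ N[P]) : P ≤ OKer G (_root_.flip r) b := by
  refine le_OKer h1 fun c hc => le_trans (norm_pResidualOf hP (h1.trans (hr.flip.norm_OKer b)) h2 (OKer2_le' hc)
    ((OKer_le' (r := _root_.flip r) hc).trans (hr.norm_OKer2 c))) (norm_le_stabilizer
    (fun e => h (hr.isPGroup_OKer2 (Loc.isPGroup_of_pResidualOf_eq_bot e) a)) ((Loc.pResidualOf_le _ _).trans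
      (OKer2_le.trans OKer_le)) ((hr.norm_OKer2 c).trans (Loc.normalizer_le_normalizer_pResidualOf _ _)))

theorem pcIn_OKer_le [Fact p.Prime] (h : ¬ IsPGroup p (OKer2 G r a)) {c : Ω} (hc : r c b) :
    pcIn p (OKer G r c) ≤ pcIn p (St b) :=
  have h1 := le_normalizer_pcIn (p := p) ((OKer_le' (r := _root_.flip r) hc).trans (hr.norm_OKer c))
  (le_pcIn (hr.le_OKer_of_isPGroup h isPGroup_pcIn (pcIn_le.trans (OKer_le' hc)) h1) h1 isPGroup_pcIn).trans
    (pcIn_mono (hr.flip.subn_OKer b))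

theorem pcIn_eq_bot_of_le [Fact p.Prime] (h : ¬ IsPGroup p (OKer2 G r a)) {c : Ω} (hc : pcIn p (St c) ≤ OKer G r c) :
    pcIn p (St c) = ⊥ :=
  let ⟨_, hb⟩ := hr.exists_rel c
  functor_eq_bot (fun _ => pcIn_le) (fun g _ => cj_pcIn g) (hr.ne hb)
    ((le_pcIn hc (le_normalizer_pcIn (OKer_le.trans le_normalizer)) isPGroup_pcIn).trans (hr.pcIn_OKer_le h hb))

theorem pcIn_eq_bot [Fact p.Prime] (h : ¬ IsPGroup p (OKer2 G r a)) (h' : ¬ IsPGroup p (OKer2 G (_root_.flip r) b))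
    (c : Ω) : pcIn p (St c) = ⊥ :=
  hr.pcIn_eq_bot_of_le h (hr.flip.le_OKer_of_isPGroup h' isPGroup_pcIn pcIn_le (le_normalizer_pcIn (OKer_le.trans le_normalizer)))

theorem norm_OKer2_le (h : OKer2 G r a ≠ ⊥) (c : Ω) : N[OKer2 G r c] ≤ St c :=
  norm_le_stabilizer (fun e => h (hr.OKer2_eq_bot e a)) (OKer2_le.trans OKer_le) (hr.norm_OKer2 c)

theorem layerIn_eq_bot (h : OKer2 G r a ≠ ⊥) (h' : OKer2 G (_root_.flip r) b ≠ ⊥) (c : Ω) : layerIn (St c) = ⊥ := by
  obtain ⟨e, he⟩ := hr.exists_rel c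
  refine functor_eq_bot (fun K => layerIn_le K) (fun g _ => cj_layerIn g) (hr.ne he) (layerIn_le_iff.2 fun Y hY => ?_)
  have h1 : Y ≤ St e := hY.le_layerIn.trans ((layerIn_le_normalizer_of_subnIn ((hr.flip.subn_OKer2 he).trans
    (hr.subn_OKer c))).trans (hr.flip.norm_OKer2_le h' e))
  have h2 : Y ≤ OKer G (_root_.flip r) e := (hY.le_or_commutator_of_le_normalizer (OKer_le' (r := _root_.flip r) he)
    (h1.trans (hr.flip.norm_OKer e))).elim id fun h2 => le_OKer h1 fun x hx =>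
      (le_normalizer_of_commutator_eq_bot (commutator_eq_bot_mono h2 le_rfl (OKer2_le' hx))).trans (hr.norm_OKer2_le h x)
  exact ((hY.restrict h2 (OKer_le' (r := _root_.flip r) he)).trans (hr.flip.subn_OKer e)).le_layerIn

theorem fstarIn_eq [Fact p.Prime] (h : OKer2 G r a ≠ ⊥) (h' : OKer2 G (_root_.flip r) b ≠ ⊥)
    (hp : IsPGroup p (OKer2 G r a)) (c : Ω) : fstarIn (St c) = pcIn p (St c) := by
  rw [Sig.fstarIn_eq, hr.layerIn_eq_bot h h', bot_sup_eq]
  refine le_antisymm (fitIn_le_iff.2 fun q hq => ?_) pcIn_le_fitIn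
  haveI := Fact.mk hq
  rcases eq_or_ne q p with rfl | e
  · exact le_rfl
  have h1 : ¬ IsPGroup q (OKer2 G r a) := fun h1 => h (eq_bot_of_pgroup_coprime hp (coprime_of_isPGroup_of_ne e h1))
  refine le_of_eq_of_le ?_ bot_le
  by_cases h2 : IsPGroup q (OKer2 G (_root_.flip r) b)
  swap
  · exact hr.pcIn_eq_bot h1 h2 c
  refine hr.pcIn_eq_bot_of_le h1 (le_OKer pcIn_le fun x hx => le_trans (le_normalizer_of_commutator_eq_bot ?_)
    (norm_le_stabilizer (X := pcIn p (OKer G (_root_.flip r) x)) (fun e => h (hr.OKer2_eq_bot (eq_bot_mono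
      (le_pcIn_of_subnIn (hr.subn_OKer2 hx) (hr.isPGroup_OKer2 hp c)) e) a)) (pcIn_le.trans OKer_le)
      (le_normalizer_pcIn (hr.flip.norm_OKer x))))
  exact commutator_eq_bot_mono commutator_pcIn_ppIn le_rfl ((hr.flip.pcIn_OKer_le (fun h3 => h'
    (eq_bot_of_pgroup_coprime h3 (coprime_of_isPGroup_of_ne e h2))) hx).trans (le_ppIn pcIn_le
      (le_normalizer_pcIn le_normalizer) (coprime_of_isPGroup_of_ne e.symm isPGroup_pcIn)))

theorem exists_isPGroup (a b : Ω) :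
    ∃ p : ℕ, p.Prime ∧ (IsPGroup p (OKer2 G r a) ∨ IsPGroup p (OKer2 G (_root_.flip r) b)) := by
  by_contra! h
  have h1 : ∀ X : Subgroup G, ¬ IsPGroup 2 X → X ≠ ⊥ := fun X h e => h (e ▸ IsPGroup.of_bot)
  refine h1 _ (h 2 Nat.prime_two).1 (eq_bot_mono (OKer2_le.trans OKer_le) (fstarIn_eq_bot_iff.1 ?_))
  rw [Sig.fstarIn_eq, hr.layerIn_eq_bot (h1 _ (h 2 Nat.prime_two).1) (h1 _ (h 2 Nat.prime_two).2), bot_sup_eq]
  exact le_bot_iff.1 (fitIn_le_iff.2 fun q hq => haveI := Fact.mk hq; (hr.pcIn_eq_bot (h q hq).1 (h q hq).2 a).le)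

theorem card_dvd_or [Finite Ω] (h : r a b) {d : ℕ} (hd : (St b).relIndex (St a) = d) :
    #(St a) ∣ d ! * (d - 1)! ^ d ∨ OKer2 G r a ≠ ⊥ ∧ ∃ p : ℕ, p.Prime ∧ fstarIn (St a) = pcIn p (St a) := by
  by_cases h1 : OKer2 G r a = ⊥
  · exact .inl (by simpa [h1] using hr.relIndex_dvd h hd)
  by_cases h2 : OKer2 G (_root_.flip r) b = ⊥
  · exact .inl (card_stabilizer_eq (G := G) b a ▸ relIndex_bot_left (St b) ▸ h2 ▸
      hr.flip.relIndex_dvd h ((relIndex_stabilizer_comm a b).trans hd))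
  obtain ⟨p, hp, h3⟩ := hr.exists_isPGroup a b
  haveI := Fact.mk hp
  exact .inr ⟨h1, p, hp, h3.elim (fun h3 => hr.fstarIn_eq h1 h2 h3 a) fun h3 => hr.flip.fstarIn_eq h2 h1 h3 a⟩

end Orbital

end Cfsg.Agent.FG
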